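import Groth.Agent.RedSub.H635.UniqLoc
import Groth.Agent.Sga3B.SplitBc264b

/-!
# The root groups contained in a subgroup of type (R) do not change under base change

Over a connected base, with `H` smooth and immersed in the split group `G` and containing the torus: for every
base change `x : S' ⟶ S` with `S'` non-empty, the root group of `a` over `S'` factors through `H_{S'}` if and only if
it factors through `H` over `S`.
-/

set_option autoImplicit false
universe u

open CategoryTheory MonoidalCategory CartesianMonoidalCategory MonObj GrpObj AlgebraicGeometry Limits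

namespace K194.GeomRoots

open Groth.Agent.Sga3B.Cell Groth.Agent.Sga3B.Cell.Datum Groth.Agent.Sga3B Groth.Agent.Sga3B.PinMod
open Groth.Agent.Sga3B.DSPts Groth.Agent.Sga3B.GaPts Groth.Agent.Sga3B.SplitBc264
open Groth.Agent.RedSub.H635.Uniq

variable {S S' : Scheme.{u}} {G H : Over S} [GrpObj G] [GrpObj H] (D : Red.SplitRed G) (i : H ⟶ G)

/-- base change of the points of a root group -/
lemma bcEquiv_symm_root (x : S' ⟶ S) (a : D.idx) {X : Over S'} (z : Γ(X.left, ⊤)) :
    (bcEquiv x X G).symm (gaPt X z ≫ (splitBc x D).u a) =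
      gaPt ((Over.map x).obj X) z ≫ D.u a := by
  rw [splitBc_u]
  have h1 : gaPt X z ≫ (gaBcIso x).inv.hom.hom =
      bcEquiv x X (Red.Ga S) (gaPt ((Over.map x).obj X) z) := by
    have h2 : gaPt X z = bcEquiv x X (Red.Ga S) (gaPt ((Over.map x).obj X) z) ≫
        (gaBcIso x).hom.hom.hom := by
      have h3 := gaFn_gaBcIso x (bcEquiv x X (Red.Ga S) (gaPt ((Over.map x).obj X) z))
      rw [MulEquiv.symm_apply_apply, gaFn_gaPt] at h3
      rw [← gaPt_gaFn X (bcEquiv x X (Red.Ga S) (gaPt ((Over.map x).obj X) z) ≫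
        (gaBcIso x).hom.hom.hom), h3]
    rw [h2, Category.assoc, map_hom_inv, Category.comp_id]
  rw [← Category.assoc, h1, bcEquiv_comp, MulEquiv.symm_apply_apply]

/-- a lift of a point of the base-changed root group through `H_{S'}` is a lift over `S` through `H` -/
lemma lift_iff (x : S' ⟶ S) (a : D.idx) {X : Over S'} (z : Γ(X.left, ⊤)) :
    (∃ v : X ⟶ Red.bc x H, v ≫ (Over.pullback x).map i = gaPt X z ≫ (splitBc x D).u a) ↔
      ∃ v : (Over.map x).obj X ⟶ H, v ≫ i = gaPt ((Over.map x).obj X) z ≫ D.u a := by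
  constructor
  · rintro ⟨v, hv⟩
    refine ⟨(bcEquiv x X H).symm v, ?_⟩
    rw [← bcEquiv_symm_root, ← hv]
    apply (bcEquiv x X G).injective
    rw [← bcEquiv_comp, MulEquiv.apply_symm_apply, MulEquiv.apply_symm_apply]
  · rintro ⟨v, hv⟩
    refine ⟨bcEquiv x X H v, ?_⟩
    rw [bcEquiv_comp, hv, ← bcEquiv_symm_root, MulEquiv.apply_symm_apply]

lemma tg_bc (x : S' ⟶ S) (a : D.idx) (K : Type u) [Field K] (y : Spec (CommRingCat.of K) ⟶ S') :
    Tg (splitBc x D) ((Over.pullback x).map i) a K y ↔ Tg D i a K (y ≫ x) := by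
  refine (lift_iff D i x a (X := tB y (TrivSqZeroExt K K)) _).trans ?_
  exact ex_congr i (w := (Spec.map (CommRingCat.ofHom (algebraMap K (TrivSqZeroExt K K))) ≫ y) ≫ x)
    (w' := Spec.map (CommRingCat.ofHom (algebraMap K (TrivSqZeroExt K K))) ≫ y ≫ x)
    (Category.assoc _ _ _) _ _

lemma mem_E_of_mem_bc (x : S' ⟶ S) (a : D.idx) (σ : S') (h : σ ∈ E (splitBc x D) ((Over.pullback x).map i) a) :
    x σ ∈ E D i a := by
  obtain ⟨K, _, y, ⟨p, hp⟩, hy⟩ := h
  refine ⟨K, inferInstance, y ≫ x, ⟨p, ?_⟩, (tg_bc D i x a K y).mp hy⟩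
  rw [Scheme.Hom.comp_apply, hp]

lemma lift_bc_of_lift (x : S' ⟶ S) (a : D.idx) (h : ∃ v : Red.Ga S ⟶ H, v ≫ i = D.u a) :
    ∃ v : Red.Ga S' ⟶ Red.bc x H, v ≫ (Over.pullback x).map i = (splitBc x D).u a := by
  obtain ⟨v, hv⟩ := h
  refine ⟨(gaBcIso x).inv.hom.hom ≫ (Over.pullback x).map v, ?_⟩
  rw [Category.assoc, ← Functor.map_comp, hv]
  rfl

/-- **The root set is invariant under base change.** -/
theorem lift_bc_iff [ConnectedSpace S] [Nonempty S'] [IsMonHom i] [IsImmersion i.left] [Smooth H.hom]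
    (t : D.T ⟶ H) (ht : t ≫ i = D.i) (x : S' ⟶ S) (a : D.idx) :
    (∃ v : Red.Ga S' ⟶ Red.bc x H, v ≫ (Over.pullback x).map i = (splitBc x D).u a) ↔
      ∃ v : Red.Ga S ⟶ H, v ≫ i = D.u a := by
  constructor
  · intro h
    obtain ⟨σ⟩ := ‹Nonempty S'›
    have h1 := mem_E_of_lift (splitBc x D) ((Over.pullback x).map i) a h σ
    exact (exists_lift_iff D i t ht a (x σ)).mpr (mem_E_of_mem_bc D i x a σ h1)
  · exact lift_bc_of_lift D i x a

end K194.GeomRoots
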