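import Groth.Agent.RedSub.K193.PinCh
import Groth.Agent.RedSub.H638.WeylBase
import Groth.Agent.RedSub.H660.Iwasawa
import Groth.Agent.Sga3B.IsomComb
import Groth.Agent.Sga3B.BaseZ
import Groth.Agent.Sga3B.SplitRedField415
import Groth.Agent.Sga3B.PinTransport

/-!
# The reflection points of a splitting and `w_a = u_a(x) u_{-a}(y) u_a(z)`

* `exists_base_mem`: every root is simple for some base;
* `exists_refl_eq`: over an affine scheme a point `n` inducing the reflection `s_a` is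
  `u_a(x) u_{-a}(y) u_a(z) t`;
* `refl_ne`: such a point is never in the torus.
-/

set_option autoImplicit false
universe u

open CategoryTheory MonoidalCategory CartesianMonoidalCategory MonObj GrpObj AlgebraicGeometry

namespace K194.Refl

open Groth.Agent.Sga3B Groth.Agent.Sga3B.Cell Groth.Agent.Sga3B.Cell.Datum Groth.Agent.Sga3B.PinMod
open Groth.Agent.Sga3B.PinFinal Groth.Agent.Sga3B.DSPts Groth.Agent.Sga3B.GaPts
open K193.PinCh

/-- every root is simple for some base -/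
theorem exists_base_mem {idx M : Type} [Finite idx] [AddCommGroup M] [Module.Free ℤ M] [Module.Finite ℤ M]
    (P : RootPairing idx ℤ M (Module.Dual ℤ M)) [P.IsReduced] (a : idx) : ∃ b : P.Base, a ∈ b.support := by
  obtain ⟨b⟩ := BaseZ.nonempty_base (P := P)
  obtain ⟨g, -, j, hj, h⟩ := Groth.Agent.Sga3A.Weyl.exists_conj_simple b a
  refine ⟨IsomComb.pullBase (g⁻¹ : P.Aut) b, ?_⟩
  rw [IsomComb.mem_pullBase]
  have h1 : (g⁻¹ : P.Aut) • a = j := by rw [← h, inv_smul_smul]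
  rw [← h1] at hj
  exact hj

/-- a torus point acts trivially on the torus -/
theorem eq_of_acts_torus {R A : Type u} [CommRing R] [Nontrivial R] [CommRing A] [Algebra R A] [PtGrp R A]
    {D : Datum R A} (t₀ : TPt D.M R) {w : D.M →+ D.M} (h : D.Acts (D.i R t₀) w) (lam : D.M →+ ℤ) (m : D.M) :
    lam m = lam (w m) := by
  have h1 := h (B := LaurentPolynomial R) (t := D.cochar lam) (t' := D.cochar (lam.comp w)) (fun m => rfl)
  rw [bp, D.i_nat, ← map_mul, ← map_mul] at h1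
  have h2 := D.i_inj _ h1
  have hc : ∀ s t : TPt D.M (LaurentPolynomial R), s * t = t * s := fun s t =>
    MonoidHom.ext fun m => _root_.mul_comm (s m) (t m)
  rw [hc] at h2
  have h3 := congrArg (TPt.ch m) (mul_right_cancel h2)
  rw [ch_cochar, ch_cochar] at h3
  exact AddMonoidAlgebra.single_left_injective (one_ne_zero (α := R)) h3

variable {S : Scheme.{u}} {G : Over S} [GrpObj G] (D : Red.SplitRed G)

/-- `n` induces the reflection `s_a` -/
def IsRefl (a : D.idx) (n : 𝟙_ (Over S) ⟶ G) : Prop :=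
  ∀ (X : Over S) (t : X ⟶ D.T), (toUnit X ≫ n) * (t ≫ D.i) * (toUnit X ≫ n)⁻¹ =
    t ≫ D.split.hom.hom.hom ≫ Red.DSmap S (D.P.reflection a).toLinearMap.toAddMonoidHom ≫
      D.split.inv.hom.hom ≫ D.i

variable {D} in
lemma IsRefl.exists_inv {a : D.idx} {n : 𝟙_ (Over S) ⟶ G} (hn : IsRefl D a n) (X : Over S) (t : X ⟶ D.T) :
    ∃ t' : X ⟶ D.T, (toUnit X ≫ n)⁻¹ * (t ≫ D.i) * (toUnit X ≫ n) = t' ≫ D.i := by
  let r := (D.P.reflection a).toLinearMap.toAddMonoidHom
  let t' : X ⟶ D.T := t ≫ D.split.hom.hom.hom ≫ Red.DSmap S r ≫ D.split.inv.hom.hom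
  refine ⟨t', ?_⟩
  have h1 := hn X t'
  have h2 : D.split.inv.hom.hom ≫ D.split.hom.hom.hom = 𝟙 _ :=
    congrArg (fun f => f.hom.hom) D.split.inv_hom_id
  have h3 : D.split.hom.hom.hom ≫ D.split.inv.hom.hom = 𝟙 _ :=
    congrArg (fun f => f.hom.hom) D.split.hom_inv_id
  have h4 : Red.DSmap S r ≫ Red.DSmap S r = 𝟙 _ := by
    rw [PinTransport.DSmap_comp, ← PinTransport.DSmap_id]
    congr 1
    ext m
    exact D.P.reflection_same a m
  have h5 : t' ≫ D.split.hom.hom.hom ≫ Red.DSmap S r ≫ D.split.inv.hom.hom ≫ D.i = t ≫ D.i := by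
    simp only [t', Category.assoc]
    rw [reassoc_of% h2, reassoc_of% h4, reassoc_of% h3]
  rw [h5] at h1
  rw [← h1]
  group

variable {D} {R : Type u} [CommRing R] {s : Spec (CommRingCat.of R) ⟶ S}

lemma IsRefl.acts {a : D.idx} {n₀ : 𝟙_ (Over S) ⟶ G} (hn₀ : IsRefl D a n₀) (c : Chart G s) :
    (c.datum D).Acts ((c.pts R).symm (toUnit _ ≫ n₀)) (D.P.reflection a).toLinearMap.toAddMonoidHom := by
  intro B _ _ t t' htt'
  have h1 : c.pts B (bp B ((c.pts R).symm (toUnit _ ≫ n₀))) = toUnit _ ≫ n₀ := by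
    rw [bp, ← c.pts_nat, MulEquiv.apply_symm_apply, ← Category.assoc]
    congr 1
    exact toUnit_unique _ _
  apply (c.pts B).injective
  rw [map_mul, map_mul, h1, Chart.pts_i, Chart.pts_i]
  have h2 := hn₀ (tB s B) (dsEquiv (tB s B) D.M (chΓ s t) ≫ D.split.inv.hom.hom)
  rw [mul_inv_eq_iff_eq_mul] at h2
  have h3 : D.split.inv.hom.hom ≫ D.split.hom.hom.hom = 𝟙 _ :=
    congrArg (fun f => f.hom.hom) D.split.inv_hom_id
  have h4 : (dsEquiv (tB s B) D.M (chΓ s t) ≫ D.split.inv.hom.hom) ≫ D.split.hom.hom.hom ≫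
      Red.DSmap S (D.P.reflection a).toLinearMap.toAddMonoidHom ≫ D.split.inv.hom.hom ≫ D.i =
      dsEquiv (tB s B) D.M (chΓ s t') ≫ Chart.j D := by
    simp only [Category.assoc]
    rw [← Category.assoc D.split.inv.hom.hom, h3, Category.id_comp, ← Category.assoc, dsEquiv_DSmap]
    change _ = dsEquiv (tB s B) D.M (chΓ s t') ≫ D.split.inv.hom.hom ≫ D.i
    congr 2
    refine MonoidHom.ext fun m => ?_
    exact (congrArg (fnOf s) (htt' m.toAdd)).symm
  rw [h4, Category.assoc] at h2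
  exact h2

variable (s)

/-- **A reflection point is `u_a(x) u_{-a}(y) u_a(z) t`.** -/
theorem exists_refl_eq {a : D.idx} {n₀ : 𝟙_ (Over S) ⟶ G} (hn₀ : IsRefl D a n₀) :
    ∃ (x y z : tB s R ⟶ Red.Ga S) (τ : tB s R ⟶ D.T),
      toUnit (tB s R) ≫ n₀ = (x ≫ D.u a) * (y ≫ D.u (D.P.reflectionPerm a a)) * (z ≫ D.u a) * (τ ≫ D.i) := by
  rcases isEmpty_or_nonempty S with hS | hS
  · have : IsEmpty (tB s R).left := ⟨fun x => hS.false ((tB s R).hom.base x)⟩
    have hsub : ∀ (Y : Over S) (f g : tB s R ⟶ Y), f = g := by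
      intro Y f g
      apply Over.OverMorphism.ext
      exact (isInitialOfIsEmpty (X := (tB s R).left)).hom_ext _ _
    have h0 : ∀ (Y : Over S), Nonempty (Y.left) → True := fun _ _ => trivial
    refine ⟨Over.homMk ((isInitialOfIsEmpty (X := (tB s R).left)).to _)
        ((isInitialOfIsEmpty (X := (tB s R).left)).hom_ext _ _),
      Over.homMk ((isInitialOfIsEmpty (X := (tB s R).left)).to _)
        ((isInitialOfIsEmpty (X := (tB s R).left)).hom_ext _ _),
      Over.homMk ((isInitialOfIsEmpty (X := (tB s R).left)).to _)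
        ((isInitialOfIsEmpty (X := (tB s R).left)).hom_ext _ _),
      Over.homMk ((isInitialOfIsEmpty (X := (tB s R).left)).to _)
        ((isInitialOfIsEmpty (X := (tB s R).left)).hom_ext _ _), hsub _ _ _⟩
  have hred : D.P.IsReduced := SplitReduced415.isReduced D
  obtain ⟨b, hb⟩ := exists_base_mem D.P a
  obtain ⟨Q⟩ := exists_pinChart D b s
  have : Smooth G.hom := D.reductive.2.1
  have : Algebra.Smooth R Q.c.A := ChartFib.smooth_of_isPullback Q.c.isPullback
  set n : Pt R Q.c.A R := (Q.c.pts R).symm (toUnit _ ≫ n₀) with hn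
  have hact : (Q.c.datum D).Acts n (D.P.reflection a).toLinearMap.toAddMonoidHom := hn₀.acts Q.c
  have hG : (Q.c.datum D).Good := PinModelOf.good D Q.c
  have hcj : ∀ {C : Type u} [CommRing C] [Algebra R C] (t : TPt D.M C),
      bp C n * Q.E.i C t * (bp C n)⁻¹ = Q.E.nn a C * Q.E.i C t * (Q.E.nn a C)⁻¹ := by
    intro C _ _ t
    rw [Groth.Agent.RedSub.H638.WeylBase.nn_conj_i Q.E hb, Q.hi, Q.hi]
    exact PinModelOf.conj_of_acts (D := Q.c.datum D) D.P (fun a => rfl) D.pairing_eq hact t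
  obtain ⟨t, ht⟩ := Datum.exists_eq_i_of_comm hG
    (fun K _ _ => ChartFib.isDomain D.reductive Q.c.isPullback K) ((Q.E.nn a R)⁻¹ * n) (by
      intro C _ _ φ σ
      have h1 : Pt.map φ ((Q.E.nn a R)⁻¹ * n) = (Q.E.nn a C)⁻¹ * bp C n := by
        rw [Pt.map_mul, Pt.map_inv, Q.E.nn_nat, bp]
        congr 2
        exact Subsingleton.elim _ _
      have h2 := hcj (C := C) σ
      rw [Q.hi] at h2
      rw [← Q.hi] at *
      rw [h1, _root_.mul_assoc, inv_mul_eq_iff_eq_mul, ← _root_.mul_assoc, ← mul_inv_eq_iff_eq_mul]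
      rw [_root_.mul_inv_rev, _root_.inv_inv, ← _root_.mul_assoc, h2, inv_mul_cancel_right])
  have ht' : n = Q.E.nn a R * (Q.c.datum D).i R t := by rw [← ht, mul_inv_cancel_left]
  have h1 : toUnit (tB s R) ≫ n₀ = Q.c.pts R n := ((Q.c.pts R).apply_symm_apply _).symm
  have h2 : ∀ (c : D.idx) (x : R), ∃ z : tB s R ⟶ Red.Ga S, Q.c.pts R (Q.E.uu c R x) = z ≫ D.u c := by
    intro c x
    exact ⟨_, (congrArg _ (Q.hu c R x)).trans (Q.c.pts_uu D c _)⟩
  obtain ⟨x, hx⟩ := h2 a 1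
  obtain ⟨y, hy⟩ := h2 (D.P.reflectionPerm a a) (-1)
  refine ⟨x, y, x, dsEquiv (tB s R) D.M (chΓ s t) ≫ D.split.inv.hom.hom, ?_⟩
  rw [h1, ht', map_mul, PinCell.nn, map_mul, map_mul, hx, hy, Category.assoc]
  exact congrArg _ (Q.c.pts_i D t)

/-- **A reflection point is not in the torus.** -/
theorem refl_ne {a : D.idx} {n₀ : 𝟙_ (Over S) ⟶ G} (hn₀ : IsRefl D a n₀) [Nontrivial R] (τ : tB s R ⟶ D.T) :
    toUnit (tB s R) ≫ n₀ ≠ τ ≫ D.i := by
  intro h
  have : IsAffineHom G.hom := D.reductive.1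
  obtain ⟨c⟩ := exists_chart G s
  set n : Pt R c.A R := (c.pts R).symm (toUnit _ ≫ n₀) with hn
  have hact : (c.datum D).Acts n (D.P.reflection a).toLinearMap.toAddMonoidHom := hn₀.acts c
  obtain ⟨t₀, ht₀⟩ : ∃ t₀ : TPt D.M R, n = (c.datum D).i R t₀ := by
    obtain ⟨t₀, ht₀⟩ := exists_chΓ s (τ ≫ D.split.hom.hom.hom)
    refine ⟨t₀, ?_⟩
    have h3 : D.split.hom.hom.hom ≫ D.split.inv.hom.hom = 𝟙 _ :=
      congrArg (fun f => f.hom.hom) D.split.hom_inv_id
    apply (c.pts R).injective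
    rw [hn, MulEquiv.apply_symm_apply, Chart.pts_i, ← ht₀, h]
    change _ = (τ ≫ D.split.hom.hom.hom) ≫ D.split.inv.hom.hom ≫ D.i
    rw [Category.assoc, ← Category.assoc D.split.hom.hom.hom, h3, Category.id_comp]
  have h1 := eq_of_acts_torus (D := c.datum D) t₀ (ht₀ ▸ hact) (D.P.coroot a).toAddMonoidHom (D.P.root a)
  have h4 : D.P.coroot a (D.P.root a) = 2 := by
    have := D.P.root_coroot_two a
    rw [D.pairing_eq] at this
    exact this
  have h5 : D.P.coroot a (D.P.reflection a (D.P.root a)) = -2 := by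
    rw [D.P.reflection_apply_self, map_neg, h4]
  have h6 : (2 : ℤ) = -2 := by
    rw [← h5, ← h4]
    exact h1
  omega

end K194.Refl
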