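import Groth.Agent.SGA3.K205.Semidirect
import Groth.Agent.S3992
import Groth.Agent.Sga3B.Par.LeviProj
import Groth.Agent.Sga3B.MaxTorNear900
import Groth.Agent.Sga3.H799.Transp
import Groth.Agent.RedSub.H641.TypeRBc
import Groth.Agent.Sga3B.TorusAlgClosed
import Groth.Agent.PRed.K543.UnipPts

/-!
# The semidirect product of a torus and a unipotent subgroup which it normalizes
-/

set_option autoImplicit false
universe u

open CategoryTheory MonoidalCategory CartesianMonoidalCategory MonObj GrpObj AlgebraicGeometry Limits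

namespace K194.TU

open Groth.Agent.Sga3B Groth.Agent.Sga3B.Par

variable {S : Scheme.{u}} {G T U : Over S} [GrpObj G] [GrpObj T] [GrpObj U]

/-- The semidirect product `P = U ⋊ T ⟶ G` for a torus `T` and a subgroup `U` normalized by `T`
which meets `T` trivially on points. -/
theorem exists_semi (i : T ⟶ G) [IsMonHom i] [Mono i] (j : U ⟶ G) [IsMonHom j] [Mono j]
    (hnorm : ∀ (X : Over S) (x : X ⟶ T) (y : X ⟶ U), ∃ y' : X ⟶ U, (x ≫ i) * (y ≫ j) * (x ≫ i)⁻¹ = y' ≫ j)
    (htriv : ∀ (X : Over S) (y : X ⟶ U) (x : X ⟶ T), y ≫ j = x ≫ i → y = 1) :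
    ∃ (P : Over S) (_ : GrpObj P) (p : P ⟶ G) (t : T ⟶ P) (u : U ⟶ P), IsMonHom p ∧ Mono p ∧ t ≫ p = i ∧
      u ≫ p = j ∧ LeviProj.IsSemi t u ∧ Nonempty (U ⊗ T ≅ P) := by
  obtain ⟨P, _, p, e, hp, hep⟩ := K205.Semidirect.exists_semidirect j i (fun X x y => hnorm X x y)
  have hpt : ∀ {X : Over S} (y : X ⟶ U) (x : X ⟶ T), (lift y x ≫ e.hom) ≫ p = (y ≫ j) * (x ≫ i) := by
    intro X y x
    rw [Category.assoc, hep, Hom.mul_def, ← Category.assoc, lift_map]
  have hmono : Mono p := by
    constructor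
    intro X z z' hz
    have key : ∀ w : X ⟶ P, w = lift (w ≫ e.inv ≫ fst U T) (w ≫ e.inv ≫ snd U T) ≫ e.hom := by
      intro w
      have : lift (w ≫ e.inv ≫ fst U T) (w ≫ e.inv ≫ snd U T) = w ≫ e.inv := by
        ext1 <;> simp
      rw [this, Category.assoc, e.inv_hom_id, Category.comp_id]
    rw [key z, key z', hpt, hpt] at hz
    set y := z ≫ e.inv ≫ fst U T
    set x := z ≫ e.inv ≫ snd U T
    set y' := z' ≫ e.inv ≫ fst U T
    set x' := z' ≫ e.inv ≫ snd U T
    have h1 : (y'⁻¹ * y) ≫ j = (x' * x⁻¹) ≫ i := by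
      rw [MonObj.mul_comp, MonObj.mul_comp, GrpObj.inv_comp, GrpObj.inv_comp, inv_mul_eq_iff_eq_mul,
        ← _root_.mul_assoc, eq_mul_inv_iff_mul_eq]
      exact hz
    have h2 := htriv X _ _ h1
    rw [inv_mul_eq_one] at h2
    rw [h2] at hz
    have h3 := mul_left_cancel hz
    rw [cancel_mono] at h3
    rw [key z, key z']
    change lift y x ≫ e.hom = lift y' x' ≫ e.hom
    rw [h2, h3]
  let t : T ⟶ P := lift 1 (𝟙 T) ≫ e.hom
  let u : U ⟶ P := lift (𝟙 U) 1 ≫ e.hom
  have ht : t ≫ p = i := by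
    rw [hpt, MonObj.one_comp, _root_.one_mul, Category.id_comp]
  have hu : u ≫ p = j := by
    rw [hpt, MonObj.one_comp, _root_.mul_one, Category.id_comp]
  clear_value t u
  have hpt' : ∀ {X : Over S} (y : X ⟶ U) (x : X ⟶ T), lift y x ≫ e.hom = (y ≫ u) * (x ≫ t) := by
    intro X y x
    rw [← cancel_mono p, hpt, MonObj.mul_comp, Category.assoc, Category.assoc, ht, hu]
  have htm : IsMonHom t := by
    apply Pts.isMonHom_of_points
    intro X x x'
    rw [← cancel_mono p, Category.assoc, ht, MonObj.mul_comp _ _ i, MonObj.mul_comp _ _ p, Category.assoc,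
      Category.assoc, ht]
  have hum : IsMonHom u := by
    apply Pts.isMonHom_of_points
    intro X x x'
    rw [← cancel_mono p, Category.assoc, hu, MonObj.mul_comp _ _ j, MonObj.mul_comp _ _ p, Category.assoc,
      Category.assoc, hu]
  have huM : Mono u := by
    have : Mono (u ≫ p) := by rw [hu]; infer_instance
    exact mono_of_mono u p
  refine ⟨P, inferInstance, p, t, u, hp, hmono, ht, hu, ⟨htm, hum, huM, ?_, ?_⟩, ⟨e⟩⟩
  · -- normality
    intro X g n
    obtain ⟨y, x, rfl⟩ : ∃ (y : X ⟶ U) (x : X ⟶ T), g = (y ≫ u) * (x ≫ t) := by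
      refine ⟨g ≫ e.inv ≫ fst U T, g ≫ e.inv ≫ snd U T, ?_⟩
      rw [← hpt']
      have : lift (g ≫ e.inv ≫ fst U T) (g ≫ e.inv ≫ snd U T) = g ≫ e.inv := by
        ext1 <;> simp
      rw [this, Category.assoc, e.inv_hom_id, Category.comp_id]
    obtain ⟨n', hn'⟩ := hnorm X x n
    refine ⟨y * n' * y⁻¹, ?_⟩
    rw [← cancel_mono p]
    simp only [MonObj.mul_comp, GrpObj.inv_comp, Category.assoc, ht, hu]
    rw [← hn']
    group
  · -- multiplication
    have hf : ∀ {X : Over S} (w : X ⟶ T ⊗ U), w ≫ ((t ⊗ₘ u) ≫ μ[P]) =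
        (w ≫ fst T U ≫ t) * (w ≫ snd T U ≫ u) := by
      intro X w
      rw [Hom.mul_def, ← Category.assoc]
      congr 1
      ext1 <;> simp
    obtain ⟨n', hn'⟩ := hnorm P (e.inv ≫ snd U T)⁻¹ (e.inv ≫ fst U T)
    have hk : lift (e.inv ≫ snd U T) n' ≫ ((t ⊗ₘ u) ≫ μ[P]) = 𝟙 P := by
      rw [hf, ← cancel_mono p]
      simp only [lift_fst_assoc, lift_snd_assoc, MonObj.mul_comp, Category.assoc, ht, hu]
      rw [← hn']
      simp only [GrpObj.inv_comp, Category.assoc]
      have h1 := hpt (e.inv ≫ fst U T) (e.inv ≫ snd U T)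
      have h2 : lift (e.inv ≫ fst U T) (e.inv ≫ snd U T) = e.inv := by
        ext1 <;> simp
      rw [h2, e.inv_hom_id, Category.id_comp, Category.assoc, Category.assoc] at h1
      rw [Category.id_comp, h1]
      group
    have hfm : Mono ((t ⊗ₘ u) ≫ μ[P]) := by
      constructor
      intro X w w' hw
      rw [hf, hf, ← cancel_mono p] at hw
      simp only [MonObj.mul_comp, Category.assoc, ht, hu] at hw
      have h1 : ((w' ≫ snd T U) * (w ≫ snd T U)⁻¹) ≫ j = ((w' ≫ fst T U)⁻¹ * (w ≫ fst T U)) ≫ i := by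
        simp only [MonObj.mul_comp, GrpObj.inv_comp, Category.assoc]
        rw [mul_inv_eq_iff_eq_mul, _root_.mul_assoc, hw, inv_mul_cancel_left]
      have h2 := htriv X _ _ h1
      have h3 := mul_inv_eq_one.1 h2
      rw [← Category.assoc w' (snd T U), h3, Category.assoc] at hw
      have h4 := mul_right_cancel hw
      rw [← Category.assoc, ← Category.assoc, cancel_mono] at h4
      ext1
      · exact h4
      · exact h3.symm
    have : IsSplitEpi ((t ⊗ₘ u) ≫ μ[P]) := ⟨⟨⟨_, hk⟩⟩⟩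
    exact isIso_of_mono_of_isSplitEpi _

omit [GrpObj T] [GrpObj U] in
/-- geometric properties of a scheme isomorphic to `U × T` -/
theorem props {P : Over S} (e : U ⊗ T ≅ P) [Smooth U.hom] [Smooth T.hom] [GeometricallyIrreducible U.hom]
    [GeometricallyIrreducible T.hom] [QuasiCompact U.hom] [QuasiCompact T.hom] :
    Smooth P.hom ∧ GeometricallyIrreducible P.hom ∧ QuasiCompact P.hom := by
  have h1 : Smooth (U ⊗ T).hom := Groth.Agent.Sga3.H799.Transp.smooth_tensor U T
  have h2 : GeometricallyIrreducible (U ⊗ T).hom :=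
    Groth.Agent.Sga3.H799.Transp.geometricallyIrreducible_tensor U T
  have h3 : QuasiCompact (U ⊗ T).hom := by
    have : (U ⊗ T).hom = pullback.fst U.hom T.hom ≫ U.hom := (Over.w (fst U T)).symm
    rw [this]
    infer_instance
  have h4 : P.hom = e.inv.left ≫ (U ⊗ T).hom := (Over.w e.inv).symm
  rw [h4]
  exact ⟨inferInstance, (MorphismProperty.cancel_left_of_respectsIso @GeometricallyIrreducible _ _).2 h2,
    inferInstance⟩

section solv

variable {P : Over S} [GrpObj P] {t : T ⟶ P} {u : U ⟶ P}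

/-- a semidirect product of a commutative group by a solvable group is solvable -/
theorem isSolvableGrp_of_isSemi (h : LeviProj.IsSemi t u) (hT : ∀ (X : Over S) (x y : X ⟶ T), x * y = y * x)
    (hU : Red.IsSolvableGrp U) : Red.IsSolvableGrp P := by
  obtain ⟨n, hn⟩ := hU
  refine ⟨n + 1, fun X => ?_⟩
  have hum := h.monHom_u
  let φ : (X ⟶ U) →* (X ⟶ P) := { toFun := fun y => y ≫ u, map_one' := MonObj.one_comp u,
                                  map_mul' := fun a b => MonObj.mul_comp a b u }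
  have key : ∀ k : ℕ, derivedSeries (X ⟶ P) (k + 1) ≤ (derivedSeries (X ⟶ U) k).map φ := by
    intro k
    induction k with
    | zero =>
      rw [derivedSeries_succ, derivedSeries_zero, derivedSeries_zero, Subgroup.commutator_le]
      intro g₁ _ g₂ _
      change g₁ * g₂ * g₁⁻¹ * g₂⁻¹ ∈ _
      have h1 : (g₁ * g₂ * g₁⁻¹ * g₂⁻¹) ≫ LeviProj.prL h = 1 := by
        rw [MonObj.mul_comp, MonObj.mul_comp, MonObj.mul_comp, GrpObj.inv_comp,
          GrpObj.inv_comp, hT X (g₁ ≫ _) (g₂ ≫ _)]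
        group
      obtain ⟨b, hb⟩ := LeviProj.exists_of_prL_eq_one h _ h1
      exact ⟨b, trivial, hb⟩
    | succ k ih =>
      rw [derivedSeries_succ (X ⟶ U) k, Subgroup.map_commutator, derivedSeries_succ _ (k + 1)]
      exact Subgroup.commutator_mono ih ih
  rw [eq_bot_iff]
  refine (key n).trans ?_
  rw [hn X, Subgroup.map_bot]

/-- a smooth connected affine group over a field without subtori is solvable -/
theorem isSolvableGrp_of_hasNoSubtorus {k : Type u} [Field k] (U : Over (Spec (CommRingCat.of k))) [GrpObj U]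
    [IsAffine U.left] [Smooth U.hom] [ConnectedSpace ↥U.left]
    (h : ∀ s : ↥(Spec (CommRingCat.of k)),
      Red.HasNoSubtorus (AlgebraicClosure ((Spec (CommRingCat.of k)).residueField s)) (Red.geomFibre s U)) :
    Red.IsSolvableGrp U := by
  obtain ⟨n, hn⟩ := K543.UnipPts.lowerCentralSeries_eq_bot U h
  refine ⟨n, fun X => ?_⟩
  have h1 := hn X
  rw [eq_bot_iff, ← h1]
  exact Subgroup.derived_le_lower_central n

end solv

end K194.TU
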