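import Groth.Agent.RedSub.H672.ZarGlue
import Groth.Agent.RedSub.H672.MonoQP
import Groth.Agent.Sga3B.RepDescent9

/-!
# Étale descent of representability relative to a scheme

`F` is an étale sheaf on `Over S` with a map `φ` to a scheme `P` over `S`, `p : S₁ ⟶ S` étale surjective and
quasi-compact, and the restriction of `F` to `S₁` is representable by `A₁`.  If `A₁ ⟶ P ×_S S₁` is quasi-affine then
`F` is representable.
-/

set_option autoImplicit false

universe u

open CategoryTheory CategoryTheory.Limits AlgebraicGeometry Opposite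

namespace K194.RelDesc

open Groth.Agent.Sga3B Groth.Agent.Sga3B.RepDescent

/-- A quasi-finite, separated, quasi-compact morphism is quasi-affine. -/
theorem isQuasiAffine_of_lqf {X Y : Scheme.{u}} (f : X ⟶ Y) [QuasiCompact f] [IsSeparated f]
    [LocallyOfFiniteType f] [LocallyQuasiFinite f] : Mor2.IsQuasiAffine f := by
  refine ⟨inferInstance, fun V hV => ?_⟩
  have : IsAffine (V : Scheme.{u}) := hV
  have h1 : LocallyQuasiFinite (f ∣_ V) := inferInstance
  have h2 : LocallyOfFiniteType (f ∣_ V) := inferInstance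
  have h3 : IsAffine (f ∣_ V).normalization := isAffine_of_isAffineHom (f ∣_ V).fromNormalization
  have : CompactSpace (f ⁻¹ᵁ V : Scheme.{u}) :=
    isCompact_iff_compactSpace.1 (f.isCompact_preimage hV.isCompact)
  exact Scheme.IsQuasiAffine.of_isImmersion (f ∣_ V).toNormalization

/-- A quasi-compact monomorphism locally of finite type is quasi-affine. -/
theorem isQuasiAffine_of_mono {X Y : Scheme.{u}} (f : X ⟶ Y) [QuasiCompact f] [Mono f]
    [LocallyOfFiniteType f] : Mor2.IsQuasiAffine f :=
  isQuasiAffine_of_lqf f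

variable {S : Scheme.{u}} {F : (Over S)ᵒᵖ ⥤ Type u} {P : Over S}
  (φ : ∀ T : Over S, F.obj (op T) → (T ⟶ P))
  (hφ : ∀ (T T' : Over S) (g : T' ⟶ T) (x : F.obj (op T)), φ T' (F.map g.op x) = g ≫ φ T x)

include hφ in
theorem FP_aux {T T' : Over P.left} (f : T' ⟶ T) (y : ((Over.map P.hom).op ⋙ F).obj (op T))
    (h : (φ ((Over.map P.hom).obj T) y).left = T.hom) :
    (φ ((Over.map P.hom).obj T') (((Over.map P.hom).op ⋙ F).map f.op y)).left = T'.hom := by
  have h1 := hφ _ _ ((Over.map P.hom).map f) y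
  change (φ _ (F.map ((Over.map P.hom).map f).op y)).left = T'.hom
  rw [h1, Over.comp_left, h]
  exact Over.w f

/-- The sheaf `F` seen over `P`. -/
noncomputable def FP : (Over P.left)ᵒᵖ ⥤ Type u :=
  subF ((Over.map P.hom).op ⋙ F) (fun T x => (φ ((Over.map P.hom).obj T) x).left = T.hom) (FP_aux φ hφ)

include hφ in
theorem isEtSheaf_FP (hF : IsEtSheaf F) : IsEtSheaf (FP φ hφ) := by
  refine isEtSheaf_subF (isEtSheaf_restrict hF P.hom) (P := fun T x => (φ ((Over.map P.hom).obj T) x).left = T.hom)
    (FP_aux φ hφ) ?_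
  intro T J T' f hf hT y h
  obtain ⟨z, -, hz⟩ := isEtSheaf_yoneda P (T := (Over.map P.hom).obj T) (fun i => (Over.map P.hom).obj (T' i))
    (fun i => (Over.map P.hom).map (f i)) hf hT (fun i => (Over.map P.hom).map (f i) ≫ φ _ y) (by
      intro i j R a b hab
      change a ≫ (Over.map P.hom).map (f i) ≫ φ _ y = b ≫ (Over.map P.hom).map (f j) ≫ φ _ y
      rw [← Category.assoc, hab, Category.assoc])
  let c : (Over.map P.hom).obj T ⟶ P := Over.homMk T.hom rfl
  have h1 : φ _ y = c := by
    rw [hz (φ _ y) fun i => rfl]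
    refine (hz c fun i => ?_).symm
    have h2 := h i
    have h3 := hφ _ _ ((Over.map P.hom).map (f i)) y
    change (φ _ (F.map ((Over.map P.hom).map (f i)).op y)).left = (T' i).hom at h2
    rw [h3] at h2
    change (Over.map P.hom).map (f i) ≫ c = (Over.map P.hom).map (f i) ≫ φ _ y
    apply Over.OverMorphism.ext
    rw [h2]
    exact Over.w (f i)
  exact congrArg CommaMorphism.left h1

section rep1

variable {S₁ : Scheme.{u}} (p : S₁ ⟶ S) {A₁ : Over S₁} (r₁ : ((Over.map p).op ⋙ F).RepresentableBy A₁)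

/-- the universal element -/
noncomputable def x₁ : F.obj (op ((Over.map p).obj A₁)) := r₁.homEquiv (𝟙 A₁)

theorem map_x₁ {X : Over S₁} (m : X ⟶ A₁) : F.map ((Over.map p).map m).op (x₁ p r₁) = r₁.homEquiv m := by
  have := r₁.homEquiv_comp m (𝟙 A₁)
  rw [Category.comp_id] at this
  exact this.symm

/-- `A₁` over `P ×_S S₁`. -/
noncomputable def A' : Over (pullback P.hom p) :=
  Over.mk (pullback.lift (φ _ (x₁ p r₁)).left A₁.hom (Over.w (φ _ (x₁ p r₁))) : A₁.left ⟶ pullback P.hom p)

theorem A'_fst : (A' φ p r₁).hom ≫ pullback.fst P.hom p = (φ _ (x₁ p r₁)).left := pullback.lift_fst _ _ _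

theorem A'_snd : (A' φ p r₁).hom ≫ pullback.snd P.hom p = A₁.hom := pullback.lift_snd _ _ _

/-- comparison -/
noncomputable def cc (X : Over (pullback P.hom p)) :
    (Over.map P.hom).obj ((Over.map (pullback.fst P.hom p)).obj X) ≅
      (Over.map p).obj ((Over.map (pullback.snd P.hom p)).obj X) :=
  Over.isoMk (Iso.refl _) (by
    change 𝟙 _ ≫ (X.hom ≫ pullback.snd P.hom p) ≫ p = (X.hom ≫ pullback.fst P.hom p) ≫ P.hom
    rw [Category.id_comp, Category.assoc, Category.assoc, pullback.condition])

/-- `X ⟶ A'` as a morphism over `S₁` -/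
noncomputable def toA₁ {X : Over (pullback P.hom p)} (m : X ⟶ A' φ p r₁) :
    (Over.map (pullback.snd P.hom p)).obj X ⟶ A₁ :=
  Over.homMk m.left (by
    change m.left ≫ A₁.hom = X.hom ≫ pullback.snd P.hom p
    rw [← A'_snd φ p r₁, ← Category.assoc, Over.w m])

include hφ in
theorem hom_eq {X : Over (pullback P.hom p)} (m : (Over.map (pullback.snd P.hom p)).obj X ⟶ A₁) :
    (φ _ (F.map (cc p X).hom.op (r₁.homEquiv m))).left = m.left ≫ (φ _ (x₁ p r₁)).left := by
  have h1 : r₁.homEquiv m = F.map ((Over.map p).map m).op (x₁ p r₁) := (map_x₁ p r₁ m).symm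
  rw [h1]
  have h2 := hφ _ _ ((cc p X).hom ≫ (Over.map p).map m) (x₁ p r₁)
  rw [op_comp, Functor.map_comp_apply] at h2
  refine (congrArg CommaMorphism.left h2).trans ?_
  change (𝟙 _ ≫ m.left) ≫ _ = _
  rw [Category.id_comp]

/-- Morphisms to `A'`. -/
noncomputable def equivA' (X : Over (pullback P.hom p)) :
    (X ⟶ A' φ p r₁) ≃ (FP φ hφ).obj (op ((Over.map (pullback.fst P.hom p)).obj X)) where
  toFun m := ⟨F.map (cc p X).hom.op (r₁.homEquiv (toA₁ φ p r₁ m)), by
    change (φ _ (F.map (cc p X).hom.op (r₁.homEquiv (toA₁ φ p r₁ m)))).left = X.hom ≫ pullback.fst P.hom p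
    rw [hom_eq φ hφ p r₁ (toA₁ φ p r₁ m)]
    change m.left ≫ _ = _
    rw [← A'_fst φ p r₁, ← Category.assoc, Over.w m]⟩
  invFun x := Over.homMk (r₁.homEquiv.symm (F.map (cc p X).inv.op x.1)).left (by
    apply pullback.hom_ext
    · rw [Category.assoc, A'_fst]
      have h1 := hom_eq φ hφ p r₁ (r₁.homEquiv.symm (F.map (cc p X).inv.op x.1))
      refine h1.symm.trans ?_
      rw [Equiv.apply_symm_apply, ← Functor.map_comp_apply, ← op_comp, Iso.hom_inv_id, op_id,
        Functor.map_id_apply]
      exact x.2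
    · rw [Category.assoc, A'_snd]
      exact Over.w (r₁.homEquiv.symm (F.map (cc p X).inv.op x.1)))
  left_inv m := by
    apply Over.OverMorphism.ext
    change (r₁.homEquiv.symm (F.map (cc p X).inv.op (F.map (cc p X).hom.op (r₁.homEquiv (toA₁ φ p r₁ m))))).left = m.left
    rw [← Functor.map_comp_apply, ← op_comp, Iso.inv_hom_id, op_id, Functor.map_id_apply, Equiv.symm_apply_apply]
    rfl
  right_inv x := by
    apply Subtype.ext
    change F.map (cc p X).hom.op (r₁.homEquiv (r₁.homEquiv.symm (F.map (cc p X).inv.op x.1))) = x.1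
    rw [Equiv.apply_symm_apply, ← Functor.map_comp_apply, ← op_comp, Iso.hom_inv_id, op_id, Functor.map_id_apply]

/-- `A'` represents the restriction of `FP` to `P ×_S S₁`. -/
noncomputable def repA' : ((Over.map (pullback.fst P.hom p)).op ⋙ FP φ hφ).RepresentableBy (A' φ p r₁) where
  homEquiv {X} := equivA' φ hφ p r₁ X
  homEquiv_comp {X X'} f g := by
    apply Subtype.ext
    change F.map (cc p X).hom.op (r₁.homEquiv (toA₁ φ p r₁ (f ≫ g))) =
      F.map ((Over.map P.hom).map ((Over.map (pullback.fst P.hom p)).map f)).op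
        (F.map (cc p X').hom.op (r₁.homEquiv (toA₁ φ p r₁ g)))
    have h1 : toA₁ φ p r₁ (f ≫ g) = (Over.map (pullback.snd P.hom p)).map f ≫ toA₁ φ p r₁ g := rfl
    rw [h1, r₁.homEquiv_comp]
    change F.map _ (F.map _ _) = _
    rw [← Functor.map_comp_apply, ← Functor.map_comp_apply]
    congr 2

end rep1

section glob

variable {W : Over P.left} (r : (FP φ hφ).RepresentableBy W)

/-- the universal element of `F` -/
noncomputable def wU : F.obj (op ((Over.map P.hom).obj W)) := (r.homEquiv (𝟙 W)).1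

theorem φ_wU : (φ _ (wU φ hφ r)).left = W.hom := (r.homEquiv (𝟙 W)).2

theorem map_wU {X : Over P.left} (m : X ⟶ W) : F.map ((Over.map P.hom).map m).op (wU φ hφ r) = (r.homEquiv m).1 := by
  have := r.homEquiv_comp m (𝟙 W)
  rw [Category.comp_id] at this
  rw [this]
  rfl

/-- `T` seen over `P` and back. -/
noncomputable def cb (T : Over S) (t : T.left ⟶ P.left) (ht : t ≫ P.hom = T.hom) :
    (Over.map P.hom).obj (Over.mk t) ≅ T :=
  Over.isoMk (Iso.refl _) (by
    change 𝟙 _ ≫ T.hom = t ≫ P.hom
    rw [Category.id_comp, ht])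

include hφ in
theorem bijective_wU (T : Over S) : Function.Bijective (fun m : T ⟶ (Over.map P.hom).obj W =>
    F.map m.op (wU φ hφ r)) := by
  constructor
  · intro m₁ m₂ h
    dsimp only at h
    have h1 : m₁.left ≫ W.hom = m₂.left ≫ W.hom := by
      have := congrArg (φ _) h
      rw [hφ, hφ] at this
      have := congrArg CommaMorphism.left this
      change m₁.left ≫ (φ _ _).left = m₂.left ≫ (φ _ _).left at this
      rw [φ_wU] at this
      exact this
    let t : T.left ⟶ P.left := m₁.left ≫ W.hom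
    have ht : t ≫ P.hom = T.hom := by
      rw [Category.assoc]
      exact Over.w m₁
    let n₁ : Over.mk t ⟶ W := Over.homMk m₁.left rfl
    let n₂ : Over.mk t ⟶ W := Over.homMk m₂.left h1.symm
    have hc₁ : (Over.map P.hom).map n₁ = (cb T t ht).hom ≫ m₁ := by
      apply Over.OverMorphism.ext
      change m₁.left = 𝟙 _ ≫ m₁.left
      rw [Category.id_comp]
    have hc₂ : (Over.map P.hom).map n₂ = (cb T t ht).hom ≫ m₂ := by
      apply Over.OverMorphism.ext
      change m₂.left = 𝟙 _ ≫ m₂.left
      rw [Category.id_comp]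
    have h2 : r.homEquiv n₁ = r.homEquiv n₂ := by
      apply Subtype.ext
      rw [← map_wU, ← map_wU, hc₁, hc₂, op_comp, op_comp, Functor.map_comp_apply, Functor.map_comp_apply, h]
    have h3 := congrArg CommaMorphism.left (r.homEquiv.injective h2)
    exact Over.OverMorphism.ext h3
  · intro x
    let t : T.left ⟶ P.left := (φ _ x).left
    have ht : t ≫ P.hom = T.hom := Over.w (φ _ x)
    have h1 : (φ _ (F.map (cb T t ht).hom.op x)).left = t := by
      rw [hφ]
      change 𝟙 _ ≫ t = t
      rw [Category.id_comp]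
    let n : Over.mk t ⟶ W := r.homEquiv.symm ⟨F.map (cb T t ht).hom.op x, h1⟩
    refine ⟨(cb T t ht).inv ≫ (Over.map P.hom).map n, ?_⟩
    dsimp only
    rw [op_comp, Functor.map_comp_apply, map_wU]
    change F.map _ (r.homEquiv (r.homEquiv.symm _)).1 = x
    rw [Equiv.apply_symm_apply]
    change F.map (cb T t ht).inv.op (F.map (cb T t ht).hom.op x) = x
    rw [← Functor.map_comp_apply, ← op_comp, Iso.inv_hom_id, op_id, Functor.map_id_apply]

/-- `W` represents `F`. -/
noncomputable def repMW : F.RepresentableBy ((Over.map P.hom).obj W) where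
  homEquiv {T} := Equiv.ofBijective _ (bijective_wU φ hφ r T)
  homEquiv_comp {T T'} f g := by
    change F.map (f ≫ g).op (wU φ hφ r) = F.map f.op (F.map g.op (wU φ hφ r))
    rw [op_comp, Functor.map_comp_apply]

end glob

include hφ in
/-- **Étale descent of representability relative to `P`.** -/
theorem exists_representableBy {S₁ : Scheme.{u}} (p : S₁ ⟶ S) [Etale p] [Surjective p] [QuasiCompact p]
    (hF : IsEtSheaf F) {A₁ : Over S₁} (r₁ : ((Over.map p).op ⋙ F).RepresentableBy A₁)
    (hA : Mor2.IsQuasiAffine (A' φ p r₁).hom) :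
    ∃ M : Over S, Nonempty (F.RepresentableBy M) := by
  obtain ⟨W, ⟨r⟩⟩ := exists_representableBy_of_isQuasiAffine (p := pullback.fst P.hom p) (isEtSheaf_FP φ hφ hF)
    (repA' φ hφ p r₁) hA
  exact ⟨_, ⟨repMW φ hφ r⟩⟩

include hφ in
/-- If `A₁ ⟶ P ×_S S₁` is a monomorphism then `φ` is injective. -/
theorem injective_of_mono {S₁ : Scheme.{u}} (p : S₁ ⟶ S) [Etale p] [Surjective p]
    (hF : IsEtSheaf F) {A₁ : Over S₁} (r₁ : ((Over.map p).op ⋙ F).RepresentableBy A₁)
    (hA : Mono (A' φ p r₁).hom) (T : Over S) : Function.Injective (φ T) := by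
  -- over `S₁`
  have h0 : ∀ (X : Over S₁), Function.Injective (φ ((Over.map p).obj X)) := by
    intro X x y hxy
    obtain ⟨m, rfl⟩ := r₁.homEquiv.surjective x
    obtain ⟨m', rfl⟩ := r₁.homEquiv.surjective y
    have e : ∀ m : X ⟶ A₁, m.left ≫ (A' φ p r₁).hom =
        pullback.lift (φ ((Over.map p).obj X) (r₁.homEquiv m)).left X.hom (Over.w _) := by
      intro m
      apply pullback.hom_ext
      · have h1 := hφ _ _ ((Over.map p).map m) (x₁ p r₁)
        rw [map_x₁] at h1
        refine (Category.assoc _ _ _).trans ?_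
        refine (congrArg (m.left ≫ ·) (A'_fst φ p r₁)).trans ?_
        refine Eq.trans ?_ (pullback.lift_fst _ _ _).symm
        exact (congrArg CommaMorphism.left h1).symm
      · refine (Category.assoc _ _ _).trans ?_
        refine (congrArg (m.left ≫ ·) (A'_snd φ p r₁)).trans ?_
        refine Eq.trans ?_ (pullback.lift_snd _ _ _).symm
        exact Over.w m
    have h2 : m.left ≫ (A' φ p r₁).hom = m'.left ≫ (A' φ p r₁).hom := by
      rw [e m, e m']
      congr 1
      exact congrArg CommaMorphism.left hxy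
    have h3 : m = m' := Over.OverMorphism.ext (hA.right_cancellation m.left m'.left h2)
    rw [h3]
  intro x y hxy
  let X : Over S₁ := Over.mk (pullback.snd T.hom p)
  let g : (Over.map p).obj X ⟶ T := Over.homMk (pullback.fst T.hom p) pullback.condition
  have hg1 : Etale g.left := inferInstanceAs (Etale (pullback.fst T.hom p))
  have hg2 : Surjective g.left := inferInstanceAs (Surjective (pullback.fst T.hom p))
  apply hF.injective g
  apply h0 X
  rw [hφ, hφ, hxy]

include hφ in
/-- The representing scheme is a subscheme of `P` up to monomorphism. -/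
theorem mono_of_mono {S₁ : Scheme.{u}} (p : S₁ ⟶ S) [Etale p] [Surjective p]
    (hF : IsEtSheaf F) {A₁ : Over S₁} (r₁ : ((Over.map p).op ⋙ F).RepresentableBy A₁)
    (hA : Mono (A' φ p r₁).hom) {M : Over S} (r : F.RepresentableBy M) :
    Mono (φ M (r.homEquiv (𝟙 M))).left := by
  constructor
  intro Z a b hab
  have ha : a ≫ M.hom = b ≫ M.hom := by
    rw [← Over.w (φ M (r.homEquiv (𝟙 M))), ← Category.assoc, hab, Category.assoc]
  let a' : Over.mk (a ≫ M.hom) ⟶ M := Over.homMk a rfl
  let b' : Over.mk (a ≫ M.hom) ⟶ M := Over.homMk b ha.symm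
  have h1 : r.homEquiv a' = r.homEquiv b' := by
    apply injective_of_mono φ hφ p hF r₁ hA
    rw [← Category.comp_id a', ← Category.comp_id b', r.homEquiv_comp, r.homEquiv_comp, hφ, hφ]
    exact Over.OverMorphism.ext hab
  exact congrArg CommaMorphism.left (r.homEquiv.injective h1)

end K194.RelDesc
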