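import Groth.Agent.RedSub.K194.Solv
import Groth.Agent.Redsub.H673.SolvBor
import Groth.Agent.Sga3B.BorLB3991
import Groth.Agent.RedSub.H637.PosRoots

/-!
# Subgroups of type (R) with solvable fibres and their roots

`S` connected, `G` split, `H` of type (R) containing the torus, with root set `R'`:

* `isSolvableGrp_fibre`: if `R' ∩ -R' = ∅` the geometric fibres of `H` are solvable;
* `exists_base`: if some geometric fibre is solvable, `R'` is contained in a system of positive roots;
* `exists_le_borel`: if `R'` is contained in a system of positive roots, `H` is contained in the corresponding Borel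
  subgroup `P_G(x)`.
-/

set_option autoImplicit false
universe u

open CategoryTheory MonoidalCategory CartesianMonoidalCategory MonObj GrpObj AlgebraicGeometry Limits

namespace K194.Main1

open Groth.Agent.Sga3B Groth.Agent.Sga3B.Parab Groth.Agent.Sga3B.SplitBc264
open K194.Fib K194.Solv

section field

variable {K : Type u} [Field K] [IsAlgClosed K] {G H : Over (Spec (CommRingCat.of K))} [GrpObj G] [GrpObj H]

/-- Over an algebraically closed field the root groups contained in a solvable subgroup belong to positive roots for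
some base. -/
theorem exists_base_of_solvable (D : Red.SplitRed G) (h : H ⟶ G) (hH : RedSub.IsTypeR h) (t : D.T ⟶ H)
    (ht : t ≫ h = D.i) (hs : Red.IsSolvableGrp H) :
    ∃ b : D.P.Base, ∀ a, (∃ v : Red.Ga (Spec (CommRingCat.of K)) ⟶ H, v ≫ h = D.u a) → b.IsPos a := by
  obtain ⟨⟨hm, himm⟩, hsm, -, hconn, -⟩ := hH
  have hcl0 : IsClosedImmersion h.left := Groth.Agent.S0351.result K H G h
  have hc : ConnectedSpace H.left := connectedSpace_of_fibres hconn
  obtain ⟨B, _, b, hb, j, hj⟩ := Groth.Agent.Redsub.H673.SolvBor.exists_borel (isReductiveOver D.reductive) h hcl0 hsm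
    hc hs
  obtain ⟨mu, hmu, -⟩ := BorLB3991.exists_mu D (isReductiveOver D.reductive) b hb (t ≫ j)
    (by rw [Category.assoc, hj, ht])
  obtain ⟨hreg, hstd⟩ := BorLB3991.std_of_algClosed D (isReductiveOver D.reductive) b hb mu hmu
  have hred := SplitReduced415.isReduced D
  obtain ⟨β, hβ⟩ := BaseZ.exists_base_isPos D.P mu hreg
  refine ⟨β, ?_⟩
  rintro a ⟨v, hv⟩
  have : Nonempty (Spec (CommRingCat.of K)) := ⟨(⊥ : PrimeSpectrum K)⟩
  exact BorLB3991.isPos_of_isStd (hstd β hβ) (v := v ≫ j) (by rw [Category.assoc, hj, hv])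

end field

variable {S : Scheme.{u}} {G H : Over S} [GrpObj G] [GrpObj H]

lemma bc_torus {S' : Scheme.{u}} (D : Red.SplitRed G) (h : H ⟶ G) (t : D.T ⟶ H) (ht : t ≫ h = D.i) (x : S' ⟶ S) :
    ((Over.pullback x).map t : (splitBc x D).T ⟶ Red.bc x H) ≫ (Over.pullback x).map h = (splitBc x D).i := by
  have h1 : (Over.pullback x).map t ≫ (Over.pullback x).map h = (Over.pullback x).map D.i := by
    rw [← Functor.map_comp, ht]
  exact h1

section geom

variable [ConnectedSpace S] (D : Red.SplitRed G) (h : H ⟶ G) (hH : RedSub.IsTypeR h) (t : D.T ⟶ H)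
  (ht : t ≫ h = D.i)

include hH ht

/-- the fibre of `H` at a geometric point is of type (R) -/
theorem isTypeR_fibre {K : Type u} [Field K] (x : Spec (CommRingCat.of K) ⟶ S) :
    RedSub.IsTypeR ((Over.pullback x).map h) :=
  Groth.Agent.RedSub.H641.TypeRBc.isTypeR_bc_of_torus x D.reductive hH t (by rw [ht]; exact D.maximalTorus)

/-- the roots of the fibre of `H` at a geometric point -/
theorem roots_fibre {K : Type u} [Field K] (x : Spec (CommRingCat.of K) ⟶ S) (a : D.idx) :
    (∃ v : Red.Ga (Spec (CommRingCat.of K)) ⟶ Red.bc x H, v ≫ (Over.pullback x).map h = (splitBc x D).u a) ↔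
      ∃ v : Red.Ga S ⟶ H, v ≫ h = D.u a := by
  have := hH.1.1
  have := hH.1.2
  have := hH.2.1
  have : Nonempty (Spec (CommRingCat.of K)) := ⟨(⊥ : PrimeSpectrum K)⟩
  exact K194.GeomRoots.lift_bc_iff D h t ht x a

theorem isSolvableGrp_fibre
    (hR : ∀ a, (∃ v : Red.Ga S ⟶ H, v ≫ h = D.u a) → ¬ ∃ v : Red.Ga S ⟶ H, v ≫ h = D.u (D.P.reflectionPerm a a))
    {K : Type u} [Field K] [IsAlgClosed K] (x : Spec (CommRingCat.of K) ⟶ S) : Red.IsSolvableGrp (Red.bc x H) := by
  refine isSolvableGrp_of_asymm (splitBc x D) ((Over.pullback x).map h) (isTypeR_fibre D h hH t ht x)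
    ((Over.pullback x).map t) (bc_torus D h t ht x) fun a ha ha' => ?_
  exact hR a ((roots_fibre D h hH t ht x a).1 ha) ((roots_fibre D h hH t ht x _).1 ha')

theorem exists_base {K : Type u} [Field K] [IsAlgClosed K] (x : Spec (CommRingCat.of K) ⟶ S)
    (hs : Red.IsSolvableGrp (Red.bc x H)) :
    ∃ b : D.P.Base, ∀ a, (∃ v : Red.Ga S ⟶ H, v ≫ h = D.u a) → b.IsPos a := by
  obtain ⟨b, hb⟩ := exists_base_of_solvable (splitBc x D) ((Over.pullback x).map h) (isTypeR_fibre D h hH t ht x)
    ((Over.pullback x).map t) (bc_torus D h t ht x) hs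
  exact ⟨b, fun a ha => hb a ((roots_fibre D h hH t ht x a).2 ha)⟩

theorem exists_le_borel (b : D.P.Base) (hb : ∀ a, (∃ v : Red.Ga S ⟶ H, v ≫ h = D.u a) → b.IsPos a) :
    ∃ (x : Module.Dual ℤ D.M) (P : Over S) (_ : GrpObj P) (p : P ⟶ G), (∀ a, x (D.P.root a) ≠ 0) ∧
      (∀ a, b.IsPos a ↔ 0 < x (D.P.root a)) ∧ IsDynP (Par.coch D x) p ∧ Red.IsBorel p ∧
      ∃ v : H ⟶ P, v ≫ p = h := by
  obtain ⟨x, hx, hxb⟩ := Groth.Agent.RedSub.H634.BorelStd.exists_functional b
  obtain ⟨P, _, p, hP, hB, ⟨tp, htp⟩, hPu⟩ := exists_borel D x hx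
  have hpm : IsMonHom p := hB.1
  have hpcl : IsClosedImmersion p.left := hB.2.1
  have hpmono : Mono p := Over.mono_of_mono_left p
  have := hH.1.1
  have := hH.1.2
  have := hH.2.1
  have hxb' : ∀ a, b.IsPos a ↔ 0 < x (D.P.root a) := fun a => by
    rw [← hxb a, Groth.Agent.RedSub.H637.PosRoots.mem_posRoots_iff]
  obtain ⟨v, hv⟩ := Groth.Agent.RedSub.H635.Uniq.exists_le D h hH.2.2.2.1 t ht p tp htp
    (fun a ha => hPu a ((hxb' a).1 (hb a ha)))
  exact ⟨x, P, inferInstance, p, hx, hxb', hP, hB, v, hv⟩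

end geom

end K194.Main1
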