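import Groth.Agent.RedSub.K194.RootUniv
import Groth.Agent.LieWt.K929.LieRoot
import Groth.Agent.Sga3B.BorSub908
import Groth.Agent.Sga3B.AlgBc2
import Groth.Agent.Sga3B.Parab.DynLevi998

/-!
# The roots of a reductive subgroup containing the torus are symmetric
-/

set_option autoImplicit false
universe u

open CategoryTheory MonoidalCategory CartesianMonoidalCategory MonObj GrpObj AlgebraicGeometry Limits

namespace K194.SymRed

open Groth.Agent.Sga3B Groth.Agent.Sga3B.PinMod Groth.Agent.Sga3B.DSPts Groth.Agent.Sga3B.GaPts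
open Groth.Agent.Sga3B.Parab K929.CharLemmas

section gen

variable {S : Scheme.{u}} {G H T T' : Over S} [GrpObj G] [GrpObj H] [GrpObj T] [GrpObj T']

lemma isRootHom_comp (e : T' ⟶ T) (h : H ⟶ G) [IsMonHom h] [IsClosedImmersion h.left] {j : T ⟶ H}
    {α : T ⟶ Red.Gm S} {v : Red.Ga S ⟶ H} (hv : Red.IsRootHom j α v) :
    Red.IsRootHom (e ≫ j ≫ h) (e ≫ α) (v ≫ h) := by
  obtain ⟨h1, h2, h3⟩ := hv
  refine ⟨inferInstance, ?_, fun X t x => ?_⟩
  · rw [Over.comp_left]
    infer_instance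
  · obtain ⟨y, hy, hy'⟩ := h3 X (t ≫ e) x
    refine ⟨y, ?_, by rw [hy', Category.assoc]⟩
    rw [← Category.assoc, hy]
    simp only [MonObj.mul_comp, GrpObj.inv_comp, Category.assoc]

lemma isRootHom_of_comp (e : T' ⟶ T) (h : H ⟶ G) [IsMonHom h] [Mono h] {i : T ⟶ G} {j : T' ⟶ H}
    (hj : e ≫ i = j ≫ h) {β : T ⟶ Red.Gm S} {v : Red.Ga S ⟶ H} (hcl : IsClosedImmersion v.left)
    (hv : Red.IsRootHom i β (v ≫ h)) : Red.IsRootHom j (e ≫ β) v := by
  obtain ⟨h1, h2, h3⟩ := hv
  refine ⟨DynLevi998.isMonHom_of_comp_mono (p := h), hcl, fun X t x => ?_⟩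
  obtain ⟨y, hy, hy'⟩ := h3 X (t ≫ e) x
  refine ⟨y, ?_, by rw [hy', Category.assoc]⟩
  rw [← cancel_mono h, MonObj.mul_comp, MonObj.mul_comp, GrpObj.inv_comp]
  simp only [Category.assoc]
  rw [hy, ← hj]
  simp only [Category.assoc]

end gen

variable {K : Type u} [Field K] [IsAlgClosed K] {G H : Over (Spec (CommRingCat.of K))} [GrpObj G] [GrpObj H]

/-- **The set of roots of a reductive subgroup is symmetric.** -/
theorem symm_of_reductive (D : Red.SplitRed G) (h : H ⟶ G) [IsMonHom h] [IsClosedImmersion h.left]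
    (t : D.T ⟶ H) (ht : t ≫ h = D.i) (hH : Red.IsReductiveOver K H) (a : D.idx)
    (ha : ∃ v : Red.Ga (Spec (CommRingCat.of K)) ⟶ H, v ≫ h = D.u a) :
    ∃ v : Red.Ga (Spec (CommRingCat.of K)) ⟶ H, v ≫ h = D.u (D.P.reflectionPerm a a) := by
  have hm : Mono h := by
    have : Mono h.left := inferInstance
    exact Over.mono_of_mono_left h
  have htm : Red.IsMaximalTorus t := BorSub908.isMaximalTorus_of_comp h t (by rw [ht]; exact D.maximalTorus)
  obtain ⟨E, τ, hτ, -⟩ := K929.LieRoot.exists_split (AlgBc.isReductive_iff.2 hH) t htm (M := D.M) ⟨D.split⟩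
  obtain ⟨v, hv⟩ := ha
  have hτi : τ.inv.hom.hom ≫ τ.hom.hom.hom = 𝟙 _ := congrArg (fun f => f.hom.hom) τ.inv_hom_id
  have hτi' : τ.hom.hom.hom ≫ τ.inv.hom.hom = 𝟙 _ := congrArg (fun f => f.hom.hom) τ.hom_inv_id
  have hEi : τ.inv.hom.hom ≫ D.i = E.i ≫ h := by
    rw [← ht, hτ, Category.assoc, ← Category.assoc, hτi, Category.id_comp]
  -- `v` is a root homomorphism of `E`
  have hvcl : IsClosedImmersion v.left := by
    have h1 : IsClosedImmersion (v.left ≫ h.left) := by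
      rw [← Over.comp_left, hv]
      exact (D.rootHom a).2.1
    exact IsClosedImmersion.of_comp v.left h.left
  have h1 := isRootHom_of_comp τ.inv.hom.hom h hEi hvcl (hv ▸ D.rootHom a)
  obtain ⟨m, hm'⟩ := K929.LieRoot.exists_char E (τ.inv.hom.hom ≫ D.split.hom.hom.hom ≫
    Red.chi (Spec (CommRingCat.of K)) (D.P.root a))
  rw [hm'] at h1
  have hsp : D.split.inv.hom.hom ≫ D.split.hom.hom.hom = 𝟙 _ :=
    congrArg (fun f => f.hom.hom) D.split.inv_hom_id
  have hm'' : D.split.hom.hom.hom ≫ Red.chi (Spec (CommRingCat.of K)) (D.P.root a) =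
      τ.hom.hom.hom ≫ Chart.splitHom E ≫ Red.chi (Spec (CommRingCat.of K)) m := by
    rw [← hm', ← Category.assoc τ.hom.hom.hom, hτi', Category.id_comp]
  have hm0 : m ≠ 0 := by
    rintro rfl
    have h2 : Red.chi (Spec (CommRingCat.of K)) (D.P.root a) = 1 := by
      rw [← Category.id_comp (Red.chi (Spec (CommRingCat.of K)) (D.P.root a)), ← hsp, Category.assoc, hm'',
        chi_zero, MonObj.comp_one, MonObj.comp_one, MonObj.comp_one]
    exact D.P.ne_zero a (chi_eq_one_iff.1 h2)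
  obtain ⟨c, hc, -⟩ := RootUniv.exists_scale E hm0 h1
  have h2 := isRootHom_comp τ.hom.hom.hom h (E.rootHom (E.P.reflectionPerm c c))
  have h3 : τ.hom.hom.hom ≫ E.i ≫ h = D.i := by rw [← Category.assoc, ← hτ, ht]
  have h4 : τ.hom.hom.hom ≫ E.split.hom.hom.hom ≫ Red.chi (Spec (CommRingCat.of K))
      (E.P.root (E.P.reflectionPerm c c)) = D.split.hom.hom.hom ≫ Red.chi (Spec (CommRingCat.of K))
      (D.P.root (D.P.reflectionPerm a a)) := by
    have e1 : E.P.root (E.P.reflectionPerm c c) = - m := by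
      rw [E.P.root_reflectionPerm, E.P.reflection_apply_self, hc]
    have e2 : D.P.root (D.P.reflectionPerm a a) = - D.P.root a := by
      rw [D.P.root_reflectionPerm, D.P.reflection_apply_self]
    rw [e1, e2, chi_neg, chi_neg, GrpObj.comp_inv, GrpObj.comp_inv, GrpObj.comp_inv, hm'']
  rw [h3, h4] at h2
  obtain ⟨a', ha', σ, hσ⟩ := RootUniv.exists_scale D (D.P.ne_zero _) h2
  obtain rfl := D.P.root.injective ha'
  exact ⟨σ ≫ E.u (E.P.reflectionPerm c c), by rw [Category.assoc, hσ]⟩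

end K194.SymRed
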