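import Groth.Agent.RedSub.K194.TU
import Groth.Agent.RedSub.K194.SymRed
import Groth.Agent.RedSub.K194.Main1
import Groth.Agent.AGF.K493.URad

/-!
# Subgroups of type (R) with symmetric roots over an algebraically closed field are reductive
-/

set_option autoImplicit false
universe u

open CategoryTheory MonoidalCategory CartesianMonoidalCategory MonObj GrpObj AlgebraicGeometry Limits

namespace K194.RedSym

open Groth.Agent.Sga3B Groth.Agent.Sga3B.Cell Groth.Agent.Sga3B.PinMod Groth.Agent.Sga3B.DSPts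
open Groth.Agent.Sga3B.GaPts Groth.Agent.Sga3B.Par
open Polynomial
open K193.PinCh

section aff

variable {R : Type u} [CommRing R] {G : Over (Spec (CommRingCat.of R))} [GrpObj G]

/-- the points of the torus in a chart -/
lemma exists_iPt (D : Red.SplitRed G) {s : Spec (CommRingCat.of R) ⟶ Spec (CommRingCat.of R)} (c : Chart G s)
    {B : Type u} [CommRing B] [Algebra R B] (a : tB s B ⟶ D.T) :
    ∃ t : TPt D.M B, c.pts B ((c.datum D).i B t) = a ≫ D.i := by
  obtain ⟨t, ht⟩ := exists_chΓ s (a ≫ D.split.hom.hom.hom)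
  refine ⟨t, ?_⟩
  have h3 : D.split.hom.hom.hom ≫ D.split.inv.hom.hom = 𝟙 _ :=
    congrArg (fun f => f.hom.hom) D.split.hom_inv_id
  rw [Chart.pts_i, ← ht]
  change (a ≫ D.split.hom.hom.hom) ≫ D.split.inv.hom.hom ≫ D.i = _
  rw [Category.assoc, ← Category.assoc D.split.hom.hom.hom, h3, Category.id_comp]

/-- **Conjugation by `u_c(1) u_{-c}(y) u_c(1)`.** -/
theorem exists_conj (D : Red.SplitRed G) (hred : D.P.IsReduced) (c : D.idx) :
    ∃ (x y : tB (𝟙 (Spec (CommRingCat.of R))) R[X] ⟶ Red.Ga (Spec (CommRingCat.of R))),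
      (∃ z : tB (𝟙 (Spec (CommRingCat.of R))) R[X] ⟶ Red.Ga (Spec (CommRingCat.of R)),
        ((x ≫ D.u c) * (y ≫ D.u (D.P.reflectionPerm c c)) * (x ≫ D.u c)) * (z ≫ D.u c) *
          ((x ≫ D.u c) * (y ≫ D.u (D.P.reflectionPerm c c)) * (x ≫ D.u c))⁻¹ =
        RootUniv.univ R ≫ D.u (D.P.reflectionPerm c c)) ∧
      ∀ a : tB (𝟙 (Spec (CommRingCat.of R))) R[X] ⟶ D.T, ∃ a' : tB (𝟙 (Spec (CommRingCat.of R))) R[X] ⟶ D.T,
        ((x ≫ D.u c) * (y ≫ D.u (D.P.reflectionPerm c c)) * (x ≫ D.u c)) * (a ≫ D.i) *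
          ((x ≫ D.u c) * (y ≫ D.u (D.P.reflectionPerm c c)) * (x ≫ D.u c))⁻¹ = a' ≫ D.i := by
  obtain ⟨b, hb⟩ := Refl.exists_base_mem D.P c
  obtain ⟨Q⟩ := exists_pinChart D b (𝟙 (Spec (CommRingCat.of R)))
  have h2 : ∀ (d : D.idx) (x : R[X]), ∃ z : tB (𝟙 (Spec (CommRingCat.of R))) R[X] ⟶ Red.Ga _,
      Q.c.pts R[X] (Q.E.uu d R[X] x) = z ≫ D.u d := by
    intro c x
    exact ⟨_, (congrArg _ (Q.hu c R[X] x)).trans (Q.c.pts_uu D c _)⟩
  obtain ⟨x, hx⟩ := h2 c 1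
  obtain ⟨y, hy⟩ := h2 (D.P.reflectionPerm c c) (-1)
  have hn : Q.c.pts R[X] (Q.E.nn c R[X]) =
      (x ≫ D.u c) * (y ≫ D.u (D.P.reflectionPerm c c)) * (x ≫ D.u c) := by
    rw [PinCell.nn, map_mul, map_mul, hx, hy]
  refine ⟨x, y, ?_, ?_⟩
  · obtain ⟨r, hr⟩ := Q.E.nn_conj hb c
    obtain ⟨z, hz⟩ := h2 c (algebraMap R R[X] ((r⁻¹ * (Q.ε (D.P.reflectionPerm c c))⁻¹ : Rˣ) : R) * X)
    refine ⟨z, ?_⟩
    rw [← hn, ← hz, ← map_inv, ← map_mul, ← map_mul, hr]
    refine (congrArg _ (Q.hu (D.P.reflectionPerm c c) R[X] _)).trans ((Q.c.pts_uu D _ _).trans ?_)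
    congr 2
    rw [← _root_.mul_assoc, ← _root_.mul_assoc, ← map_mul, ← map_mul, ← Units.val_mul, ← Units.val_mul]
    have : Q.ε (D.P.reflectionPerm c c) * r * (r⁻¹ * (Q.ε (D.P.reflectionPerm c c))⁻¹) = 1 := by group
    rw [this, Units.val_one, map_one, _root_.one_mul]
  · intro a
    obtain ⟨τ, hτ⟩ := exists_iPt D Q.c a
    have h3 := Groth.Agent.RedSub.H638.WeylBase.nn_conj_i Q.E hb (B := R[X]) τ
    rw [Q.hi, Q.hi] at h3
    let τ' : TPt D.M R[X] := τ * (TPt.cow (D.P.coroot c) (τ (Multiplicative.ofAdd (D.P.root c))))⁻¹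
    refine ⟨dsEquiv (tB _ R[X]) D.M (chΓ _ τ') ≫ D.split.inv.hom.hom, ?_⟩
    rw [← hn, ← hτ, ← map_inv, ← map_mul, ← map_mul, Category.assoc]
    exact (congrArg _ h3).trans (Q.c.pts_i D _)

end aff

variable {K : Type u} [Field K] [IsAlgClosed K] {G H : Over (Spec (CommRingCat.of K))} [GrpObj G] [GrpObj H]

lemma isTrivialGrp_of_id_eq_one {S : Scheme.{u}} {U : Over S} [GrpObj U] (h : (𝟙 U : U ⟶ U) = 1) :
    Red.IsTrivialGrp U := by
  refine ⟨(η[U] : 𝟙_ (Over S) ⟶ U).left, ?_, ?_⟩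
  · have h1 := congrArg (fun f => Over.Hom.left f) h
    have h2 : (1 : U ⟶ U) = toUnit U ≫ η[U] := rfl
    rw [h2, Over.comp_left] at h1
    exact h1.symm
  · exact Over.w (η[U] : 𝟙_ (Over S) ⟶ U)

/-- **A subgroup of type (R) with symmetric set of roots is reductive.** -/
theorem isReductiveOver_of_symm (D : Red.SplitRed G) (h : H ⟶ G) (hH : RedSub.IsTypeR h) (t : D.T ⟶ H)
    (ht : t ≫ h = D.i)
    (hsym : ∀ a, (∃ v : Red.Ga (Spec (CommRingCat.of K)) ⟶ H, v ≫ h = D.u a) →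
      ∃ v : Red.Ga (Spec (CommRingCat.of K)) ⟶ H, v ≫ h = D.u (D.P.reflectionPerm a a)) :
    Red.IsReductiveOver K H := by
  obtain ⟨⟨hm, himm⟩, hsm, hqc, hconn, -⟩ := hH
  have hne : Nonempty (Spec (CommRingCat.of K)) := ⟨(⊥ : PrimeSpectrum K)⟩
  have hcl0 : IsClosedImmersion h.left := Groth.Agent.S0351.result K H G h
  have hmono : Mono h := Over.mono_of_mono_left h
  have hc : ConnectedSpace H.left := K194.Solv.connectedSpace_of_fibres hconn
  have hGaff : IsAffineHom G.hom := D.reductive.1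
  have hGa : IsAffine G.left := isAffine_of_isAffineHom G.hom
  have hGs : Smooth G.hom := D.reductive.2.1
  have hHa : IsAffine H.left := isAffine_of_isAffineHom h.left
  have hTm : IsMonHom D.i := D.maximalTorus.1
  have hTmono : Mono D.i := D.maximalTorus.2.1
  have hTs : Smooth D.T.hom := TorusAlgClosed.smooth_of_isTorus D.maximalTorus.2.2.1
  refine ⟨hHa, hsm, hc, ?_⟩
  intro U _ iU _ hcl hUs hUc hnorm hnt
  have hUa : IsAffine U.left := isAffine_of_isAffineHom iU.left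
  have hUmono : Mono iU := Over.mono_of_mono_left iU
  have himU : IsImmersion (iU ≫ h).left := by
    rw [Over.comp_left]; infer_instance
  -- the semidirect product
  obtain ⟨P, _, p, tP, uP, hpm, hpmono, htP, huP, hsemi, ⟨e⟩⟩ := TU.exists_semi D.i (iU ≫ h)
    (fun X x y => by
      obtain ⟨n', hn'⟩ := hnorm X (x ≫ t) y
      refine ⟨n', ?_⟩
      rw [← Category.assoc n', ← hn']
      simp only [MonObj.mul_comp, GrpObj.inv_comp, Category.assoc, ht])
    (fun X y x hyx => Groth.Agent.Redsub.H674.UnipInterRel.eq_one_of_field (iU ≫ h) hnt D.i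
      D.maximalTorus.2.2.1 y x hyx)
  have htPm := hsemi.monHom_l
  have huPm := hsemi.monHom_u
  have hTgi : GeometricallyIrreducible D.T.hom :=
    TorusIrr.geometricallyIrreducible_of_isTorus D.maximalTorus.2.2.1
  have hUgi : GeometricallyIrreducible U.hom :=
    Groth.Agent.RedSub.H641.TypeRBc.geomIrr_of_conn K194.Solv.fibres_of_connectedSpace
  have hTa : IsAffineHom D.T.hom := TorusAlgClosed.isAffineHom_of_isTorus D.maximalTorus.2.2.1
  have hUa' : IsAffineHom U.hom := inferInstance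
  obtain ⟨hPs, hPgi, hPqc⟩ := TU.props e
  have hPqc' : QuasiCompact p.left := by
    have h1 : QuasiCompact (p.left ≫ G.hom) := by rw [Over.w]; exact hPqc
    exact QuasiCompact.of_comp p.left G.hom
  have hpcl : IsClosedImmersion p.left := Groth.Agent.S3036.result K P G p
  have hPR : RedSub.IsTypeR p := Groth.Agent.RedSub.H641.TypeRBc.isTypeR_of_torus D.reductive ⟨hpm, inferInstance⟩
    hPs hPqc Groth.Agent.RedSub.H641.TypeRBc.hasConnectedFibres_of_geomIrr tP (by rw [htP]; exact D.maximalTorus)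
  have hPsolv : Red.IsSolvableGrp P := TU.isSolvableGrp_of_isSemi hsemi
    (fun X x y => MaxTorNear900.mul_comm_of_isTorus D.maximalTorus.2.2.1 X x y)
    (TU.isSolvableGrp_of_hasNoSubtorus U (fun s => (K493.URad.hasNoSubtorus_geomFibre_iff s).2 hnt))
  obtain ⟨b, hb⟩ := Main1.exists_base_of_solvable D p hPR tP htP hPsolv
  have hred : D.P.IsReduced := SplitReduced415.isReduced D
  -- `P ≤ H`
  obtain ⟨q, hq⟩ : ∃ q : P ⟶ H, q ≫ h = p := by
    obtain ⟨a, c, hac⟩ := LeviProj.exists_fac hsemi (𝟙 P)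
    refine ⟨(a ≫ t) * (c ≫ iU), ?_⟩
    rw [← Category.id_comp p, ← hac]
    simp only [MonObj.mul_comp, Category.assoc, ht, htP, huP]
  -- `P` has no roots
  have hno : ∀ c, ¬ ∃ v : Red.Ga (Spec (CommRingCat.of K)) ⟶ P, v ≫ p = D.u c := by
    rintro c ⟨w, hw⟩
    obtain ⟨w', hw'⟩ := hsym c ⟨w ≫ q, by rw [Category.assoc, hq, hw]⟩
    obtain ⟨x, y, ⟨z, hz⟩, htor⟩ := exists_conj D hred c
    have h1 := hb c ⟨w, hw⟩
    refine (Groth.Agent.RedSub.H660.Iwasawa.isPos_neg_iff c).1 (hb (D.P.reflectionPerm c c) ?_) h1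
    rw [RootUniv.lift_iff_univ, ← hz]
    set n : tB (𝟙 (Spec (CommRingCat.of K))) K[X] ⟶ H := (x ≫ w ≫ q) * (y ≫ w') * (x ≫ w ≫ q) with hn
    have hnh : n ≫ h = (x ≫ D.u c) * (y ≫ D.u (D.P.reflectionPerm c c)) * (x ≫ D.u c) := by
      simp only [hn, MonObj.mul_comp, Category.assoc, hq, hw, hw']
    obtain ⟨a, m, ham⟩ := LeviProj.exists_fac hsemi (z ≫ w)
    obtain ⟨a', ha'⟩ := htor a
    obtain ⟨m', hm'⟩ := hnorm _ n m
    refine ⟨(a' ≫ tP) * (m' ≫ uP), ?_⟩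
    rw [← hw, ← Category.assoc z, ← ham]
    simp only [MonObj.mul_comp, Category.assoc, htP, huP]
    rw [← ha', ← Category.assoc m', ← hm']
    simp only [MonObj.mul_comp, GrpObj.inv_comp, Category.assoc]
    rw [hnh, hw]
    group
  obtain ⟨v, hv⟩ := Groth.Agent.RedSub.H635.Uniq.exists_le D p hPR.2.2.2.1 tP htP D.i (𝟙 _)
    (Category.id_comp _) (fun a ha => absurd ha (hno a))
  refine isTrivialGrp_of_id_eq_one ?_
  refine Groth.Agent.Redsub.H674.UnipInterRel.eq_one_of_field (iU ≫ h) hnt D.i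
      D.maximalTorus.2.2.1 (𝟙 U) (uP ≫ v) ?_
  rw [Category.id_comp, Category.assoc, hv, huP]

end K194.RedSym
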