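import Groth.Agent.RedSub.K194.PhiMap
import Groth.Agent.RedSub.H660.Restrict

/-!
# Étale descent of representability of the functor of subgroups of a given class, and quasi-projectivity

`𝒬` is an étale local class of closed subgroups of the base changes of an affine smooth group scheme `G` over `S`; the
members are smooth with geometrically irreducible fibres.  If étale locally `𝒬.subsF` is represented by a scheme of
finite presentation then it is represented over `S` by a scheme of finite presentation which is locally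
quasi-projective.
-/

set_option autoImplicit false

open CategoryTheory Limits MonoidalCategory CartesianMonoidalCategory MonObj GrpObj AlgebraicGeometry Opposite

universe u

namespace K194.QPDesc

open Groth.Agent.RedSub.H647.SubPt Groth.Agent.RedSub.H647.SubF K194.InfK K194.Perp
  Groth.Agent.Sga3B Groth.Agent.Sga3B.MT Groth.Agent.Fga.GrassBasic
  Groth.Agent.Fga.RingFunBasic Groth.Agent.Fga.RingFunRep Groth.Agent.Fga.Grass

variable {S : Scheme.{u}} {G : Over S} [GrpObj G] (𝒬 : SubClass G)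

/-- Points of a representing scheme are determined by the subgroups. -/
theorem eq_of_pt {S₁ : Scheme.{u}} (p : S₁ ⟶ S) {A₁ : Over S₁} (r₁ : ((Over.map p).op ⋙ 𝒬.subsF).RepresentableBy A₁)
    {H : Over A₁.left} [GrpObj H] {h : H ⟶ Red.bc (A₁.hom ≫ p) G} (hQ : 𝒬.Q (A₁.hom ≫ p) h)
    (hx : 𝒬.ofSub (T := (Over.map p).obj A₁) hQ = RelDesc.x₁ p r₁) (T : Scheme.{u}) (a b : T ⟶ A₁.left)
    (hab : a ≫ A₁.hom = b ≫ A₁.hom)
    (hpt : ∀ (Y : Scheme.{u}) (y : Y ⟶ T) (γ : Y ⟶ G.left), Pt h (y ≫ a) γ ↔ Pt h (y ≫ b) γ) : a = b := by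
  let a' : Over.mk (a ≫ A₁.hom) ⟶ A₁ := Over.homMk a rfl
  let b' : Over.mk (a ≫ A₁.hom) ⟶ A₁ := Over.homMk b hab.symm
  have h1 : r₁.homEquiv a' = r₁.homEquiv b' := by
    rw [← RelDesc.map_x₁, ← RelDesc.map_x₁, ← hx]
    obtain ⟨H', _, h', hQ', e⟩ := 𝒬.exists_ofSub (𝒬.subsF.map ((Over.map p).map a').op (𝒬.ofSub (T := (Over.map p).obj A₁) hQ))
    rw [← e]
    symm
    rw [𝒬.map_ofSub_eq_iff]
    have e' := (𝒬.map_ofSub_eq_iff _ _ _).1 e.symm
    intro X y γ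
    rw [e']
    exact hpt X y γ
  exact congrArg CommaMorphism.left (r₁.homEquiv.injective h1)

/-- the defining property of `tφ`, for any representative -/
theorem tφ_spec {κ : Type} [Fintype κ] [DecidableEq κ] {k : ℕ} {e : κ → Γ(G.left, ⊤)} {P : Scheme.{u}}
    (r : Rep (grFun.{u} (κ ⊕ κ) (Fintype.card κ)) P) [IsAffine G.left] (he : Gen G k e) (hk : k ≠ 0)
    (hsm : ∀ {S' : Scheme.{u}} {f : S' ⟶ S} {H : Over S'} [GrpObj H] {h : H ⟶ Red.bc f G}, 𝒬.Q f h → Smooth H.hom)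
    {T : Over S} {H : Over T.left} [GrpObj H] {h : H ⟶ Red.bc T.hom G} (hQ : 𝒬.Q T.hom h)
    {x : 𝒬.subsF.obj (op T)} (hx : 𝒬.ofSub hQ = x)
    (C : CommRingCat.{u}) (c : Spec C ⟶ T.left) :
    (r.e C (c ≫ PhiMap.tφ 𝒬 r he hk hsm x)).1 = dbl (K k e h c) := by
  obtain ⟨H', _, h', hQ', e1', e2'⟩ := PhiMap.isPhi_tφ 𝒬 r he hk hsm x
  have e3 := (𝒬.ofSub_eq_iff hQ' hQ).1 (e1'.trans hx.symm)
  rw [e2']
  congr 1
  exact K_eq_of_pt fun Q ψ γ _ => e3 _ _ _

/-- The affine case. -/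
theorem exists_of_affine [IsAffine S] [IsAffineHom G.hom] [Smooth G.hom]
    (hsm : ∀ {S' : Scheme.{u}} {f : S' ⟶ S} {H : Over S'} [GrpObj H] {h : H ⟶ Red.bc f G}, 𝒬.Q f h → Smooth H.hom)
    (hgi : ∀ {S' : Scheme.{u}} {f : S' ⟶ S} {H : Over S'} [GrpObj H] {h : H ⟶ Red.bc f G}, 𝒬.Q f h →
      GeometricallyIrreducible H.hom)
    (hF : RepDescent.IsEtSheaf 𝒬.subsF) {S₁ : Scheme.{u}} [IsAffine S₁] (p : S₁ ⟶ S) [Etale p] [Surjective p]
    {A₁ : Over S₁} (r₁ : ((Over.map p).op ⋙ 𝒬.subsF).RepresentableBy A₁) [LocallyOfFiniteType A₁.hom]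
    [QuasiCompact A₁.hom] [QuasiSeparated A₁.hom] :
    ∃ M : Over S, Nonempty (𝒬.subsF.RepresentableBy M) ∧ ∃ (n : ℕ) (i : M.left ⟶ CohB1.ProjSpaceOver n S),
      IsImmersion i ∧ i ≫ CohB1.ProjSpaceOver.toBase n S = M.hom := by
  classical
  have hGa : IsAffine G.left := isAffine_of_isAffineHom G.hom
  have hpc : QuasiCompact p := by
    rw [quasiCompact_iff_compactSpace]
    infer_instance
  -- generators
  have hgen := fun k => exists_gen (G := G) (k + 1)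
  choose n e he using hgen
  -- the universal subgroup
  obtain ⟨H, _, h, hQ, hx⟩ := 𝒬.exists_ofSub (RelDesc.x₁ p r₁)
  have := 𝒬.isMonHom hQ
  have := 𝒬.mono hQ
  have := hsm hQ
  have := hgi hQ
  have hcs : CompactSpace A₁.left := by
    rw [← quasiCompact_iff_compactSpace A₁.hom]
    infer_instance
  have hcc : CompactSpace ↥(pullback A₁.hom A₁.hom) := by
    have : QuasiCompact (pullback.fst A₁.hom A₁.hom ≫ A₁.hom) := inferInstance
    rw [← quasiCompact_iff_compactSpace (pullback.fst A₁.hom A₁.hom ≫ A₁.hom)]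
    infer_instance
  obtain ⟨k, hk⟩ := exists_level he A₁.hom p h (eq_of_pt 𝒬 p r₁ hQ hx)
  -- the Grassmannian
  obtain ⟨P, r, _, _⟩ := exists_grass.{u} (Fin (n k) ⊕ Fin (n k)) (Fintype.card (Fin (n k)))
  obtain ⟨N, c, hc⟩ := Groth.Agent.Fga.Plucker489.exists_plucker r
  let φ := PhiMap.φ 𝒬 r (he k) (Nat.succ_ne_zero k) hsm c
  have hφ := PhiMap.φ_map 𝒬 r (he k) (Nat.succ_ne_zero k) hsm c
  have hA : Mono (RelDesc.A' φ p r₁).hom := by
    constructor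
    intro T a b hab
    let a₀ : T ⟶ A₁.left := a
    let b₀ : T ⟶ A₁.left := b
    have h1 : a₀ ≫ A₁.hom = b₀ ≫ A₁.hom := by
      have h3 := congrArg (· ≫ pullback.snd (Over.mk (CohB1.ProjSpaceOver.toBase N S)).hom p) hab
      refine (congrArg (a₀ ≫ ·) (RelDesc.A'_snd φ p r₁)).symm.trans
        (Eq.trans ?_ (congrArg (b₀ ≫ ·) (RelDesc.A'_snd φ p r₁)))
      exact (Category.assoc _ _ _).symm.trans (h3.trans (Category.assoc _ _ _))
    have h2 : a₀ ≫ (φ _ (RelDesc.x₁ p r₁)).left = b₀ ≫ (φ _ (RelDesc.x₁ p r₁)).left := by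
      have h3 := congrArg (· ≫ pullback.fst (Over.mk (CohB1.ProjSpaceOver.toBase N S)).hom p) hab
      refine (congrArg (a₀ ≫ ·) (RelDesc.A'_fst φ p r₁)).symm.trans
        (Eq.trans ?_ (congrArg (b₀ ≫ ·) (RelDesc.A'_fst φ p r₁)))
      exact (Category.assoc _ _ _).symm.trans (h3.trans (Category.assoc _ _ _))
    have h3 : a₀ ≫ PhiMap.tφ 𝒬 r (he k) (Nat.succ_ne_zero k) hsm (RelDesc.x₁ p r₁) =
        b₀ ≫ PhiMap.tφ 𝒬 r (he k) (Nat.succ_ne_zero k) hsm (RelDesc.x₁ p r₁) := by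
      have h4 := congrArg (· ≫ PhiMap.ft N S) h2
      rw [Category.assoc, Category.assoc] at h4
      have h5 := PhiMap.φ_fst 𝒬 r (he k) (Nat.succ_ne_zero k) hsm c _ (RelDesc.x₁ p r₁)
      have h6 : a₀ ≫ PhiMap.tφ 𝒬 r (he k) (Nat.succ_ne_zero k) hsm (RelDesc.x₁ p r₁) ≫ c =
          b₀ ≫ PhiMap.tφ 𝒬 r (he k) (Nat.succ_ne_zero k) hsm (RelDesc.x₁ p r₁) ≫ c :=
        (congrArg (a₀ ≫ ·) h5).symm.trans (h4.trans (congrArg (b₀ ≫ ·) h5))
      have h7 : (a₀ ≫ PhiMap.tφ 𝒬 r (he k) (Nat.succ_ne_zero k) hsm (RelDesc.x₁ p r₁)) ≫ c =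
          (b₀ ≫ PhiMap.tφ 𝒬 r (he k) (Nat.succ_ne_zero k) hsm (RelDesc.x₁ p r₁)) ≫ c :=
        (Category.assoc _ _ _).trans (h6.trans (Category.assoc _ _ _).symm)
      exact (cancel_mono c).1 h7
    refine hk T a₀ b₀ h1 ?_
    exact (comp_eq_iff (h := h) r (t := PhiMap.tφ 𝒬 r (he k) (Nat.succ_ne_zero k) hsm (RelDesc.x₁ p r₁))
      (fun C c => tφ_spec 𝒬 r (he k) (Nat.succ_ne_zero k) hsm hQ hx C c) a₀ b₀).1 h3
  have hpr : IsProper (CohB1.ProjSpaceOver.toBase N S) := Groth.Agent.Ega3B.ProjProper.isProper_toBase N S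
  have hpr' : IsProper (Over.mk (CohB1.ProjSpaceOver.toBase N S)).hom := hpr
  let sn := pullback.snd (Over.mk (CohB1.ProjSpaceOver.toBase N S)).hom p
  have e1 : (RelDesc.A' φ p r₁).hom ≫ sn = A₁.hom := RelDesc.A'_snd φ p r₁
  have i1 : QuasiCompact A₁.hom := inferInstance
  have i2 : LocallyOfFiniteType A₁.hom := inferInstance
  have hqc : QuasiCompact (RelDesc.A' φ p r₁).hom := by
    have : QuasiCompact ((RelDesc.A' φ p r₁).hom ≫ sn) := by
      rw [e1]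
      exact i1
    exact QuasiCompact.of_comp _ sn
  have hft : LocallyOfFiniteType (RelDesc.A' φ p r₁).hom := by
    have : LocallyOfFiniteType ((RelDesc.A' φ p r₁).hom ≫ sn) := by
      rw [e1]
      exact i2
    exact locallyOfFiniteType_of_comp _ sn
  obtain ⟨M, ⟨ρ⟩⟩ := RelDesc.exists_representableBy φ hφ p hF r₁ (RelDesc.isQuasiAffine_of_mono _)
  refine ⟨M, ⟨ρ⟩, ?_⟩
  have hM := RelDesc.mono_of_mono φ hφ p hF r₁ hA ρ
  let ε := (RepDescent.repBC p ρ).uniqueUpToIso r₁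
  have e2 : pullback.snd M.hom p = ε.hom.left ≫ A₁.hom := (Over.w ε.hom).symm
  have hε : IsIso ε.hom.left := (Over.forget _).map_isIso ε.hom
  have hMft : LocallyOfFiniteType M.hom := by
    refine RepDescent.of_etale_cover (P := @LocallyOfFiniteType) M.hom fun s => ⟨S₁, p, inferInstance, p.surjective s, ?_⟩
    rw [e2]
    infer_instance
  have hMqc : QuasiCompact M.hom := by
    refine RepDescent.of_etale_cover (P := @QuasiCompact) M.hom fun s => ⟨S₁, p, inferInstance, p.surjective s, ?_⟩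
    rw [e2]
    infer_instance
  let i := (φ M (ρ.homEquiv (𝟙 M))).left
  exact Groth.Agent.RedSub.H672.MonoQP.exists_immersion_of_mono M.hom (m := N) i (Over.w (φ M (ρ.homEquiv (𝟙 M))))

section restr

open Groth.Agent.RedSub.H660.Restrict Groth.Agent.RedSub.H647.SubF.SubClass

variable {V : Scheme.{u}} (v : V ⟶ S)

theorem exists_upw {T : Over V} (x : 𝒬.subsF.obj (op ((Over.map v).obj T))) : ∃ (H' : Over T.left) (_ : GrpObj H')
      (h' : H' ⟶ Red.bc T.hom (Red.bc v G)) (hQ' : 𝒬.Q (T.hom ≫ v) (down v h')),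
        𝒬.ofSub (T := (Over.map v).obj T) hQ' = x := by
  obtain ⟨H', _, h'', hQ'', e⟩ := 𝒬.exists_ofSub x
  have e2 : down v (upw v (q := T.hom) h'') = h'' := down_upw v h''
  refine ⟨H', inferInstance, upw v (q := T.hom) h'', ?_, ?_⟩
  · rw [e2]
    exact hQ''
  · rw [← e]
    congr 1

theorem ofSub_map_iff {T T' : Over V} (g : T' ⟶ T) {H : Over T.left} [GrpObj H] {h : H ⟶ Red.bc T.hom (Red.bc v G)}
    (hQ : 𝒬.Q (T.hom ≫ v) (down v h)) {H' : Over T'.left} [GrpObj H'] {h' : H' ⟶ Red.bc T'.hom (Red.bc v G)}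
    (hQ' : 𝒬.Q (T'.hom ≫ v) (down v h')) :
    (restrict v 𝒬).subsF.map g.op ((restrict v 𝒬).ofSub hQ) = (restrict v 𝒬).ofSub hQ' ↔
      𝒬.subsF.map ((Over.map v).map g).op (𝒬.ofSub (T := (Over.map v).obj T) hQ) =
        𝒬.ofSub (T := (Over.map v).obj T') hQ' := by
  rw [map_ofSub_eq_iff, same_iff_down v (Over.w g) h' h]
  exact (𝒬.map_ofSub_eq_iff (T := (Over.map v).obj T) (T' := (Over.map v).obj T') ((Over.map v).map g) hQ hQ').symm

theorem ofSub_iff {T : Over V} {H : Over T.left} [GrpObj H] {h : H ⟶ Red.bc T.hom (Red.bc v G)}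
    (hQ : 𝒬.Q (T.hom ≫ v) (down v h)) {H' : Over T.left} [GrpObj H'] {h' : H' ⟶ Red.bc T.hom (Red.bc v G)}
    (hQ' : 𝒬.Q (T.hom ≫ v) (down v h')) :
    (restrict v 𝒬).ofSub (T := T) hQ = (restrict v 𝒬).ofSub (T := T) hQ' ↔
      𝒬.ofSub (T := (Over.map v).obj T) hQ = 𝒬.ofSub (T := (Over.map v).obj T) hQ' := by
  rw [ofSub_eq_iff, ofSub_eq_iff]
  have h1 := same_iff_down v (Category.id_comp T.hom) h h'
  simp only [Category.comp_id] at h1
  exact h1

theorem exists_toR {T : Over V} (x : 𝒬.subsF.obj (op ((Over.map v).obj T))) :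
    ∃ y : (restrict v 𝒬).subsF.obj (op T), ∃ (H' : Over T.left) (_ : GrpObj H')
      (h' : H' ⟶ Red.bc T.hom (Red.bc v G)) (hQ' : 𝒬.Q (T.hom ≫ v) (down v h')),
        𝒬.ofSub (T := (Over.map v).obj T) hQ' = x ∧ (restrict v 𝒬).ofSub (T := T) hQ' = y := by
  obtain ⟨H, _, h, hQ, hx⟩ := exists_upw 𝒬 v x
  exact ⟨_, H, _, h, hQ, hx, rfl⟩

/-- the comparison map -/
noncomputable def toR {T : Over V} (x : 𝒬.subsF.obj (op ((Over.map v).obj T))) : (restrict v 𝒬).subsF.obj (op T) :=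
  (exists_toR 𝒬 v x).choose

theorem toR_ofSub {T : Over V} {H : Over T.left} [GrpObj H] {h : H ⟶ Red.bc T.hom (Red.bc v G)}
    (hQ : 𝒬.Q (T.hom ≫ v) (down v h)) {x : 𝒬.subsF.obj (op ((Over.map v).obj T))}
    (hx : 𝒬.ofSub (T := (Over.map v).obj T) hQ = x) : toR 𝒬 v x = (restrict v 𝒬).ofSub (T := T) hQ := by
  obtain ⟨H', _, h', hQ', e1, e2⟩ := (exists_toR 𝒬 v x).choose_spec
  refine e2.symm.trans ?_
  rw [ofSub_iff, e1, hx]

theorem toR_map {T T' : Over V} (g : T' ⟶ T) (x : 𝒬.subsF.obj (op ((Over.map v).obj T))) :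
    toR 𝒬 v (𝒬.subsF.map ((Over.map v).map g).op x) = (restrict v 𝒬).subsF.map g.op (toR 𝒬 v x) := by
  obtain ⟨H, _, h, hQ, hx⟩ := exists_upw 𝒬 v x
  obtain ⟨H', _, h', hQ', hx'⟩ := exists_upw 𝒬 v (𝒬.subsF.map ((Over.map v).map g).op x)
  rw [toR_ofSub 𝒬 v hQ hx, toR_ofSub 𝒬 v hQ' hx']
  symm
  rw [ofSub_map_iff, hx, hx']

theorem toR_bijective (T : Over V) : Function.Bijective (toR 𝒬 v (T := T)) := by
  constructor
  · intro x x' hxx
    obtain ⟨H, _, h, hQ, hx⟩ := exists_upw 𝒬 v x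
    obtain ⟨H', _, h', hQ', hx'⟩ := exists_upw 𝒬 v x'
    rw [toR_ofSub 𝒬 v hQ hx, toR_ofSub 𝒬 v hQ' hx', ofSub_iff, hx, hx'] at hxx
    exact hxx
  · intro y
    obtain ⟨H, _, h, hQ, hy⟩ := (restrict v 𝒬).exists_ofSub y
    exact ⟨𝒬.ofSub (T := (Over.map v).obj T) hQ, (toR_ofSub 𝒬 v hQ rfl).trans hy⟩

/-- The functor of subgroups of the restricted class. -/
noncomputable def restrIso : (Over.map v).op ⋙ 𝒬.subsF ≅ (restrict v 𝒬).subsF :=
  NatIso.ofComponents (fun T => (Equiv.ofBijective _ (toR_bijective 𝒬 v T.unop)).toIso) (by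
    intro T T' g
    refine ConcreteCategory.hom_ext _ _ fun x => ?_
    exact toR_map 𝒬 v g.unop x)

end restr

open Groth.Agent.RedSub.H660.Restrict Groth.Agent.RedSub.H647.SubF.SubClass in
/-- Zariski locally on `S` the functor is representable by a quasi-projective scheme. -/
theorem exists_local [IsAffineHom G.hom] [Smooth G.hom]
    (hsm : ∀ {S' : Scheme.{u}} {f : S' ⟶ S} {H : Over S'} [GrpObj H] {h : H ⟶ Red.bc f G}, 𝒬.Q f h → Smooth H.hom)
    (hgi : ∀ {S' : Scheme.{u}} {f : S' ⟶ S} {H : Over S'} [GrpObj H] {h : H ⟶ Red.bc f G}, 𝒬.Q f h →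
      GeometricallyIrreducible H.hom)
    (hloc : 𝒬.IsLocal (fun {_ _ _} q => EtCov q)) (s : S)
    (hrep : ∃ (V : Scheme.{u}) (v : V ⟶ S), Etale v ∧ s ∈ Set.range v ∧ ∃ (A : Over V),
      Nonempty (((Over.map v).op ⋙ 𝒬.subsF).RepresentableBy A) ∧ LocallyOfFinitePresentation A.hom ∧
        QuasiCompact A.hom ∧ QuasiSeparated A.hom) :
    ∃ D : S.Opens, s ∈ D ∧ ∃ M : Over (D : Scheme.{u}), Nonempty (((Over.map D.ι).op ⋙ 𝒬.subsF).RepresentableBy M) ∧
      ∃ (n : ℕ) (i : M.left ⟶ CohB1.ProjSpaceOver n (D : Scheme.{u})),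
        IsImmersion i ∧ i ≫ CohB1.ProjSpaceOver.toBase n (D : Scheme.{u}) = M.hom := by
  obtain ⟨V, v, hv, ⟨b, rfl⟩, A, ⟨r⟩, hA1, hA2, hA3⟩ := hrep
  obtain ⟨V₀, hV₀, hsV₀, -⟩ := exists_isAffineOpen_mem_and_subset (x := v b) (U := ⊤) trivial
  obtain ⟨B, hB, hbB, hBV⟩ := exists_isAffineOpen_mem_and_subset (x := b) (U := v ⁻¹ᵁ V₀) hsV₀
  let O : S.Opens := ⟨v '' (B : Set V), v.isOpenMap _ B.2⟩
  obtain ⟨D, hD, hbD, hDO⟩ := exists_isAffineOpen_mem_and_subset (x := v b) (U := O) ⟨b, hbB, rfl⟩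
  have hDO' : ∀ d ∈ D, ∃ x ∈ B, v x = d := fun d hd => hDO hd
  have hDV : D ≤ V₀ := by
    intro d hd
    obtain ⟨x, hx, rfl⟩ := hDO' d hd
    exact hBV hx
  have : IsAffine (B : Scheme.{u}) := hB
  have : IsAffine (V₀ : Scheme.{u}) := hV₀
  have : IsAffine (D : Scheme.{u}) := hD
  have hBr : Set.range (B.ι ≫ v) ⊆ Set.range V₀.ι := by
    rw [Scheme.Opens.range_ι]
    rintro _ ⟨x, rfl⟩
    exact hBV x.2
  let β : (B : Scheme.{u}) ⟶ V₀ := IsOpenImmersion.lift V₀.ι (B.ι ≫ v) hBr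
  have hβ : β ≫ V₀.ι = B.ι ≫ v := IsOpenImmersion.lift_fac _ _ _
  have hβe : Etale β := by
    have h1 : Etale (β ≫ V₀.ι) := by rw [hβ]; infer_instance
    exact Etale.of_comp β V₀.ι
  let δ : (D : Scheme.{u}) ⟶ V₀ := S.homOfLE hDV
  have hδ : δ ≫ V₀.ι = D.ι := S.homOfLE_ι hDV
  let p : pullback β δ ⟶ (D : Scheme.{u}) := pullback.snd β δ
  let j : pullback β δ ⟶ V := pullback.fst β δ ≫ B.ι
  have hc : j ≫ v = p ≫ D.ι := by
    rw [← hδ, Category.assoc, ← hβ, ← Category.assoc, ← Category.assoc, pullback.condition]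
  have hps : Surjective p := ⟨by
    intro d
    obtain ⟨x, hx, hxd⟩ := hDO' d.1 d.2
    have h1 : β ⟨x, hx⟩ = δ d := by
      apply V₀.ι.isOpenEmbedding.injective
      rw [← Scheme.Hom.comp_apply, ← Scheme.Hom.comp_apply, hβ, hδ]
      exact hxd
    obtain ⟨z, -, hz⟩ := Scheme.Pullback.exists_preimage_pullback _ _ h1
    exact ⟨z, hz⟩⟩
  let r₁ : ((Over.map p).op ⋙ (restrict D.ι 𝒬).subsF).RepresentableBy ((Over.pullback j).obj A) :=
    (RepDescent.repRestrict v j p D.ι hc r).ofIso (Functor.isoWhiskerLeft (Over.map p).op (restrIso 𝒬 D.ι))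
  have hF' : RepDescent.IsEtSheaf (restrict D.ι 𝒬).subsF :=
    (restrict D.ι 𝒬).isEtSheaf_subsF (restrict_isLocal D.ι hloc)
  have : IsAffineHom (Red.bc D.ι G).hom := inferInstanceAs (IsAffineHom (pullback.snd G.hom D.ι))
  have : Smooth (Red.bc D.ι G).hom := inferInstanceAs (Smooth (pullback.snd G.hom D.ι))
  have : LocallyOfFiniteType ((Over.pullback j).obj A).hom := inferInstanceAs (LocallyOfFiniteType (pullback.snd A.hom j))
  have : QuasiCompact ((Over.pullback j).obj A).hom := inferInstanceAs (QuasiCompact (pullback.snd A.hom j))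
  have : QuasiSeparated ((Over.pullback j).obj A).hom := inferInstanceAs (QuasiSeparated (pullback.snd A.hom j))
  obtain ⟨M, ⟨ρ⟩, n, i, hi, hi'⟩ := exists_of_affine (restrict D.ι 𝒬) (fun hQ => hsm hQ) (fun hQ => hgi hQ) hF' p r₁
  exact ⟨D, hbD, M, ⟨ρ.ofIso (restrIso 𝒬 D.ι).symm⟩, n, i, hi, hi'⟩

open Groth.Agent.RedSub.H660.Restrict Groth.Agent.RedSub.H647.SubF.SubClass in
/-- **Étale descent and quasi-projectivity.** -/
theorem exists_represents [IsAffineHom G.hom] [Smooth G.hom]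
    (hsm : ∀ {S' : Scheme.{u}} {f : S' ⟶ S} {H : Over S'} [GrpObj H] {h : H ⟶ Red.bc f G}, 𝒬.Q f h → Smooth H.hom)
    (hgi : ∀ {S' : Scheme.{u}} {f : S' ⟶ S} {H : Over S'} [GrpObj H] {h : H ⟶ Red.bc f G}, 𝒬.Q f h →
      GeometricallyIrreducible H.hom)
    (hloc : 𝒬.IsLocal (fun {_ _ _} q => EtCov q))
    (hrep : ∀ s : S, ∃ (V : Scheme.{u}) (v : V ⟶ S), Etale v ∧ s ∈ Set.range v ∧ ∃ (A : Over V),
      Nonempty (((Over.map v).op ⋙ 𝒬.subsF).RepresentableBy A) ∧ LocallyOfFinitePresentation A.hom ∧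
        QuasiCompact A.hom ∧ QuasiSeparated A.hom) :
    ∃ (M : Over S) (H : Over M.left) (_ : GrpObj H) (h : H ⟶ Red.bc M.hom G), 𝒬.Represents M h ∧
      LocallyOfFinitePresentation M.hom ∧ QuasiCompact M.hom ∧ QuasiSeparated M.hom ∧
      RedSub.IsLocallyQuasiProjective M := by
  have hF : RepDescent.IsEtSheaf 𝒬.subsF := 𝒬.isEtSheaf_subsF hloc
  have hl := fun s => exists_local 𝒬 hsm hgi hloc s (hrep s)
  obtain ⟨M, ⟨r⟩⟩ := Groth.Agent.RedSub.H672.ZarGlue.exists_representableBy_of_zariski hF (fun s => by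
    obtain ⟨D, hD, M, hM, -⟩ := hl s
    exact ⟨D, hD, M, hM⟩)
  obtain ⟨H, _, h, hM⟩ := 𝒬.exists_represents r
  refine ⟨M, H, _, h, hM, ?_, ?_, ?_, ?_⟩
  · refine 𝒬.prop_of_representableBy @LocallyOfFinitePresentation r fun s => ?_
    obtain ⟨V, v, hv, hs, A, hA, h1, h2, h3⟩ := hrep s
    exact ⟨V, v, hv, hs, A, hA, h1⟩
  · refine 𝒬.prop_of_representableBy @QuasiCompact r fun s => ?_
    obtain ⟨V, v, hv, hs, A, hA, h1, h2, h3⟩ := hrep s
    exact ⟨V, v, hv, hs, A, hA, h2⟩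
  · refine 𝒬.prop_of_representableBy @QuasiSeparated r fun s => ?_
    obtain ⟨V, v, hv, hs, A, hA, h1, h2, h3⟩ := hrep s
    exact ⟨V, v, hv, hs, A, hA, h3⟩
  · intro s
    obtain ⟨D, hD, MD, ⟨ρ⟩, n, i, hi, hi'⟩ := hl s
    let ε := (RepDescent.repBC D.ι r).uniqueUpToIso ρ
    have hε : IsIso ε.hom.left := (Over.forget _).map_isIso ε.hom
    refine ⟨D, hD, n, ε.hom.left ≫ i, inferInstance, ?_⟩
    rw [Category.assoc, hi']
    exact Over.w ε.hom

end K194.QPDesc
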