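import Groth.Agent.Red.K212.Gen
import Groth.Agent.Sga3B.Par.LocBC

/-!
# Flat-local checks on the base
-/

set_option autoImplicit false
universe u

open CategoryTheory MonoidalCategory CartesianMonoidalCategory MonObj GrpObj AlgebraicGeometry Limits

namespace K194.FlatLoc

variable {S : Scheme.{u}}

/-- Equality of morphisms of `S`-schemes can be tested flat-locally on `S`. -/
theorem eq_of_bc {X Y : Over S} (a b : X ⟶ Y)
    (h : ∀ s : S, ∃ (T : Scheme.{u}) (g : T ⟶ S), Flat g ∧ s ∈ Set.range g ∧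
      (Over.pullback g).map a = (Over.pullback g).map b) : a = b := by
  apply Over.OverMorphism.ext
  refine Groth.Agent.Sga3.H811.Lift.eq_of_flat_family _ _ fun x => ?_
  obtain ⟨T, g, hg, ⟨y, hy⟩, hab⟩ := h (X.hom x)
  obtain ⟨z, hz, -⟩ := Scheme.Pullback.exists_preimage_pullback x y hy.symm
  refine ⟨pullback X.hom g, pullback.fst X.hom g, inferInstance, ⟨z, hz⟩, ?_⟩
  have h1 : ∀ c : X ⟶ Y, pullback.fst X.hom g ≫ c.left = ((Over.pullback g).map c).left ≫ pullback.fst Y.hom g := by
    intro c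
    exact (pullback.lift_fst _ _ _).symm
  rw [h1, h1, hab]

lemma flat_fromSpecStalk (s : S) : Flat (S.fromSpecStalk s) := by
  obtain ⟨U, hU, hs, -⟩ := exists_isAffineOpen_mem_and_subset (X := S) (x := s) (U := ⊤) trivial
  rw [← hU.fromSpecStalk_eq_fromSpecStalk hs, IsAffineOpen.fromSpecStalk]
  have h1 : Flat (Spec.map (S.presheaf.germ U s hs)) := by
    rw [Flat.SpecMap_iff]
    let : Algebra Γ(S, U) (S.presheaf.stalk s) := (S.presheaf.germ U s hs).hom.toAlgebra
    have := hU.isLocalization_stalk ⟨s, hs⟩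
    exact IsLocalization.flat (S.presheaf.stalk s) (hU.primeIdealOf ⟨s, hs⟩).asIdeal.primeCompl
  infer_instance

/-- Local rings: equality can be tested over the spectra of the local rings of `S`. -/
theorem eq_of_local {X Y : Over S} (a b : X ⟶ Y)
    (h : ∀ s : S, (Over.pullback (S.fromSpecStalk s)).map a = (Over.pullback (S.fromSpecStalk s)).map b) :
    a = b := by
  refine eq_of_bc a b fun s => ⟨_, S.fromSpecStalk s, flat_fromSpecStalk s, ?_, h s⟩
  exact ⟨IsLocalRing.closedPoint _, Scheme.fromSpecStalk_closedPoint⟩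

lemma isIso_map_mul {S' : Scheme.{u}} (f : S' ⟶ S) {T U H : Over S} [GrpObj H] (t : T ⟶ H) (u : U ⟶ H)
    (h : IsIso (((Over.pullback f).map t ⊗ₘ (Over.pullback f).map u) ≫ μ[Red.bc f H])) :
    IsIso ((Over.pullback f).map ((t ⊗ₘ u) ≫ μ[H])) := by
  have h1 : ((Over.pullback f).map t ⊗ₘ (Over.pullback f).map u) ≫ μ[Red.bc f H] =
      Functor.LaxMonoidal.μ (Over.pullback f) T U ≫ (Over.pullback f).map ((t ⊗ₘ u) ≫ μ[H]) := by
    have h2 : μ[Red.bc f H] = Functor.LaxMonoidal.μ (Over.pullback f) H H ≫ (Over.pullback f).map μ[H] := rfl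
    rw [h2, ← Category.assoc, Functor.LaxMonoidal.μ_natural, Category.assoc, Functor.map_comp]
  rw [h1] at h
  exact IsIso.of_isIso_comp_left (Functor.LaxMonoidal.μ (Over.pullback f) T U) _

end K194.FlatLoc
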