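import Groth.Agent.S2962
import Groth.Agent.Sga3B.AdCentre
import Groth.Agent.Sga3B.SplitIso848
import Groth.Agent.Sga3B.Parab.GeomFib147
import Groth.Agent.Sga3B.SplitBc264b
import Groth.Agent.LieWt.K929.CharLemmas
import Groth.Agent.RedSub.K194.FlatLoc
import Groth.Agent.S2958
import Groth.Agent.Desc.LQF

/-!
# Adjoint groups are the groups with trivial centre
-/

set_option autoImplicit false
universe u

open CategoryTheory MonoidalCategory CartesianMonoidalCategory MonObj GrpObj AlgebraicGeometry Limits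

namespace K194.AdjCentre

open Groth.Agent.Sga3B Groth.Agent.Sga3B.Parab DSPts Groth.Agent.Sga3B.AdCentre Groth.Agent.Sga3B.AdIsom

variable {S : Scheme.{u}}

/-- the point `g` is central -/
def Cent {G : Over S} [GrpObj G] {X : Over S} (g : X ⟶ G) : Prop :=
  ∀ (X' : Over S) (x : X' ⟶ X) (h : X' ⟶ G), (x ≫ g) * h = h * (x ≫ g)

/-- the centre is trivial -/
def Triv (G : Over S) [GrpObj G] : Prop := ∀ (X : Over S) (g : X ⟶ G), Cent g → g = 1

section split

variable {G : Over S} [GrpObj G] (D : Red.SplitRed G)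

lemma isCent : IsCent (zc D) := isCent_zc D (Groth.Agent.S2962.result D)

lemma Qr_eq_top_iff : Qr D = ⊤ ↔ Submodule.span ℤ (Set.range D.P.root) = ⊤ := by
  have h1 : (Submodule.span ℤ (Set.range D.P.root)).toAddSubgroup = Qr D := Submodule.span_int_eq_addSubgroupClosure _
  rw [← h1]
  exact ⟨fun h => Submodule.toAddSubgroup_injective (by rw [h]; rfl), fun h => by rw [h]; rfl⟩

theorem triv_of_span (h : Submodule.span ℤ (Set.range D.P.root) = ⊤) : Triv G := by
  intro X g hg
  obtain ⟨t, rfl⟩ := (isCent D X g).2 hg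
  have h2 : Subsingleton (D.M ⧸ Qr D) := by
    rw [(Qr_eq_top_iff D).2 h]
    exact QuotientAddGroup.subsingleton_quotient_top
  have h1 : t = 1 := by
    apply (dsEquiv X (D.M ⧸ Qr D)).symm.injective
    refine MonoidHom.ext fun m => ?_
    have : m = 1 := Subsingleton.elim (α := D.M ⧸ Qr D) _ _
    rw [this, map_one, map_one]
  rw [h1, MonObj.one_comp]

theorem span_of_triv [Nonempty S] (h : Triv G) : Submodule.span ℤ (Set.range D.P.root) = ⊤ := by
  have h1 : zc D = 1 := h _ (zc D) ((isCent D _ (zc D)).1 ⟨𝟙 _, (Category.id_comp _).symm⟩)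
  have h2 : (𝟙 (Red.DS S (D.M ⧸ Qr D))) = 1 := by
    rw [← cancel_mono (zc D), MonObj.one_comp, Category.id_comp, h1]
  have h3 : ∀ m : D.M ⧸ Qr D, m = 0 := by
    intro m
    rw [← K929.CharLemmas.chi_eq_one_iff (S := S) (m := m), ← Category.id_comp (Red.chi S m), h2]
    exact MonObj.one_comp _
  rw [← Qr_eq_top_iff, eq_top_iff]
  intro m _
  rw [← QuotientAddGroup.eq_zero_iff]
  exact h3 _

end split

section bc

variable {S' : Scheme.{u}} (f : S' ⟶ S) {G : Over S} [GrpObj G]

theorem Triv.bc (h : Triv G) : Triv (Red.bc f G) := by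
  have h1 : Red.IsCentre (η[G] : 𝟙_ (Over S) ⟶ G) := by
    refine ⟨inferInstance, inferInstance, fun X g => ⟨?_, fun hg => ?_⟩⟩
    · rintro ⟨z, rfl⟩ X' x y
      have h2 : x ≫ z ≫ η[G] = 1 := by
        rw [← Category.assoc, toUnit_unique (x ≫ z) (toUnit X')]
        rfl
      rw [h2, _root_.one_mul, _root_.mul_one]
    · refine ⟨toUnit X, ?_⟩
      rw [h X g fun X' x y => by simpa using hg X' x y]
      rfl
  have h2 := SplitBc264.isCentralizerOf_bc (f := f) h1
  intro X g hg
  rw [CategoryTheory.Functor.map_id] at h2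
  obtain ⟨z, rfl⟩ := (h2.2.2 X g).2 fun X' x y => by simpa using hg X' x y
  obtain ⟨z, rfl⟩ := (DSPts.bcEquiv f X (𝟙_ (Over S))).surjective z
  rw [DSPts.bcEquiv_comp]
  have h3 : z ≫ (η[G] : 𝟙_ (Over S) ⟶ G) = 1 := by
    rw [toUnit_unique z (toUnit _)]
    rfl
  rw [h3, map_one]

theorem Cent.bc {X : Over S} {g : X ⟶ G} (h : Cent g) : Cent ((Over.pullback f).map g) := by
  intro X' x y
  apply (DSPts.bcEquiv f X' G).symm.injective
  rw [map_mul, map_mul]
  have h1 : (DSPts.bcEquiv f X' G).symm (x ≫ (Over.pullback f).map g) =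
      (BcPts.bcEquiv f X' X).symm x ≫ g := BcPts.bcEquiv_symm_comp f x g
  rw [h1]
  exact h _ _ _

/-- The centre is trivial if it is étale locally. -/
theorem triv_of_locally (h : ∀ s : S, ∃ (S' : Scheme.{u}) (f : S' ⟶ S), Flat f ∧ s ∈ Set.range f ∧ Triv (Red.bc f G)) :
    Triv G := by
  intro X g hg
  refine FlatLoc.eq_of_bc _ _ fun s => ?_
  obtain ⟨S', f, hf, hs, ht⟩ := h s
  refine ⟨S', f, hf, hs, ?_⟩
  rw [Functor.map_one]
  exact ht _ _ (Cent.bc f hg)

/-- transport of the condition on the root datum -/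
theorem span_of_fibre [LocallyQuasiFinite f] (s' : S')
    (hadj : ∀ D : Red.SplitRed (Red.geomFibre (f s') G), Submodule.span ℤ (Set.range D.P.root) = ⊤)
    (D : Red.SplitRed (Red.bc f G)) : Submodule.span ℤ (Set.range D.P.root) = ⊤ := by
  obtain ⟨φ, hφ, hh⟩ := GeomFib147.exists_geomPt f s'
  let e : Grp.mk (Red.bc (inv φ) (Red.bc (Red.geomPt s') (Red.bc f G))) ≅ Grp.mk (Red.geomFibre (f s') G) :=
    BcIso.bcMapIso (inv φ) (GeomFib147.sqIso hh G) ≪≫ GeomFib147.backIso φ _
  exact hadj (SplitIso848.splitOfIso e (SplitBc264.splitBc (inv φ) (SplitBc264.splitBc (Red.geomPt s') D)))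

end bc

/-- **A reductive group is adjoint iff its centre is trivial.** -/
theorem main (G : Over S) [GrpObj G] (hG : Red.IsReductive G) :
    (∀ (s : S) (D : Red.SplitRed (Red.geomFibre s G)), Submodule.span ℤ (Set.range D.P.root) = ⊤) ↔ Triv G := by
  constructor
  · intro hadj
    refine triv_of_locally fun s => ?_
    obtain ⟨U, f, hf, hs, ⟨D⟩⟩ := Groth.Agent.S2958.result G hG s
    refine ⟨U, f, inferInstance, hs, ?_⟩
    obtain ⟨s', rfl⟩ := hs
    have hqf := Groth.Agent.Desc.LQF.of_etale f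
    exact triv_of_span D (span_of_fibre f s' (hadj _) D)
  · intro h s D
    have : Nonempty (Spec (CommRingCat.of (AlgebraicClosure (S.residueField s)))) := ⟨(⊥ : PrimeSpectrum _)⟩
    exact span_of_triv D (Triv.bc (Red.geomPt s) h)

end K194.AdjCentre
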