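import Mathlib.AlgebraicGeometry.Morphisms.ClosedImmersion
import Mathlib.AlgebraicGeometry.Morphisms.Separated
import Mathlib.AlgebraicGeometry.Morphisms.FinitePresentation

/-!
# Closed subschemes of affine schemes and kernels
-/

set_option autoImplicit false
universe u

open CategoryTheory CategoryTheory.Limits AlgebraicGeometry

namespace K194.AffKer

lemma exists_lift_of_ker {E U Z : Scheme.{u}} [IsAffine E] [IsAffine U] (e : E ⟶ U)
    (hs : Function.Surjective e.appTop.hom) (w : Z ⟶ U)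
    (h : RingHom.ker e.appTop.hom ≤ RingHom.ker w.appTop.hom) : ∃ l : Z ⟶ E, l ≫ e = w := by
  let φ : Γ(E, ⊤) →+* Γ(Z, ⊤) := RingHom.liftOfSurjective e.appTop.hom hs ⟨w.appTop.hom, h⟩
  have hφ : φ.comp e.appTop.hom = w.appTop.hom := RingHom.liftOfRightInverse_comp _ _ _ _
  have hφ' : e.appTop ≫ CommRingCat.ofHom φ = w.appTop := CommRingCat.hom_ext hφ
  refine ⟨Z.toSpecΓ ≫ Spec.map (CommRingCat.ofHom φ) ≫ E.isoSpec.inv, ?_⟩
  rw [← cancel_mono U.toSpecΓ]
  simp only [Category.assoc]
  rw [Scheme.toSpecΓ_naturality e, ← Scheme.isoSpec_hom E, Iso.inv_hom_id_assoc, ← Spec.map_comp, hφ',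
    Scheme.toSpecΓ_naturality w]

section closedSub

variable (U : Scheme.{u}) [IsAffine U] (J : Ideal Γ(U, ⊤))

/-- the closed subscheme of an affine scheme defined by an ideal -/
noncomputable def zι : Spec (CommRingCat.of (Γ(U, ⊤) ⧸ J)) ⟶ U :=
  Spec.map (CommRingCat.ofHom (Ideal.Quotient.mk J)) ≫ U.isoSpec.inv

instance : IsClosedImmersion (zι U J) := by
  have : IsClosedImmersion (Spec.map (CommRingCat.ofHom (Ideal.Quotient.mk J))) :=
    IsClosedImmersion.spec_of_surjective _ Ideal.Quotient.mk_surjective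
  exact inferInstanceAs (IsClosedImmersion (_ ≫ _))

lemma zι_appTop : (zι U J).appTop ≫ (Scheme.ΓSpecIso _).hom = CommRingCat.ofHom (Ideal.Quotient.mk J) := by
  apply Spec.map_injective
  have h1 : zι U J ≫ U.toSpecΓ = Spec.map (CommRingCat.ofHom (Ideal.Quotient.mk J)) := by
    rw [zι, ← Scheme.isoSpec_hom U, Category.assoc, Iso.inv_hom_id, Category.comp_id]
  rw [← h1, Spec.map_comp, Scheme.toSpecΓ_naturality]
  congr 1
  rw [← cancel_mono (Spec.map (Scheme.ΓSpecIso _).inv), ← Spec.map_comp, Iso.inv_hom_id, Spec.map_id]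
  exact (toSpecΓ_SpecMap_ΓSpecIso_inv _).symm

lemma ker_zι : RingHom.ker (zι U J).appTop.hom = J := by
  ext x
  have h1 := congrArg (fun z => CommRingCat.Hom.hom z x) (zι_appTop U J)
  have h2 : (Scheme.ΓSpecIso _).hom.hom ((zι U J).appTop.hom x) = Ideal.Quotient.mk J x := h1
  rw [RingHom.mem_ker, ← Ideal.Quotient.eq_zero_iff_mem, ← h2]
  constructor
  · intro h
    rw [h, map_zero]
  · intro h
    have h3 := congrArg (Scheme.ΓSpecIso _).inv.hom h
    rw [map_zero] at h3
    rw [← h3]
    exact (congrArg (fun z => CommRingCat.Hom.hom z ((zι U J).appTop.hom x)) (Scheme.ΓSpecIso _).hom_inv_id).symm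

lemma zι_surj : Function.Surjective (zι U J).appTop.hom := by
  intro y
  obtain ⟨x, hx⟩ := Ideal.Quotient.mk_surjective ((Scheme.ΓSpecIso _).hom.hom y)
  refine ⟨x, ?_⟩
  have h1 := congrArg (fun z => CommRingCat.Hom.hom z x) (zι_appTop U J)
  have h2 : (Scheme.ΓSpecIso _).hom.hom ((zι U J).appTop.hom x) = (Scheme.ΓSpecIso _).hom.hom y := h1.trans hx
  have h3 := congrArg (Scheme.ΓSpecIso _).inv.hom h2
  have h4 : ∀ z, (Scheme.ΓSpecIso (CommRingCat.of (Γ(U, ⊤) ⧸ J))).inv.hom ((Scheme.ΓSpecIso _).hom.hom z) = z :=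
    fun z => congrArg (fun t => CommRingCat.Hom.hom t z) (Scheme.ΓSpecIso _).hom_inv_id
  rw [h4, h4] at h3
  exact h3

/-- Points of the closed subscheme. -/
theorem factor_iff {Z : Scheme.{u}} (w : Z ⟶ U) :
    (∃ l : Z ⟶ Spec (CommRingCat.of (Γ(U, ⊤) ⧸ J)), l ≫ zι U J = w) ↔ J ≤ RingHom.ker w.appTop.hom := by
  constructor
  · rintro ⟨l, rfl⟩
    intro x hx
    rw [← ker_zι U J, RingHom.mem_ker] at hx
    rw [RingHom.mem_ker, Scheme.Hom.comp_appTop]
    change l.appTop.hom ((zι U J).appTop.hom x) = 0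
    rw [hx, map_zero]
  · intro h
    exact exists_lift_of_ker (zι U J) (zι_surj U J) w (by rwa [ker_zι])

end closedSub

/-- The locus where two morphisms to a separated scheme coincide. -/
theorem exists_eq_ideal {U P : Scheme.{u}} [IsAffine U] [P.IsSeparated] (a b : U ⟶ P) :
    ∃ J : Ideal Γ(U, ⊤), ∀ {Z : Scheme.{u}} (w : Z ⟶ U), w ≫ a = w ≫ b ↔ J ≤ RingHom.ker w.appTop.hom := by
  let δ := pullback.diagonal (terminal.from P)
  let ab : U ⟶ pullback (terminal.from P) (terminal.from P) := pullback.lift a b (Subsingleton.elim _ _)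
  let e := pullback.fst ab δ
  have he : IsClosedImmersion e := inferInstance
  obtain ⟨h1, h2⟩ := IsClosedImmersion.isAffine_surjective_of_isAffine e
  refine ⟨RingHom.ker e.appTop.hom, fun {Z} w => ⟨fun h => ?_, fun h => ?_⟩⟩
  · let l : Z ⟶ pullback ab δ := pullback.lift w (w ≫ a) (by
      have e1 : ab ≫ pullback.fst _ _ = a := pullback.lift_fst _ _ _
      have e2 : ab ≫ pullback.snd _ _ = b := pullback.lift_snd _ _ _
      apply pullback.hom_ext
      · rw [Category.assoc, Category.assoc, e1, pullback.diagonal_fst, Category.comp_id]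
      · rw [Category.assoc, Category.assoc, e2, pullback.diagonal_snd, Category.comp_id, h])
    have hl : l ≫ e = w := pullback.lift_fst _ _ _
    rw [← hl]
    intro x hx
    rw [RingHom.mem_ker] at hx
    rw [RingHom.mem_ker, Scheme.Hom.comp_appTop]
    change l.appTop.hom (e.appTop.hom x) = 0
    rw [hx, map_zero]
  · obtain ⟨l, rfl⟩ := exists_lift_of_ker e h2 w h
    have h3 : e ≫ a = e ≫ b := by
      have h4 : e ≫ ab = pullback.snd ab δ ≫ δ := pullback.condition
      have h5 := congrArg (fun z => z ≫ pullback.fst _ _) h4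
      have h6 := congrArg (fun z => z ≫ pullback.snd _ _) h4
      simp only [Category.assoc, ab, δ, pullback.lift_fst, pullback.lift_snd, pullback.diagonal_fst,
        pullback.diagonal_snd, Category.comp_id] at h5 h6
      exact h5.trans h6.symm
    rw [Category.assoc, Category.assoc, h3]

/-- An ideal is finitely generated if the closed subscheme is locally of finite presentation. -/
theorem fg_of_lfp (U : Scheme.{u}) [IsAffine U] (J : Ideal Γ(U, ⊤)) (h : LocallyOfFinitePresentation (zι U J)) :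
    J.FG := by
  have h1 : LocallyOfFinitePresentation (Spec.map (CommRingCat.ofHom (Ideal.Quotient.mk J))) := by
    have h2 : Spec.map (CommRingCat.ofHom (Ideal.Quotient.mk J)) = zι U J ≫ U.isoSpec.hom := by
      rw [zι, Category.assoc, Iso.inv_hom_id, Category.comp_id]
    rw [h2]
    infer_instance
  have h3 : (Ideal.Quotient.mk J).FinitePresentation :=
    (HasRingHomProperty.Spec_iff (P := @LocallyOfFinitePresentation)).1 h1
  let _ : Algebra Γ(U, ⊤) (Γ(U, ⊤) ⧸ J) := (Ideal.Quotient.mk J).toAlgebra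
  have h3' : Algebra.FinitePresentation Γ(U, ⊤) (Γ(U, ⊤) ⧸ J) := h3
  have h4 := Algebra.FinitePresentation.ker_fG_of_surjective (Algebra.ofId Γ(U, ⊤) (Γ(U, ⊤) ⧸ J))
    Ideal.Quotient.mk_surjective
  change (RingHom.ker (Ideal.Quotient.mk J)).FG at h4
  rwa [Ideal.mk_ker] at h4

end K194.AffKer
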