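import Groth.Agent.RedSub.H660.Classes
import Groth.Agent.RedSub.H648.TypeR

/-!
# The class of closed subgroups of type (R)
-/

set_option autoImplicit false
universe u

open CategoryTheory CategoryTheory.Limits AlgebraicGeometry Opposite MonoidalCategory CartesianMonoidalCategory
  MonObj GrpObj

namespace K194.GoodR

open Groth.Agent.Sga3B Groth.Agent.Sga3B.BcPts Groth.Agent.Sga3B.MT Groth.Agent.Sga3B.RepDescent
open Groth.Agent.Sga3B.Parab.GeomFib147 Groth.Agent.RedSub.H648
open Groth.Agent.Sga3B.Parab.RedCover147 Groth.Agent.Sga3B.RedIso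
open Groth.Agent.RedSub.H660.Classes

/-- a maximal torus of the ambient group is contained in the subgroup -/
def W (K : Type u) [Field K] (A B : Over (Spec (CommRingCat.of K))) [GrpObj A] [GrpObj B] (i : A ⟶ B) : Prop :=
  ∃ (T : Over (Spec (CommRingCat.of K))) (_ : GrpObj T) (t : T ⟶ A), IsMonHom t ∧ Red.IsMaximalTorus (t ≫ i)

theorem isGeom_W : IsGeom W.{u} where
  iso {K _ A A' B B' _ _ _ _ i i'} eA eB w h := by
    obtain ⟨T, _, t, ht, hT⟩ := h
    refine ⟨T, inferInstance, t ≫ (und eA).hom, inferInstance, ?_⟩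
    refine AlgBc.isMaximalTorus_of_arrow (Iso.refl _) eB ?_ hT
    rw [Category.assoc, Category.assoc]
    refine (congrArg (t ≫ ·) w.symm).trans ?_
    exact (Category.id_comp _).symm
  bc {K K' _ _} φ _ A B _ _ i h := by
    obtain ⟨T, _, t, ht, hT⟩ := h
    refine ⟨Red.bc φ T, inferInstance, (Over.pullback φ).map t, inferInstance, ?_⟩
    rw [← Functor.map_comp]
    exact AlgBc.isMaximalTorus_bc φ hT

/-- Type (R) is étale local. -/
theorem isTypeR_of_cover {S : Scheme.{u}} {J : Type u} {S' : J → Scheme.{u}} {f : ∀ i, S' i ⟶ S} (hf : IsEtCov f)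
    {H G : Over S} [GrpObj H] [GrpObj G] {h : H ⟶ G} (hm : IsMonHom h) (hi : IsImmersion h.left)
    (hh : ∀ i, RedSub.IsTypeR ((Over.pullback (f i)).map h)) : RedSub.IsTypeR h := by
  refine ⟨⟨hm, hi⟩, smooth_of_cover hf fun i => (hh i).2.1, quasiCompact_of_cover hf fun i => (hh i).2.2.1,
    fun s => ?_, fun s => ?_⟩
  · obtain ⟨i, s', rfl⟩ := hf.cov.surj s
    have h1 := (hh i).2.2.2.1 s'
    have h2 : H.hom.base ⁻¹' {f i s'} =
        (pullback.fst H.hom (f i)).base '' ((Red.bc (f i) H).hom.base ⁻¹' {s'}) := by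
      ext y
      constructor
      · intro hy
        obtain ⟨z, hz1, hz2⟩ := Scheme.Pullback.exists_preimage_pullback (f := H.hom) (g := f i) y s' hy
        exact ⟨z, hz2, hz1⟩
      · rintro ⟨z, hz, rfl⟩
        have h3 : (Red.bc (f i) H).hom z = s' := hz
        change H.hom ((pullback.fst H.hom (f i)) z) = f i s'
        rw [← h3, ← Scheme.Hom.comp_apply, pullback.condition]
        rfl
    rw [h2]
    exact h1.image _ (pullback.fst H.hom (f i)).continuous.continuousOn
  · obtain ⟨i, s', rfl⟩ := hf.cov.surj s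
    have := hf.qf i
    exact (isGeom_W.fibre_iff (f i) s' h).1 ((hh i).2.2.2.2 s')

/-- **The class of closed subgroups of type (R).** -/
theorem good : Good.{u} (fun {_ _ _} _ _ h => RedSub.IsTypeR h ∧ IsClosedImmersion h.left) where
  isMonHom h := h.1.1.1
  isClosedImmersion h := h.2
  of_arrow {S H G H₁ G₁ _ _ _ _ h h₁} φ ψ hc hh := by
    refine ⟨TypeR.isTypeR_of_arrow φ ψ hc hh.1, ?_⟩
    have h2 := hh.2
    rw [TypeR.eq_of_arrow φ ψ hc, Over.comp_left, Over.comp_left]
    infer_instance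
  bc {S S'} f H G _ _ h hG hh :=
    ⟨TypeR.isTypeR_bc f hG hh.1, isClosedImmersion_bc f hh.2⟩
  loc {S J S' f} hf H G _ _ h hm hh := by
    have h2 : IsClosedImmersion h.left := isClosedImmersion_of_cover hf fun i => (hh i).2
    exact ⟨isTypeR_of_cover hf hm inferInstance fun i => (hh i).1, h2⟩

end K194.GoodR
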