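import Groth.Agent.RedSub.K194.ConjMd
import Groth.Agent.RedSub.K194.GoodR
import Groth.Agent.S3960
import Groth.Agent.S3990
import Groth.Agent.RedSub.H660.FinCop
import Groth.Agent.S13731

/-!
# Representability of the functor of closed subgroups of type (R) over a base with universal subgroups `Str`
-/

set_option autoImplicit false
universe u

open CategoryTheory MonoidalCategory CartesianMonoidalCategory MonObj GrpObj AlgebraicGeometry Limits Opposite

namespace K194.Assem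

open Groth.Agent Groth.Agent.Sga3B Groth.Agent.Sga3B.SplitBc264 Groth.Agent.RedSub.H635.Uniq
  Groth.Agent.RedSub.H647.SubPt Groth.Agent.RedSub.H647.SubF Groth.Agent.Sga3B.MT
  Groth.Agent.RedSub.H643.TypeRTorus Groth.Agent.Sga3B.RedIso Groth.Agent.Sga3B.Parab.RedCover147
  Groth.Agent.RedSub.H660.Classes Groth.Agent.RedSub.H660.ConjRep
  K194.MdPt K194.MdDesc K194.Stratum K194.ConjMd K196.ConjAct K194.GoodR
open Groth.Agent.Redsub.H649.ConjPts (fam InC taut)
open Groth.Agent.RedSub.H647.SubF.SubClass (down pt_down pt_down_iff)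

variable {S S' V : Scheme.{u}} {G : Over S} [GrpObj G] (D : Red.SplitRed G)

/-- **Standard form.** -/
theorem exists_std (f : S' ⟶ S) {H : Over S'} [GrpObj H] (h : H ⟶ Red.bc f G) (hH : RedSub.IsTypeR h) (s : S') :
    ∃ (V : Scheme.{u}) (p : V ⟶ S'), Etale p ∧ s ∈ Set.range p ∧ Nonempty V ∧
      ∃ (H' : Over V) (_ : GrpObj H') (h' : H' ⟶ Red.bc (p ≫ f) G) (R₀ : Set D.idx) (g : Over.mk (p ≫ f) ⟶ G),
        Md D R₀ h' ∧ ∀ (X : Scheme.{u}) (y : X ⟶ V) (c : X ⟶ G.left), Pt (h' ≫ cj g) y c ↔ Pt h (y ≫ p) c := by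
  obtain ⟨V, p, hp, ⟨v, hv⟩, H', _, h', t', R₀, g, h1, h2, h3, h4, h5⟩ := K195.TypeRSt.exists_standard D f h hH s
  refine ⟨V, p, hp, ⟨v, hv⟩, ⟨v⟩, H', inferInstance, h', R₀, g, ⟨h1, (tor_iff D h').1 ⟨t', h2⟩, h3, h4⟩, ?_⟩
  have h6 : p ≫ f = p ≫ f := rfl
  refine (same_iff p h6 (h' ≫ cj g) h).2 fun X y c => ?_
  rw [pt_cj]
  exact (h5 X y c).symm

variable {D}

/-- a subgroup with the same points as a closed one is closed -/
lemma isClosed_of_pt {f₁ f₂ : S' ⟶ S} (hf : f₁ = f₂) {H₁ H₂ : Over S'} [GrpObj H₁] [GrpObj H₂]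
    {h₁ : H₁ ⟶ Red.bc f₁ G} {h₂ : H₂ ⟶ Red.bc f₂ G} (hm : IsMonHom h₁) (hc : IsClosedImmersion h₁.left)
    (hm₂ : IsMonHom h₂) (hi : IsImmersion h₂.left)
    (e : ∀ (X : Scheme.{u}) (y : X ⟶ S') (c : X ⟶ G.left), Pt h₁ y c ↔ Pt h₂ y c) : IsClosedImmersion h₂.left := by
  subst hf
  have m1 : Mono h₁ := Over.mono_of_mono_left h₁
  have m2 : Mono h₂ := Over.mono_of_mono_left h₂
  obtain ⟨i, hi⟩ := exists_grpIso_of_pt h₂ h₁ fun X y c => (e X y c).symm
  rw [← hi, Over.comp_left]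
  have h3 : IsIso i.hom.hom.hom.left := (Over.forget _).map_isIso ((Grp.forget _).map i.hom)
  infer_instance

/-- a member of the class over `S'` is the pull back of the universal one -/
lemma exists_w {R₀ : Set D.idx} (σ : Str D R₀) {f : V ⟶ S} {H : Over V} [GrpObj H] {h : H ⟶ Red.bc f G}
    (hM : Md D R₀ h) : ∃ w : V ⟶ σ.S₀, w ≫ σ.i = f ∧
      ∀ (X : Scheme.{u}) (y : X ⟶ V) (c : X ⟶ G.left), Pt (bcSub w σ.q) y c ↔ Pt h y c := by
  obtain ⟨w, hw⟩ := σ.univ V f H h hM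
  exact ⟨w, hw, fun X y c => same_of_eq hw (σ.md.bcSub w) hM X y c⟩

/-- a member of the class is closed -/
lemma isClosed_md {R₀ : Set D.idx} (σ : Str D R₀) {f : V ⟶ S} {H : Over V} [GrpObj H] {h : H ⟶ Red.bc f G}
    (hM : Md D R₀ h) : IsClosedImmersion h.left := by
  obtain ⟨w, hw, e⟩ := exists_w σ hM
  have h1 := σ.md.typeR.1.1
  have h2 := σ.closed_q
  have h3 := hM.typeR.1
  exact isClosed_of_pt hw (isMonHom_bcSub w σ.q) (isClosedImmersion_bcSub w σ.q) h3.1 h3.2 e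

/-- **Subgroups of type (R) are closed.** -/
theorem isClosed (hstr : ∀ R₀ : Set D.idx, Occurs D R₀ → Nonempty (Str D R₀)) (f : S' ⟶ S) {H : Over S'} [GrpObj H]
    (h : H ⟶ Red.bc f G) (hH : RedSub.IsTypeR h) : IsClosedImmersion h.left := by
  choose V p hp hs hne H' i1 h' R₀ g hM e using exists_std D f h hH
  have hcov : IsEtCov p := by
    refine IsEtCov.of_etale p hp fun s => ?_
    obtain ⟨v, hv⟩ := hs s
    exact ⟨s, v, hv⟩
  have m1 := hH.1.1
  have m2 := hH.1.2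
  refine isClosedImmersion_of_cover hcov fun s => ?_
  have h1 : Occurs D (R₀ s) := ⟨V s, hne s, p s ≫ f, H' s, i1 s, h' s, hM s⟩
  obtain ⟨σ⟩ := hstr _ h1
  have h2 := isClosed_md σ (hM s)
  have h3 : IsClosedImmersion (h' s ≫ cj (g s)).left := isClosedImmersion_comp_cj (g s) (h' s)
  have h4 := (hM s).typeR.1.1
  have h5 : IsMonHom (h' s ≫ cj (g s)) := inferInstance
  have h6 : IsMonHom (bcSub (p s) h) := isMonHom_bcSub (p s) h
  have h7 := K199.TypeRPull.isTypeR_bcSub (p s) D.reductive hH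
  have h8 := isClosed_of_pt rfl h5 h3 h6 h7.1.2 fun X y c => (e s X y c).trans (pt_bcSub (p s) h y c).symm
  exact ((good.bcSub_iff (p s) h).1 ⟨h7, h8⟩).2

section rep

/-- transport of the conjugating element along an equality of base points -/
lemma exists_cj_congr {f₁ f₂ : S' ⟶ S} (hf : f₁ = f₂) {H₁ H₂ : Over S'} {h₁ : H₁ ⟶ Red.bc f₁ G}
    {h₂ : H₂ ⟶ Red.bc f₂ G} (e : ∀ (X : Scheme.{u}) (y : X ⟶ S') (c : X ⟶ G.left), Pt h₁ y c ↔ Pt h₂ y c)
    (g₂ : Over.mk f₂ ⟶ G) :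
    ∃ g₁ : Over.mk f₁ ⟶ G, ∀ (X : Scheme.{u}) (y : X ⟶ S') (c : X ⟶ G.left),
      Pt (h₁ ≫ cj g₁) y c ↔ Pt (h₂ ≫ cj g₂) y c := by
  subst hf
  refine ⟨g₂, (same_iff_id _ _).2 fun X y c => ?_⟩
  rw [pt_cj, pt_cj, e]

lemma md_transport {f₁ f₂ : S' ⟶ S} (hf : f₁ = f₂) {R₀ : Set D.idx} {H₁ : Over S'} [GrpObj H₁]
    {h₁ : H₁ ⟶ Red.bc f₁ G} (hM : Md D R₀ h₁) (g₁ : Over.mk f₁ ⟶ G) :
    ∃ (H₂ : Over S') (_ : GrpObj H₂) (h₂ : H₂ ⟶ Red.bc f₂ G) (g₂ : Over.mk f₂ ⟶ G), Md D R₀ h₂ ∧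
      ∀ (X : Scheme.{u}) (y : X ⟶ S') (c : X ⟶ G.left), Pt (h₂ ≫ cj g₂) y c ↔ Pt (h₁ ≫ cj g₁) y c := by
  subst hf
  exact ⟨H₁, inferInstance, h₁, g₁, hM, fun _ _ _ => Iff.rfl⟩

lemma pw_append (l l' : List D.idx) : pw D (l ++ l') = pw D l * pw D l' := by
  simp only [pw, List.map_append, List.prod_append]

lemma pw_reverse (l : List D.idx) : pw D l.reverse = (pw D l)⁻¹ := by
  induction l with
  | nil => simp [pw]
  | cons a l ih =>
    rw [List.reverse_cons, pw_append, ih]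
    have h1 : pw D (a :: l) = D.P.reflectionPerm a * pw D l := by simp [pw]
    have h2 : pw D [a] = D.P.reflectionPerm a := by simp [pw]
    have h3 : (D.P.reflectionPerm a)⁻¹ = D.P.reflectionPerm a := by
      rw [inv_eq_iff_mul_eq_one]
      ext b
      exact D.P.reflectionPerm_self a b
    rw [h1, h2, _root_.mul_inv_rev, h3]

variable (D) in
/-- the sets of roots modulo the Weyl group -/
def setoid : Setoid {R₀ : Set D.idx // Occurs.{u} D R₀} where
  r a b := ∃ l, b.1 = pw D l '' a.1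
  iseqv := by
    refine ⟨fun a => ⟨[], ?_⟩, ?_, ?_⟩
    · change a.1 = (1 : Equiv.Perm D.idx) '' a.1
      simp
    · rintro a b ⟨l, hl⟩
      refine ⟨l.reverse, ?_⟩
      rw [hl, pw_reverse, ← Set.image_comp]
      simp
    · rintro a b c ⟨l, hl⟩ ⟨l', hl'⟩
      refine ⟨l' ++ l, ?_⟩
      rw [hl', hl, pw_append, ← Set.image_comp]
      rfl

variable (D) in
/-- the index set of the strata -/
def J : Type u := ULift.{u} (Quotient (setoid D))

instance : Finite (J D) := by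
  have h1 : Finite D.idx := inferInstance
  have h2 : Finite (Quotient (setoid D)) := inferInstance
  exact inferInstanceAs (Finite (ULift.{u} (Quotient (setoid D))))

/-- the set of roots of an index -/
noncomputable def R (j : J D) : Set D.idx := (Quotient.out j.down).1

lemma occurs_R (j : J D) : Occurs D (R j) := (Quotient.out j.down).2

lemma exists_index {R₀ : Set D.idx} (h : Occurs D R₀) : ∃ (j : J D) (l : List D.idx), R j = pw D l '' R₀ := by
  refine ⟨⟨Quotient.mk _ ⟨R₀, h⟩⟩, ?_⟩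
  exact (setoid D).symm (Quotient.mk_out (s := setoid D) ⟨R₀, h⟩)

lemma eq_of_word {j k : J D} (h : ∃ l, R k = pw D l '' R j) : j = k := by
  have h1 : (setoid D).r (Quotient.out j.down) (Quotient.out k.down) := h
  have h2 := Quotient.sound (s := setoid D) h1
  rw [Quotient.out_eq, Quotient.out_eq] at h2
  exact ULift.ext _ _ h2

open Groth.Agent.RedSub.H647.SubF.SubClass K199.ConjStrat in
/-- **Representability of the functor of closed subgroups of type (R).** -/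
theorem exists_rep [IsLocallyNoetherian S] (hstr : ∀ R₀ : Set D.idx, Occurs D R₀ → Nonempty (Str D R₀)) :
    ∃ M : Over S, Nonempty ((good.toClass D.reductive).subsF.RepresentableBy M) ∧
      LocallyOfFinitePresentation M.hom ∧ QuasiCompact M.hom ∧ QuasiSeparated M.hom := by
  let σ : ∀ j : J D, Str D (R j) := fun j => (hstr _ (occurs_R j)).some
  let i : ∀ j, (σ j).S₀ ⟶ S := fun j => (σ j).i
  let Q : ∀ j, Over (σ j).S₀ := fun j => (σ j).Q
  let q : ∀ j, Q j ⟶ Red.bc (i j) G := fun j => (σ j).q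
  have hcl : ∀ j, IsClosedImmersion (i j) := fun j => (σ j).closed_i
  have hlf : ∀ j, LocallyOfFinitePresentation (i j) := fun j => (σ j).lfp_i
  have hmono : ∀ j, Mono (i j) := fun j => inferInstance
  have hred : ∀ j, Red.IsReductive (Red.bc (i j) G) := fun j => RedBcAny636.isReductive_bc _ D.reductive
  have hqR : ∀ j, RedSub.IsTypeR (q j) := fun j => (σ j).md.typeR
  have hqc : ∀ j, IsClosedImmersion (q j).left := fun j => (σ j).closed_q
  choose N iN n hN hNc hNs using fun j => Groth.Agent.S3960.result (hred j) (q j) (hqR j)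
  choose X π hπ hXs hXc hXq _ using fun j => Groth.Agent.S3990.result (hred j) (q j) (hqR j) (n j) (hN j)
  have hfam : ∀ j, (good.toClass D.reductive).Q (GS i G j).hom (univ i q j) := by
    intro j
    refine (good.down_iff (i j) (fam (q j) (taut (Red.bc (i j) G)))).2 ?_
    exact good.comp_cj _ (good.bc _ (hred j) ⟨hqR j, hqc j⟩)
  have hlocIn : ∀ {S' : Scheme.{u}} (f : S' ⟶ S) {H : Over S'} [GrpObj H] (h : H ⟶ Red.bc f G),
      (good.toClass D.reductive).Q f h →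
      ∀ s : S', ∃ (V : Scheme.{u}) (p : V ⟶ S'), Etale p ∧ s ∈ Set.range p ∧ ∃ (j : J D) (w : V ⟶ (σ j).S₀)
        (_ : w ≫ i j = p ≫ f) (g : Over.mk w ⟶ Red.bc (i j) G),
        ∀ (X : Scheme.{u}) (y : X ⟶ V) (c : X ⟶ G.left), Pt (down (i j) (fam (q j) g)) y c ↔ Pt h (y ≫ p) c := by
    intro S' f H _ h hQ s
    obtain ⟨V, p, hp, hs, hne, H', _, h', R₀, g, hM, e⟩ := exists_std D f h hQ.1 s
    have ho : Occurs D R₀ := ⟨V, hne, p ≫ f, H', inferInstance, h', hM⟩
    obtain ⟨j, l, hl⟩ := exists_index ho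
    obtain ⟨g₀, hM'⟩ := md_word hM l
    rw [← hl] at hM'
    obtain ⟨w, hw, e'⟩ := exists_w (σ j) hM'
    obtain ⟨g₂, hg₂⟩ := exists_cj_congr hw e' (g * g₀⁻¹)
    obtain ⟨g₁, hg₁⟩ := exists_g₁ (i j) g₂
    refine ⟨V, p, hp, hs, j, w, hw, g₁, fun X y c => ?_⟩
    rw [pt_down_fam (i j) (q j) g₁ g₂ hg₁, hg₂, Category.assoc, cj_comp_cj, _root_.mul_assoc, inv_mul_cancel, _root_.mul_one]
    exact e X y c
  have hne : ∀ (j k : J D) (T : Over S) (a : T ⟶ GS i G j) (b : T ⟶ GS i G k), Nonempty T.left →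
      (∀ (X : Scheme.{u}) (y : X ⟶ T.left) (c : X ⟶ G.left), Pt (univ i q j) (y ≫ a.left) c ↔
        Pt (univ i q k) (y ≫ b.left) c) → j = k := by
    intro j k T a b ⟨t⟩ hab
    let x := Red.geomPt t
    have key : ∀ (j : J D) (a : T ⟶ GS i G j), ∃ (H : Over _) (_ : GrpObj H) (h : H ⟶ Red.bc (x ≫ T.hom) G)
        (g : Over.mk (x ≫ T.hom) ⟶ G), Md D (R j) h ∧ ∀ (X : Scheme.{u}) (y : X ⟶ _) (c : X ⟶ G.left),
          Pt (h ≫ cj g) y c ↔ Pt (univ i q j) (y ≫ x ≫ a.left) c := by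
      intro j a
      let w := (x ≫ a.left) ≫ (Red.bc (i j) G).hom
      have hw : w ≫ i j = x ≫ T.hom := by
        simp only [w, Category.assoc]
        rw [← Over.w a]
        rfl
      let g₁ : Over.mk w ⟶ Red.bc (i j) G := Over.homMk (x ≫ a.left)
      let g₂ : Over.mk (w ≫ i j) ⟶ G := Over.homMk (g₁.left ≫ pullback.fst G.hom (i j)) (by
        change ((x ≫ a.left) ≫ pullback.fst G.hom (i j)) ≫ G.hom = ((x ≫ a.left) ≫ pullback.snd G.hom (i j)) ≫ i j
        rw [Category.assoc _ _ G.hom, pullback.condition, Category.assoc _ _ (i j)])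
      obtain ⟨H, _, h, g, hM, e⟩ := md_transport hw ((σ j).md.bcSub w) g₂
      refine ⟨H, inferInstance, h, g, hM, fun X y c => ?_⟩
      rw [e, ← pt_down_fam (i j) (q j) g₁ g₂ rfl]
      exact pt_down_fam_iff i q g₁ y c
    obtain ⟨H₁, _, h₁, g₁, hM₁, e₁⟩ := key j a
    obtain ⟨H₂, _, h₂, g₂, hM₂, e₂⟩ := key k b
    refine eq_of_word (exists_word hM₁ hM₂ g₁ g₂ fun X y c => ?_)
    rw [e₁, e₂]
    have h1 := hab X (y ≫ x) c
    rw [Category.assoc, Category.assoc] at h1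
    exact h1

  obtain ⟨r, -⟩ := K199.ConjStrat.exists_representableBy (i := i) (q := q) (𝒬 := good.toClass D.reductive) n
    (good.toClass_isLocal D.reductive) hfam hlocIn hN hne X π hπ
    (fun j => have := hNs j; smooth_of_isQuotient (hπ j))
  refine ⟨_, ⟨r⟩, ?_⟩
  have h1 : LocallyOfFinitePresentation (sig fun j => (Over.map (i j)).obj (X j)).hom :=
    IsZariskiLocalAtSource.sigmaDesc (P := @LocallyOfFinitePresentation) fun j =>
      have := hXs j
      inferInstanceAs (LocallyOfFinitePresentation ((X j).hom ≫ i j))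
  have h2 : QuasiCompact (sig fun j => (Over.map (i j)).obj (X j)).hom := by
    have h3 : ∀ j, QuasiCompact ((Over.map (i j)).obj (X j)).hom := fun j =>
      have := hXc j
      inferInstanceAs (QuasiCompact ((X j).hom ≫ i j))
    exact Groth.Agent.S13731.quasiCompact_sigmaDesc fun j => ((Over.map (i j)).obj (X j)).hom
  refine ⟨h1, h2, ?_⟩
  have h3 : IsLocallyNoetherian (sig fun j => (Over.map (i j)).obj (X j)).left :=
    LocallyOfFiniteType.isLocallyNoetherian (sig fun j => (Over.map (i j)).obj (X j)).hom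
  infer_instance

end rep

end K194.Assem
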