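import Groth.Agent.RedSub.K194.Stratum
import Groth.Agent.RedSub.K195.TypeRSt
import Groth.Agent.RedSub.K196.ConjAct
import Groth.Agent.RedSub.K196.ConjWord
import Groth.Agent.RedSub.K199.ConjStrat

/-!
# Conjugates of the subgroups of type (R) containing the torus, with given roots

* `md_word`: conjugation by words in the reflections;
* `exists_fam`: the families `fam q g` of `K199.ConjStrat` through `cj`;
* `exists_word`: over an algebraically closed field, conjugate subgroups have conjugate sets of roots.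
-/

set_option autoImplicit false
universe u

open CategoryTheory MonoidalCategory CartesianMonoidalCategory MonObj GrpObj AlgebraicGeometry Limits Opposite

namespace K194.ConjMd

open Groth.Agent Groth.Agent.Sga3B Groth.Agent.Sga3B.SplitBc264 Groth.Agent.RedSub.H635.Uniq
  Groth.Agent.RedSub.H647.SubPt Groth.Agent.RedSub.H647.SubF Groth.Agent.RedSub.H647.QCov Groth.Agent.Sga3B.MT
  Groth.Agent.RedSub.H643.TypeRTorus Groth.Agent.Sga3B.RedIso
  K194.MdPt K194.MdDesc K194.Stratum K196.ConjAct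
open Groth.Agent.Redsub.H649.ConjPts (fam InC taut)
open Groth.Agent.RedSub.H647.SubF.SubClass (down pt_down pt_down_iff)

variable {S V : Scheme.{u}} {G : Over S} [GrpObj G]

/-- conjugation by a section is `cj` -/
lemma exists_cj {f : V ⟶ S} (n : 𝟙_ (Over V) ⟶ Red.bc f G) :
    ∃ g₀ : Over.mk f ⟶ G, (und (inn n)).hom = cj g₀ := by
  have hn : n.left ≫ pullback.snd G.hom f = 𝟙 V := Over.w n
  refine ⟨Over.homMk (n.left ≫ pullback.fst G.hom f) (by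
    change (n.left ≫ pullback.fst G.hom f) ≫ G.hom = f
    rw [Category.assoc, pullback.condition, ← Category.assoc, hn]
    exact Category.id_comp f), ?_⟩
  set g₀ : Over.mk f ⟶ G := Over.homMk (n.left ≫ pullback.fst G.hom f) _ with hg₀
  have h1 := comp_inn n (𝟙 (Red.bc f G))
  have h2 := MT.comp_cj g₀ (𝟙 (Red.bc f G))
  rw [Category.id_comp] at h1 h2
  have h3 : toUnit (Red.bc f G) ≫ n = toE f (Red.bc f G) ≫ bcPt (𝟙 _) g₀ := by
    apply Over.OverMorphism.ext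
    apply pullback.hom_ext
    · have e1 := bcPt_left_fst (𝟙 (Over.mk f)) g₀
      have e2 : (toE f (Red.bc f G) ≫ bcPt (𝟙 (Over.mk f)) g₀).left ≫ pullback.fst G.hom f =
          (Red.bc f G).hom ≫ g₀.left := by
        rw [Over.comp_left, Category.assoc]
        exact congrArg ((toE f (Red.bc f G)).left ≫ ·) e1
      rw [e2]
      rfl
    · exact (Over.w (toUnit (Red.bc f G) ≫ n)).trans (Over.w (toE f (Red.bc f G) ≫ bcPt (𝟙 _) g₀)).symm
  rw [h1, h2, h3]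

lemma cj_comp_cj {f : V ⟶ S} (a b : Over.mk f ⟶ G) : cj a ≫ cj b = cj (b * a) := by
  rw [MT.comp_cj, cj, cj, bcPt_mul, MonObj.comp_mul]
  group

lemma cj_one {f : V ⟶ S} : cj (1 : Over.mk f ⟶ G) = 𝟙 (Red.bc f G) := by
  rw [cj, bcPt_one, MonObj.comp_one]
  group

variable {D : Red.SplitRed G}

/-- the permutation of the roots given by a word in the reflections -/
noncomputable def pw (D : Red.SplitRed G) (l : List D.idx) : Equiv.Perm D.idx := (l.map D.P.reflectionPerm).prod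

lemma md_refl {f : V ⟶ S} {R₀ : Set D.idx} {H : Over V} [GrpObj H] {h : H ⟶ Red.bc f G} (hM : Md D R₀ h) (a : D.idx) :
    ∃ g₀ : Over.mk f ⟶ G, Md D (D.P.reflectionPerm a '' R₀) (h ≫ cj g₀) := by
  obtain ⟨n, hn⟩ := (splitBc f D).refl a
  obtain ⟨g₀, hg₀⟩ := exists_cj n
  obtain ⟨t, ht⟩ := (tor_iff D h).2 hM.tor
  obtain ⟨h1, -, h3, h4⟩ := conj_refl (D := splitBc f D) a (n := n) hn hM.typeR t ht
  rw [hg₀] at h1 h3 h4
  refine ⟨g₀, h1, (tor_iff D _).1 h3, ?_, ?_⟩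
  · rintro _ ⟨b, hb, rfl⟩
    exact (h4 b).trans (hM.mem b hb)
  · intro c hc
    have h5 := h4 ((D.P.reflectionPerm a).symm c)
    have h6 : (splitBc f D).P.reflectionPerm a ((D.P.reflectionPerm a).symm c) = c :=
      (D.P.reflectionPerm a).apply_symm_apply c
    rw [h6] at h5
    rw [h5]
    refine hM.nmem _ fun h7 => hc ⟨_, h7, (D.P.reflectionPerm a).apply_symm_apply c⟩

/-- **Conjugation by words.** -/
theorem md_word {f : V ⟶ S} {R₀ : Set D.idx} {H : Over V} [GrpObj H] {h : H ⟶ Red.bc f G} (hM : Md D R₀ h)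
    (l : List D.idx) : ∃ g₀ : Over.mk f ⟶ G, Md D (pw D l '' R₀) (h ≫ cj g₀) := by
  induction l with
  | nil =>
    refine ⟨1, ?_⟩
    have e : pw D [] '' R₀ = R₀ := by
      change (1 : Equiv.Perm D.idx) '' R₀ = R₀
      simp
    rw [cj_one, Category.comp_id, e]
    exact hM
  | cons a l ih =>
    obtain ⟨g₀, hg₀⟩ := ih
    obtain ⟨g₁, hg₁⟩ := md_refl hg₀ a
    refine ⟨g₁ * g₀, ?_⟩
    have e : pw D (a :: l) '' R₀ = D.P.reflectionPerm a '' (pw D l '' R₀) := by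
      rw [← Set.image_comp]
      rfl
    rw [Category.assoc, cj_comp_cj] at hg₁
    rw [e]
    exact hg₁

/-- points of the conjugate -/
lemma pt_cj {f : V ⟶ S} {H : Over V} (h : H ⟶ Red.bc f G) (g₀ : Over.mk f ⟶ G) {X : Over S} (y : X ⟶ Over.mk f)
    (c : X ⟶ G) : Pt (h ≫ cj g₀) y.left c.left ↔ Pt h y.left ((y ≫ g₀)⁻¹ * c * (y ≫ g₀)).left := by
  rw [← memAt_iff_pt, ← memAt_iff_pt, memAt_comp_cj]

/-- the families of `K199.ConjStrat` -/
lemma pt_down_fam {S₀ : Scheme.{u}} (i : S₀ ⟶ S) {Q : Over S₀} (q : Q ⟶ Red.bc i G) {w : V ⟶ S₀}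
    (g₁ : Over.mk w ⟶ Red.bc i G) (g₂ : Over.mk (w ≫ i) ⟶ G) (hg : g₁.left ≫ pullback.fst G.hom i = g₂.left)
    (X : Scheme.{u}) (y : X ⟶ V) (c : X ⟶ G.left) :
    Pt (down i (fam q g₁)) y c ↔ Pt (bcSub w q ≫ cj g₂) y c := by
  by_cases hc : c ≫ G.hom = (y ≫ w) ≫ i
  · let X₀ : Over S₀ := Over.mk (y ≫ w)
    let y₀ : X₀ ⟶ Over.mk w := Over.homMk y
    let c₀ : X₀ ⟶ Red.bc i G := Over.homMk (pullback.lift c (y ≫ w) hc) (pullback.lift_snd _ _ _)
    let X₁ : Over S := Over.mk ((y ≫ w) ≫ i)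
    let y₁ : X₁ ⟶ Over.mk (w ≫ i) := Over.homMk y (by
      change y ≫ w ≫ i = (y ≫ w) ≫ i
      rw [Category.assoc])
    let c₁ : X₁ ⟶ G := Over.homMk c hc
    have e1 : Pt (down i (fam q g₁)) y c ↔ InC q (y₀ ≫ g₁) c₀ := by
      rw [pt_down _ _ _ _ hc]
      exact Groth.Agent.Redsub.H649.ConjPts.pt_fam_iff q g₁ y₀ c₀
    have e2 : Pt (bcSub w q ≫ cj g₂) y c ↔ Pt q (y ≫ w) ((y₁ ≫ g₂)⁻¹ * c₁ * (y₁ ≫ g₂)).left := by
      refine (pt_cj (bcSub w q) g₂ y₁ c₁).trans ?_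
      exact pt_bcSub w q _ _
    rw [e1, e2]
    let a : X₁ ⟶ Over.mk i := Over.homMk (y ≫ w)
    have e3 := memAt_iff_pt q a ((y₁ ≫ g₂)⁻¹ * c₁ * (y₁ ≫ g₂))
    refine Iff.trans ?_ e3
    rw [memAt_iff, bcPt_mul, bcPt_mul, bcPt_inv]
    have e4 : bcPt a c₁ = c₀ := by
      apply Over.OverMorphism.ext
      apply pullback.hom_ext
      · rw [bcPt_left_fst]
        exact (pullback.lift_fst _ _ _).symm
      · rw [bcPt_left_snd]
        exact (pullback.lift_snd _ _ _).symm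
    have e5 : bcPt a (y₁ ≫ g₂) = y₀ ≫ g₁ := by
      apply Over.OverMorphism.ext
      apply pullback.hom_ext
      · rw [bcPt_left_fst, Over.comp_left, Over.comp_left, Category.assoc]
        exact (congrArg (y ≫ ·) hg).symm
      · rw [bcPt_left_snd]
        exact (Over.w (y₀ ≫ g₁)).symm
    rw [e4, e5]
    exact Iff.rfl
  · constructor
    · intro h1
      exact (hc ((h1.w).symm.trans (Category.assoc _ _ _).symm)).elim
    · intro h1
      exact (hc ((h1.w).symm.trans (Category.assoc _ _ _).symm)).elim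

omit [GrpObj G] in
lemma exists_g₁ {S₀ : Scheme.{u}} (i : S₀ ⟶ S) {w : V ⟶ S₀} (g₂ : Over.mk (w ≫ i) ⟶ G) :
    ∃ g₁ : Over.mk w ⟶ Red.bc i G, g₁.left ≫ pullback.fst G.hom i = g₂.left :=
  ⟨Over.homMk (pullback.lift g₂.left w (Over.w g₂)) (pullback.lift_snd _ _ _), pullback.lift_fst _ _ _⟩

/-- **Conjugate subgroups over an algebraically closed field have conjugate sets of roots.** -/
theorem exists_word {K : Type u} [Field K] [IsAlgClosed K] {z : Spec (CommRingCat.of K) ⟶ S} {R₁ R₂ : Set D.idx}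
    {H₁ H₂ : Over (Spec (CommRingCat.of K))} [GrpObj H₁] [GrpObj H₂] {h₁ : H₁ ⟶ Red.bc z G} {h₂ : H₂ ⟶ Red.bc z G}
    (hM₁ : Md D R₁ h₁) (hM₂ : Md D R₂ h₂) (g₁ g₂ : Over.mk z ⟶ G)
    (e : ∀ (X : Scheme.{u}) (y : X ⟶ Spec (CommRingCat.of K)) (c : X ⟶ G.left),
      Pt (h₁ ≫ cj g₁) y c ↔ Pt (h₂ ≫ cj g₂) y c) :
    ∃ l : List D.idx, R₂ = pw D l '' R₁ := by
  obtain ⟨t₁, ht₁⟩ := (tor_iff D h₁).2 hM₁.tor
  obtain ⟨t₂, ht₂⟩ := (tor_iff D h₂).2 hM₂.tor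
  let n : 𝟙_ (Over (Spec (CommRingCat.of K))) ⟶ Red.bc z G :=
    (toE z _ ≫ bcPt (𝟙 _) g₂)⁻¹ * (toE z _ ≫ bcPt (𝟙 _) g₁)
  have hn : ∀ {X : Over (Spec (CommRingCat.of K))} (x : X ⟶ 𝟙_ _),
      x ≫ n = (toE z X ≫ bcPt (𝟙 _) g₂)⁻¹ * (toE z X ≫ bcPt (𝟙 _) g₁) := by
    intro X x
    simp only [n]
    rw [MonObj.comp_mul, GrpObj.comp_inv, ← Category.assoc, ← Category.assoc, comp_toE]
  have hconj : RedSub.ConjEq h₁ h₂ n := by
    intro X' x
    constructor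
    · intro p
      have h1 := (exists_fac_iff (h₁ ≫ cj g₁) (p ≫ h₁ ≫ cj g₁)).1 ⟨p, rfl⟩
      obtain ⟨p', hp'⟩ := (exists_fac_iff (h₂ ≫ cj g₂) (p ≫ h₁ ≫ cj g₁)).2 ((e _ _ _).1 h1)
      refine ⟨p', ?_⟩
      rw [← Category.assoc, ← Category.assoc, MT.comp_cj, MT.comp_cj] at hp'
      rw [hn]
      have h2 : p' ≫ h₂ = (toE z X' ≫ bcPt (𝟙 _) g₂)⁻¹ * ((toE z X' ≫ bcPt (𝟙 _) g₂) * (p' ≫ h₂) *
          (toE z X' ≫ bcPt (𝟙 _) g₂)⁻¹) * (toE z X' ≫ bcPt (𝟙 _) g₂) := by group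
      rw [h2, hp']
      group
    · intro p'
      have h1 := (exists_fac_iff (h₂ ≫ cj g₂) (p' ≫ h₂ ≫ cj g₂)).1 ⟨p', rfl⟩
      obtain ⟨p, hp⟩ := (exists_fac_iff (h₁ ≫ cj g₁) (p' ≫ h₂ ≫ cj g₂)).2 ((e _ _ _).2 h1)
      refine ⟨p, ?_⟩
      rw [← Category.assoc, ← Category.assoc, MT.comp_cj, MT.comp_cj] at hp
      rw [hn]
      have h2 : p ≫ h₁ = (toE z X' ≫ bcPt (𝟙 _) g₁)⁻¹ * ((toE z X' ≫ bcPt (𝟙 _) g₁) * (p ≫ h₁) *
          (toE z X' ≫ bcPt (𝟙 _) g₁)⁻¹) * (toE z X' ≫ bcPt (𝟙 _) g₁) := by group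
      rw [h2, hp]
      group
  have hlift : ∀ {R : Set D.idx} {H : Over (Spec (CommRingCat.of K))} [GrpObj H] {h : H ⟶ Red.bc z G}
      (hM : Md D R h) (t : (splitBc z D).T ⟶ H) (ht : t ≫ h = (splitBc z D).i) (a : D.idx),
      (∃ v, v ≫ h = (splitBc z D).u a) ↔ a ∈ R := by
    intro R H _ h hM t ht a
    have m1 := hM.typeR.1.1
    have m2 := hM.typeR.1.2
    have s1 := hM.typeR.2.1
    constructor
    · intro hv
      by_contra ha
      have h1 := mem_E_of_lift (splitBc z D) h a hv (⊥ : PrimeSpectrum K)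
      rw [hM.nmem a ha] at h1
      exact h1
    · intro ha
      exact exists_lift_u (splitBc z D) h t ht a (hM.mem a ha)
  obtain ⟨l, hl⟩ := K196.ConjWord.main (splitBc z D) h₁ h₂ hM₁.typeR hM₂.typeR t₁ ht₁ t₂ ht₂ n hconj
  refine ⟨l, ?_⟩
  have h3 : ∀ a, a ∈ R₁ ↔ pw D l a ∈ R₂ := by
    intro a
    rw [← hlift hM₁ t₁ ht₁, hl a]
    exact hlift hM₂ t₂ ht₂ _
  ext b
  constructor
  · intro hb
    refine ⟨(pw D l).symm b, ?_, (pw D l).apply_symm_apply b⟩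
    rw [h3, Equiv.apply_symm_apply]
    exact hb
  · rintro ⟨a, ha, rfl⟩
    exact (h3 a).1 ha

end K194.ConjMd
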