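import Groth.Agent.Agf.H610.CentBorPt
import Groth.Agent.Sga3B.Parab.PbLine

/-!
# A connected group whose centralizers of corank one subtori are solvable is solvable

`K` algebraically closed, `A` a finitely generated Hopf algebra, `T = range π` a torus of rank `n` of the group of
points.  If `H ⊇ T` is a closed connected subgroup such that `H ∩ C(T)` and all the `H ∩ C(T_q)`, for `q` the quotient
of the character group by a primitive character, are solvable, then `H` is solvable.
-/

set_option autoImplicit false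
set_option linter.unusedSectionVars false

universe u

open WithConv TensorProduct Coalgebra
open Groth.Agent.Sga3B.RG Groth.Agent.Sga3B.RG.ConjGrade
open Groth.Agent.Sga3B.Parab.PbGen Groth.Agent.Sga3B.Parab.PbCoch Groth.Agent.Sga3B.Parab.PbLine
open Groth.Agent.Sga3B.Parab.BorelPts172

namespace K194.SolvPts

variable {K : Type u} [Field K] [IsAlgClosed K] {A : Type u} [CommRing A] [HopfAlgebra K A]
variable [Algebra.FiniteType K A] {n : ℕ}
variable (π : A →ₐc[K] MonoidAlgebra K (Multiplicative (Fin n → ℤ)))

/-- The absolute statement. -/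
theorem isSolvable_top [IsDomain A] (hπ : Function.Surjective π)
    (h0 : Group.IsSolvable (Subgroup.centralizer ((Pt.map π).range : Set (Pt K A))))
    (h1 : ∀ (b : Multiplicative (Fin n → ℤ)) (r : ℕ)
      (q : Multiplicative (Fin n → ℤ) →* Multiplicative (Fin r → ℤ)), Line b q →
      Group.IsSolvable (Z π q)) : Group.IsSolvable (⊤ : Subgroup (Pt K A)) := by
  have hT : IsTorusSub (Pt.map π).range := ⟨n, π, hπ, rfl⟩
  obtain ⟨B, hB, hTB⟩ := (BorConj838.isCCS_of_isTorusSub hT).exists_isBorelPt
  have h0' : Subgroup.centralizer ((Pt.map π).range : Set (Pt K A)) ≤ B := by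
    have hC : IsCCS (Subgroup.centralizer ((Pt.map π).range : Set (Pt K A))) :=
      ⟨hT.isCl_centralizer, hT.isConn_centralizer, h0⟩
    have := Groth.Agent.Agf.H610.CentBorPt.eq_of_le hB hT hTB hC le_rfl inf_le_left
    rw [this]
    exact inf_le_right
  have htop : B = ⊤ := by
    refine eq_top_of_centralizers π (torChar_injective n) hB.isCl hTB fun m => ?_
    by_cases hm : m = 1
    · refine ⟨_, inferInstance, MonoidHom.id _, torChar_injective n, hm, ?_⟩
      refine le_trans ?_ h0'
      intro g hg
      rw [mem_centralizer_iff_gr π (torChar_injective n)]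
      exact (mem_centralizer_piq_iff π (torChar_injective n) (MonoidHom.id _)).1 hg
    · obtain ⟨b, r, q, hL, hq⟩ := exists_line hm
      refine ⟨_, inferInstance, q, torChar_injective r, hq, ?_⟩
      have hS := isTorusSub_range hπ hL
      have hC : IsCCS (Z π q) := ⟨hS.isCl_centralizer, hS.isConn_centralizer, h1 b r q hL⟩
      have := Groth.Agent.Agf.H610.CentBorPt.eq_of_le hB hS (range_piq_le.trans hTB) hC le_rfl
        inf_le_left
      exact this.le.trans inf_le_right
  rw [← htop]
  exact hB.isSolvable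

/-- **The relative statement.** -/
theorem isSolvable_of_lines (hπ : Function.Surjective π) {H : Subgroup (Pt K A)}
    (hH : IsCl (H : Set (Pt K A))) (hHc : IsConn (H : Set (Pt K A))) (hTH : (Pt.map π).range ≤ H)
    (h0 : Group.IsSolvable (H ⊓ Subgroup.centralizer ((Pt.map π).range : Set (Pt K A)) :
      Subgroup (Pt K A)))
    (h1 : ∀ (b : Multiplicative (Fin n → ℤ)) (r : ℕ)
      (q : Multiplicative (Fin n → ℤ) →* Multiplicative (Fin r → ℤ)), Line b q →
      Group.IsSolvable (H ⊓ Z π q : Subgroup (Pt K A))) : Group.IsSolvable H := by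
  obtain ⟨π', hπ'⟩ := exists_pi_quot π (torChar_injective n) hTH
  have hdom : IsDomain (A ⧸ vanIdeal (H : Set (Pt K A))) := by
    have : (vanIdeal (H : Set (Pt K A))).IsPrime := hHc
    exact Ideal.Quotient.isDomain _
  let f : Pt K (A ⧸ vanIdeal (H : Set (Pt K A))) →* Pt K A := quotMap (vanIdeal (H : Set (Pt K A)))
  have hf : Function.Injective f := quotMap_injective _
  have hfH : f.range = H := range_quotMap_vanIdeal H hH
  have hmap : ∀ {G' : Type} [CommGroup G'] (q : Multiplicative (Fin n → ℤ) →* G')
      (t : Pt K (MonoidAlgebra K G')), f (Pt.map (piq π' q) t) = Pt.map (piq π q) t := by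
    intro G' _ q t
    apply Pt.ext'
    intro a
    change t (MonoidAlgebra.mapDomainBialgHom K q (π' (Ideal.Quotient.mk _ a))) =
      t (MonoidAlgebra.mapDomainBialgHom K q (π a))
    have := DFunLike.congr_fun hπ' a
    rw [← this]
    rfl
  have hmap' : ∀ t : Pt K (MonoidAlgebra K (Multiplicative (Fin n → ℤ))),
      f (Pt.map π' t) = Pt.map π t := by
    intro t
    apply Pt.ext'
    intro a
    change t (π' (Ideal.Quotient.mk _ a)) = t (π a)
    have := DFunLike.congr_fun hπ' a
    rw [← this]
    rfl
  have hπ's : Function.Surjective π' := by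
    intro y
    obtain ⟨a, ha⟩ := hπ y
    exact ⟨Ideal.Quotient.mk _ a, (DFunLike.congr_fun hπ' a).trans ha⟩
  -- solvability of a subgroup from its image
  have key : ∀ (X : Subgroup (Pt K (A ⧸ vanIdeal (H : Set (Pt K A))))) (Y : Subgroup (Pt K A)),
      (∀ x ∈ X, f x ∈ Y) → Group.IsSolvable Y → Group.IsSolvable X := by
    intro X Y hXY hY
    let g : X →* Y := (f.comp X.subtype).codRestrict Y (fun x => hXY x.1 x.2)
    exact Group.isSolvable_of_isSolvable_injective (f := g)
      fun x y hxy => Subtype.ext (hf (congrArg Subtype.val hxy))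
  have hmemH : ∀ x, f x ∈ H := fun x => hfH.le ⟨x, rfl⟩
  have htop := isSolvable_top π' hπ's ?_ ?_
  · have h2 : Group.IsSolvable (⊤ : Subgroup (Pt K (A ⧸ vanIdeal (H : Set (Pt K A))))) := htop
    have h3 : Group.IsSolvable (Pt K (A ⧸ vanIdeal (H : Set (Pt K A)))) := by
      exact Group.isSolvable_of_surjective (f := (⊤ : Subgroup _).subtype)
        (fun x => ⟨⟨x, trivial⟩, rfl⟩)
    rw [← hfH]
    exact Group.isSolvable_of_surjective (f := f.rangeRestrict) f.rangeRestrict_surjective
  · refine key _ _ (fun x hx => ?_) h0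
    refine Subgroup.mem_inf.2 ⟨hmemH x, ?_⟩
    rw [Subgroup.mem_centralizer_iff]
    rintro _ ⟨t, rfl⟩
    rw [Subgroup.mem_centralizer_iff] at hx
    rw [← hmap' t, ← map_mul, ← map_mul, hx _ ⟨t, rfl⟩]
  · intro b r q hL
    refine key _ _ (fun x hx => ?_) (h1 b r q hL)
    refine Subgroup.mem_inf.2 ⟨hmemH x, ?_⟩
    rw [Subgroup.mem_centralizer_iff]
    rintro _ ⟨t, rfl⟩
    rw [Subgroup.mem_centralizer_iff] at hx
    rw [← hmap q t, ← map_mul, ← map_mul, hx _ ⟨t, rfl⟩]

end K194.SolvPts
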