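import Groth.Agent.Sga3B.SplitAlg144
import Groth.Agent.Sga3B.RootData136
import Groth.Agent.Sga3B.RG.QC
import Groth.Agent.Sga3B.RG.BrHc
import Groth.Agent.Sga3B.RedBc892U
import Groth.Agent.Sga3B.RootBridge989
import Groth.Agent.RedSub.K194.SolvPts

/-!
# Points of a split reductive group over an algebraically closed field

For a split reductive group `G` over an algebraically closed field `K`: coordinates `G ≅ Spec A`, the torus as the
image of `π : A → K[ℤⁿ]`, and the root groups `rt a s` in terms of points.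
-/

set_option autoImplicit false
universe u

open CategoryTheory MonoidalCategory CartesianMonoidalCategory MonObj GrpObj AlgebraicGeometry Limits
open scoped TensorProduct Polynomial

namespace K194.Fib

open Groth.Agent.Books.AffBridge Groth.Agent.Sga3B.DSPts Groth.Agent.Sga3B.GaPts
open Groth.Agent.Sga3B.AffPts Groth.Agent.Sga3B.DSAff Groth.Agent.Sga3B.SplitAlg144
open Groth.Agent.Sga3B.RG Groth.Agent.Sga3B.RG.BrPts
open Groth.Agent.Sga3B.Parab.PbGen Groth.Agent.Sga3B.Parab.PbLine

variable {K : Type u} [Field K] [IsAlgClosed K] {G : Over (Spec (CommRingCat.of K))} [GrpObj G]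

omit [IsAlgClosed K] in
/-- the point of the root group with coordinate `s` -/
noncomputable def rtPt {A : Type u} [CommRing A] [HopfAlgebra K A] (D : Red.SplitRed G) (e : G ≅ SpecOver K A)
    (a : D.idx) (s : K) : Pt K A :=
  WithConv.toConv ((Polynomial.aeval (R := K) s).comp (phiOf (D.u a) e))

instance (D : Red.SplitRed G) : IsMonHom D.i := D.maximalTorus.1

/-- Coordinates on a split reductive group over an algebraically closed field. -/
structure Dat (D : Red.SplitRed G) where
  A : Type u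
  [ring : CommRing A]
  [hopf : HopfAlgebra K A]
  e : G ≅ SpecOver K A
  [mon : IsMonHom e.hom]
  [ft : Algebra.FiniteType K A]
  [dom : IsDomain A]
  red : IsRedPt K A
  n : ℕ
  ε : D.M ≃+ (Fin n → ℤ)
  π : A →ₐc[K] MonoidAlgebra K (Multiplicative (Fin n → ℤ))
  surj : Function.Surjective π
  range_eq : ptsSub (D.i ≫ e.hom) = (Pt.map π).range
  conj : ∀ (a : D.idx) (s : K) (t : Multiplicative (Fin n → ℤ) →* Kˣ),
    Pt.map π (torPt _ t) * rtPt D e a s * (Pt.map π (torPt _ t))⁻¹ =
      rtPt D e a ((t (Multiplicative.ofAdd (ε (D.P.root a))) : K) * s)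
  rt_add : ∀ (a : D.idx) (s t : K), rtPt D e a (s + t) = rtPt D e a s * rtPt D e a t

attribute [instance] Dat.ring Dat.hopf Dat.mon Dat.ft Dat.dom

omit [IsAlgClosed K] in
lemma rtPt_injective {A : Type u} [CommRing A] [HopfAlgebra K A] (D : Red.SplitRed G) (e : G ≅ SpecOver K A)
    (a : D.idx) : Function.Injective (rtPt D e a) := by
  intro s t h
  have hs : Function.Surjective (phiOf (D.u a) e) := phiOf_surjective (D.u a) e (D.rootHom a).2.1
  obtain ⟨y, hy⟩ := hs Polynomial.X
  have h1 := DFunLike.congr_fun (congrArg WithConv.ofConv h) y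
  change Polynomial.aeval (R := K) s (phiOf (D.u a) e y) = Polynomial.aeval (R := K) t (phiOf (D.u a) e y) at h1
  rwa [hy, Polynomial.aeval_X, Polynomial.aeval_X] at h1

/-- the reductive group over an algebraically closed field is reductive in the geometric sense -/
lemma isReductiveOver (hG : Red.IsReductive G) : Red.IsReductiveOver K G :=
  Groth.Agent.Sga3B.RedBc892.isReductiveOver_of_bc (𝟙 _)
    (Groth.Agent.Sga3B.RedBc892U.isReductiveOver_of_isReductive hG (𝟙 _))

theorem exists_dat (D : Red.SplitRed G) : Nonempty (Dat D) := by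
  obtain ⟨A, _, _, e, he, hft, hdom, hred⟩ := BrHc.exists_hopf_of_isReductiveOver G
    (isReductiveOver D.reductive)
  obtain ⟨p, hp⟩ := exists_pi D.i D.split e
  obtain ⟨hps, -⟩ := Groth.Agent.Sga3B.RootData136.certs_of_reductive D.reductive D.i D.maximalTorus
    D.split e p hp
  let ε : D.M ≃+ (Fin (Module.finrank ℤ D.M) → ℤ) := (Module.finBasis ℤ D.M).equivFun.toAddEquiv
  let π : A →ₐc[K] MonoidAlgebra K (Multiplicative (Fin (Module.finrank ℤ D.M) → ℤ)) :=
    (QC.mapD (ε : D.M →+ (Fin (Module.finrank ℤ D.M) → ℤ))).comp p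
  have hr : (Pt.map π).range = (Pt.map p).range := by
    ext g
    rw [mem_range_map_iff, mem_range_map_iff]
    constructor
    · rintro ⟨t, rfl⟩
      refine ⟨t.comp (AddMonoidHom.toMultiplicative (ε : D.M →+ (Fin (Module.finrank ℤ D.M) → ℤ))), ?_⟩
      rw [← QC.torPt_eq, ← QC.torPt_eq]
      exact (QC.torPt_mapD p (ε : D.M →+ (Fin (Module.finrank ℤ D.M) → ℤ)) t).symm
    · rintro ⟨t, rfl⟩
      refine ⟨t.comp (AddMonoidHom.toMultiplicative
        (ε.symm : (Fin (Module.finrank ℤ D.M) → ℤ) →+ D.M)), ?_⟩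
      rw [← QC.torPt_eq, ← QC.torPt_eq]
      refine (QC.torPt_mapD p (ε : D.M →+ (Fin (Module.finrank ℤ D.M) → ℤ)) _).trans ?_
      congr 1
      refine MonoidHom.ext fun m => ?_
      change t (Multiplicative.ofAdd (ε.symm (ε m.toAdd))) = t m
      rw [ε.symm_apply_apply]
      rfl
  have hroot : ∀ a : D.idx, Groth.Agent.Sga3B.Spread144.IsRootAlg p (D.P.root a) (phiOf (D.u a) e) :=
    fun a => isRootAlg_of_isRootHom D.i D.split e p hp (D.P.root a) (D.u a) (D.rootHom a)
  refine ⟨{
    A := A
    e := e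
    red := hred
    n := Module.finrank ℤ D.M
    ε := ε
    π := π
    surj := ?_
    range_eq := ?_
    conj := ?_
    rt_add := fun a s t => (hroot a).add K s t }⟩
  · intro y
    obtain ⟨x, hx⟩ := QC.mapD_surjective (R := K) (ε : D.M →+ (Fin (Module.finrank ℤ D.M) → ℤ)) ε.surjective y
    obtain ⟨z, hz⟩ := hps x
    refine ⟨z, ?_⟩
    change QC.mapD (ε : D.M →+ (Fin (Module.finrank ℤ D.M) → ℤ)) (p z) = y
    rw [hz, hx]
  · rw [hr]
    exact ptsSub_eq_range (D.i ≫ e.hom) p (Groth.Agent.Sga3B.RootBridge989.sig D.split)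
      (Groth.Agent.Sga3B.RootBridge989.of_exists_pi D.i e D.split p hp).symm
  · intro a s t
    have h1 := (hroot a).conj K (t.comp (AddMonoidHom.toMultiplicative
      (ε : D.M →+ (Fin (Module.finrank ℤ D.M) → ℤ)))) s
    have h2 : Pt.map π (torPt _ t) = Groth.Agent.Sga3B.RootOrb.torPt p (t.comp (AddMonoidHom.toMultiplicative
      (ε : D.M →+ (Fin (Module.finrank ℤ D.M) → ℤ)))) := by
      rw [← QC.torPt_eq]
      exact QC.torPt_mapD p (ε : D.M →+ (Fin (Module.finrank ℤ D.M) → ℤ)) t
    rw [h2]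
    exact h1

end K194.Fib
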