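import Groth.Agent.RedSub.K194.QPDesc
import Groth.Agent.RedSub.K194.GoodR
import Groth.Agent.Red.K214.ZModel

/-!
# Transport of the representability of the functor of subgroups along an isomorphism of the ambient group
-/

set_option autoImplicit false
universe u

open CategoryTheory CategoryTheory.Limits AlgebraicGeometry Opposite MonoidalCategory CartesianMonoidalCategory
  MonObj GrpObj

namespace K194.IsoT

open Groth.Agent.Sga3B Groth.Agent.Sga3B.BcPts Groth.Agent.Sga3B.MT Groth.Agent.Sga3B.RepDescent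
open Groth.Agent.RedSub.H647.SubPt Groth.Agent.RedSub.H647.SubF Groth.Agent.RedSub.H647.SubF.SubClass
open Groth.Agent.RedSub.H660.Classes Groth.Agent.RedSub.H660.Restrict

section iso

variable {S : Scheme.{u}} {G₁ G₂ : Over S}

lemma pt_map (F : G₁ ≅ G₂) {S' : Scheme.{u}} {f : S' ⟶ S} {H : Over S'} (h : H ⟶ Red.bc f G₁) {X : Scheme.{u}}
    (y : X ⟶ S') (c : X ⟶ G₂.left) :
    Pt (h ≫ (Over.pullback f).map F.hom) y c ↔ Pt h y (c ≫ F.inv.left) := by
  have h1 : (h ≫ (Over.pullback f).map F.hom).left ≫ pullback.fst G₂.hom f =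
      h.left ≫ pullback.fst G₁.hom f ≫ F.hom.left := by
    rw [Over.comp_left, Category.assoc]
    congr 1
    exact pullback.lift_fst _ _ _
  have e1 : F.hom.left ≫ F.inv.left = 𝟙 _ := by rw [← Over.comp_left, Iso.hom_inv_id]; rfl
  have e2 : F.inv.left ≫ F.hom.left = 𝟙 _ := by rw [← Over.comp_left, Iso.inv_hom_id]; rfl
  constructor
  · rintro ⟨p, h2, h3⟩
    refine ⟨p, h2, ?_⟩
    rw [← h3, h1]
    simp only [Category.assoc, e1, Category.comp_id]
  · rintro ⟨p, h2, h3⟩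
    refine ⟨p, h2, ?_⟩
    rw [h1]
    have h4 := congrArg (· ≫ F.hom.left) h3
    simp only [Category.assoc, e2, Category.comp_id] at h4
    exact h4

lemma map_map_inv (F : G₁ ≅ G₂) {S' : Scheme.{u}} {f : S' ⟶ S} {H : Over S'} (h : H ⟶ Red.bc f G₂) :
    (h ≫ (Over.pullback f).map F.inv) ≫ (Over.pullback f).map F.hom = h := by
  rw [Category.assoc, ← Functor.map_comp, Iso.inv_hom_id, CategoryTheory.Functor.map_id]
  exact Category.comp_id _

variable [GrpObj G₁] [GrpObj G₂]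

theorem represents_iso (F : G₁ ≅ G₂) {𝒬₁ : SubClass G₁} {𝒬₂ : SubClass G₂}
    (hQ : ∀ {S' : Scheme.{u}} (f : S' ⟶ S) {H : Over S'} [GrpObj H] (h : H ⟶ Red.bc f G₁), 𝒬₁.Q f h →
      𝒬₂.Q f (h ≫ (Over.pullback f).map F.hom))
    (hQ' : ∀ {S' : Scheme.{u}} (f : S' ⟶ S) {H : Over S'} [GrpObj H] (h : H ⟶ Red.bc f G₂), 𝒬₂.Q f h →
      𝒬₁.Q f (h ≫ (Over.pullback f).map F.inv))
    {M : Over S} {H : Over M.left} [GrpObj H] {h : H ⟶ Red.bc M.hom G₁} (hM : 𝒬₁.Represents M h) :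
    𝒬₂.Represents M (h ≫ (Over.pullback M.hom).map F.hom) := by
  refine ⟨hQ M.hom h hM.1, ?_⟩
  intro S' f H' _ h' hQ2
  have key : ∀ g : S' ⟶ M.left, RedSub.SamePoints G₁ f (h' ≫ (Over.pullback f).map F.inv) M h g ↔
      RedSub.SamePoints G₂ f h' M (h ≫ (Over.pullback M.hom).map F.hom) g := by
    intro g
    rw [samePoints_iff, samePoints_iff]
    have e1 : F.hom.left ≫ F.inv.left = 𝟙 _ := by rw [← Over.comp_left, Iso.hom_inv_id]; rfl
    have e2 : F.inv.left ≫ F.hom.left = 𝟙 _ := by rw [← Over.comp_left, Iso.inv_hom_id]; rfl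
    constructor
    · intro hh X y c
      have h1 := hh X y (c ≫ F.inv.left)
      have h2 := pt_map F.symm h' y (c ≫ F.inv.left)
      rw [pt_map, ← h1]
      refine Iff.trans ?_ h2.symm
      change _ ↔ Pt h' y ((c ≫ F.inv.left) ≫ F.hom.left)
      rw [Category.assoc, e2, Category.comp_id]
    · intro hh X y c
      have h1 := hh X y (c ≫ F.hom.left)
      rw [pt_map, Category.assoc, e1, Category.comp_id] at h1
      rw [← h1]
      exact pt_map F.symm h' y c
  obtain ⟨g, ⟨h1, h2⟩, h3⟩ := hM.2 S' f H' (h' ≫ (Over.pullback f).map F.inv) (hQ' f h' hQ2)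
  exact ⟨g, ⟨h1, (key g).1 h2⟩, fun g' hg' => h3 g' ⟨hg'.1, (key g').2 hg'.2⟩⟩

end iso

section good

variable {P : SubProp.{u}} (hP : Good P)

/-- Representability for isomorphic groups. -/
theorem representableBy_of_iso {S₁ S₂ V : Scheme.{u}} {G₁ : Over S₁} {G₂ : Over S₂} [GrpObj G₁] [GrpObj G₂]
    (hG₁ : Red.IsReductive G₁) (hG₂ : Red.IsReductive G₂) (v₁ : V ⟶ S₁) (v₂ : V ⟶ S₂)
    (F : Red.bc v₁ G₁ ≅ Red.bc v₂ G₂) [IsMonHom F.hom] {M : Over V}
    (h : Nonempty (((Over.map v₁).op ⋙ (hP.toClass hG₁).subsF).RepresentableBy M)) :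
    Nonempty (((Over.map v₂).op ⋙ (hP.toClass hG₂).subsF).RepresentableBy M) := by
  obtain ⟨r⟩ := h
  obtain ⟨H, _, h, hM⟩ := SubClass.exists_represents _ (r.ofIso (QPDesc.restrIso (hP.toClass hG₁) v₁))
  have hinv : IsMonHom F.symm.hom := inferInstanceAs (IsMonHom F.inv)
  refine representableBy_restrict v₂ (SubClass.representableBy _ (represents_iso F ?_ ?_ hM))
  · intro S' f H _ h hQ
    rw [hP.restrict_Q_iff hG₁ v₁] at hQ
    rw [hP.restrict_Q_iff hG₂ v₂]
    exact hP.of_arrow (Iso.refl _) (BcIso.bcMapIso f (Grp.mkIso' F)) (Category.id_comp _).symm hQ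
  · intro S' f H _ h hQ
    rw [hP.restrict_Q_iff hG₂ v₂] at hQ
    rw [hP.restrict_Q_iff hG₁ v₁]
    exact hP.of_arrow (Iso.refl _) (BcIso.bcMapIso f (Grp.mkIso' F.symm)) (Category.id_comp _).symm hQ

end good

end K194.IsoT
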