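import Groth.Agent.RedSub.K194.Assem
import Groth.Agent.RedSub.K194.IsoT
import Groth.Agent.RedSub.K194.QPDesc
import Groth.Agent.RedSub.K197.CharNC
import Groth.Agent.Red.K214.ZModel
import Groth.Agent.Sga3B.BaseZ
import Groth.Agent.Sga3B.RepDescent9
import Groth.Agent.S2958

/-!
# The functor of subgroups of type (R) of a reductive group
-/

set_option autoImplicit false
universe u

open CategoryTheory MonoidalCategory CartesianMonoidalCategory MonObj GrpObj AlgebraicGeometry Limits Opposite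

namespace K194.Final

open Groth.Agent Groth.Agent.Sga3B Groth.Agent.Sga3B.SplitBc264 Groth.Agent.RedSub.H635.Uniq
  Groth.Agent.RedSub.H647.SubPt Groth.Agent.RedSub.H647.SubF Groth.Agent.Sga3B.MT
  Groth.Agent.Sga3B.RedIso Groth.Agent.Sga3B.Parab.RedCover147 Groth.Agent.RedSub.H648
  Groth.Agent.RedSub.H660.Classes Groth.Agent.RedSub.H660.ConjRep
  K194.MdPt K194.MdDesc K194.Stratum K194.ConjMd K194.GoodR

/-- étale locally, a reductive group comes from a pinned group over `ℤ` -/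
theorem exists_Z {S : Scheme.{u}} {G : Over S} [GrpObj G] (hG : Red.IsReductive G) (s : S) :
    ∃ (U : Scheme.{u}) (f : U ⟶ S) (_ : Etale f), s ∈ Set.range f ∧
      ∃ (G₀ : Over (Spec (CommRingCat.of (ULift.{u} ℤ)))) (_ : GrpObj G₀) (_ : Red.SplitRed G₀)
        (F : Red.bc (specULiftZIsTerminal.from U) G₀ ≅ Red.bc f G), IsMonHom F.hom := by
  obtain ⟨U, f, hf, ⟨x, hx⟩, ⟨D⟩⟩ := Groth.Agent.S2958.result G hG s
  have hne : Nonempty U := ⟨x⟩
  have hred : D.P.IsReduced := SplitReduced415.isReduced D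
  obtain ⟨b⟩ := BaseZ.nonempty_base D.P
  let P' : Red.Pinning (Red.bc f G) := { toSplitRed := D, base := b }
  obtain ⟨G₀, _, D₀, h, hΔ⟩ := K214.ZModel.exists_model P'
  let h' : RootPairing.Equiv P'.P D₀.P := RootPairing.Equiv.symm _ _ h
  have hΔ' : ∀ a, a ∈ P'.base.support ↔ h'.indexEquiv a ∈ D₀.base.support := by
    intro a
    rw [hΔ]
    exact Iff.of_eq (congrArg (· ∈ P'.base.support) (h.indexEquiv.apply_symm_apply a).symm)
  obtain ⟨F, hF, -⟩ := K214.ZModel.exists_iso P' D₀ h' hΔ'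
  exact ⟨U, f, hf, ⟨x, hx⟩, G₀, inferInstance, D₀.toSplitRed, F, hF⟩

lemma str_Z (hC : ClosedStmt.{u}) {G₀ : Over (Spec (CommRingCat.of (ULift.{u} ℤ)))} [GrpObj G₀]
    (D₀ : Red.SplitRed G₀) (R₀ : Set D₀.idx) (h : Occurs D₀ R₀) : Nonempty (Str D₀ R₀) :=
  exists_str (fun {_ _ _} habc => K197.CharNC.char_of_not_closed D₀ habc) hC h

/-- **Subgroups of type (R) are closed.** -/
theorem isClosed (hC : ClosedStmt.{u}) {S : Scheme.{u}} {G H : Over S} [GrpObj G] [GrpObj H]
    (hG : Red.IsReductive G) (h : H ⟶ G) (hH : RedSub.IsTypeR h) : IsClosedImmersion h.left := by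
  choose U f hf hs G₀ i₀ D₀ F hF using fun s => exists_Z hG s
  have hcov : IsEtCov f := by
    refine IsEtCov.of_etale f hf fun s => ?_
    obtain ⟨v, hv⟩ := hs s
    exact ⟨s, v, hv⟩
  refine isClosedImmersion_of_cover hcov fun s => ?_
  have h1 := TypeR.isTypeR_bc (f s) hG hH
  have hFs := hF s
  have hFi : IsMonHom (F s).symm.hom := inferInstanceAs (IsMonHom (F s).inv)
  have h2 : RedSub.IsTypeR ((Over.pullback (f s)).map h ≫ (F s).inv) :=
    TypeR.isTypeR_of_arrow (Iso.refl _) (Grp.mkIso' (F s).symm) (Category.id_comp _).symm h1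
  have h3 := Assem.isClosed (str_Z hC (D₀ s)) _ _ h2
  have h4 : (Over.pullback (f s)).map h = ((Over.pullback (f s)).map h ≫ (F s).inv) ≫ (F s).hom := by
    rw [Category.assoc, Iso.inv_hom_id, Category.comp_id]
  have h5 : IsIso (F s).hom.left := (Over.forget _).map_isIso (F s).hom
  rw [h4, Over.comp_left]
  infer_instance

instance : IsLocallyNoetherian (Spec (CommRingCat.of (ULift.{u} ℤ))) := by
  have h1 : IsNoetherianRing (ULift.{u} ℤ) := isNoetherianRing_of_ringEquiv ℤ ULift.ringEquiv.symm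
  infer_instance

/-- **The functor of subgroups of type (R)** is representable by a locally quasi-projective scheme of finite
presentation. -/
theorem main (hC : ClosedStmt.{u}) {S : Scheme.{u}} (G : Over S) [GrpObj G] (hG : Red.IsReductive G) :
    ∃ (M : Over S) (H : Over M.left) (_ : GrpObj H) (h : H ⟶ Red.bc M.hom G), RedSub.IsTypeR h ∧
      (∀ (S' : Scheme.{u}) (f : S' ⟶ S) (H' : Over S') [GrpObj H'] (h' : H' ⟶ Red.bc f G), RedSub.IsTypeR h' →
        ∃! g : S' ⟶ M.left, g ≫ M.hom = f ∧ RedSub.SamePoints G f h' M h g) ∧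
      LocallyOfFinitePresentation M.hom ∧ QuasiCompact M.hom ∧ QuasiSeparated M.hom ∧
      RedSub.IsLocallyQuasiProjective M := by
  have h1 := hG.1
  have h2 := hG.2.1
  obtain ⟨M, H, _, h, hM, h3, h4, h5, h6⟩ := QPDesc.exists_represents (good.toClass hG)
    (fun {S' f H _ h} hQ => hQ.1.2.1)
    (fun {S' f H _ h} hQ => by
      have h1 : Smooth H.hom := hQ.1.2.1
      exact Groth.Agent.RedSub.H641.TypeRBc.geomIrr_of_conn hQ.1.2.2.2.1)
    (good.toClass_isLocal hG)
    (fun s => by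
      obtain ⟨U, f, hf, hs, G₀, _, D₀, F, hF⟩ := exists_Z hG s
      obtain ⟨M₀, ⟨r⟩, a1, a2, a3⟩ := Assem.exists_rep (str_Z hC D₀)
      refine ⟨U, f, hf, hs, Red.bc (specULiftZIsTerminal.from U) M₀, ?_, ?_, ?_, ?_⟩
      · exact IsoT.representableBy_of_iso good D₀.reductive hG (specULiftZIsTerminal.from U) f F
          ⟨RepDescent.repBC (specULiftZIsTerminal.from U) r⟩
      · exact inferInstanceAs (LocallyOfFinitePresentation (pullback.snd M₀.hom _))
      · exact inferInstanceAs (QuasiCompact (pullback.snd M₀.hom _))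
      · exact inferInstanceAs (QuasiSeparated (pullback.snd M₀.hom _)))
  refine ⟨M, H, inferInstance, h, hM.1.1, fun S' f H' _ h' hR => ?_, h3, h4, h5, h6⟩
  exact hM.2 S' f H' h' ⟨hR, isClosed hC (RedBcAny636.isReductive_bc f hG) h' hR⟩

end K194.Final
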