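import Groth.Agent.RedSub.K194.InfK3
import Groth.Agent.Sga3C.CWCoords

/-!
# Finitely many functions generate the infinitesimal neighbourhoods of the unit section
-/

set_option autoImplicit false

open CategoryTheory Limits MonoidalCategory CartesianMonoidalCategory MonObj GrpObj AlgebraicGeometry TensorProduct

universe u

namespace K194.InfK

variable {S : Scheme.{u}} {G : Over S} [GrpObj G]

lemma ev_comp_one {Q : CommRingCat.{u}} (y : Spec Q ⟶ S) (a : Γ(G.left, ⊤)) :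
    ev (y ≫ η[G].left) a = sv y (η[G].left.appTop a) := by
  have h : (y ≫ η[G].left).appTop ≫ (Scheme.ΓSpecIso Q).hom =
      (η[G].left.appTop : Γ(G.left, ⊤) ⟶ Γ(S, ⊤)) ≫ y.appTop ≫ (Scheme.ΓSpecIso Q).hom := by
    rw [Scheme.Hom.comp_appTop, Category.assoc]
  exact congrArg (fun z => CommRingCat.Hom.hom z a) h

theorem exists_gen [IsAffine S] [IsAffineHom G.hom] [Smooth G.hom] (k : ℕ) :
    ∃ (n : ℕ) (e : Fin n → Γ(G.left, ⊤)), Gen G k e := by
  have hGa : IsAffine G.left := isAffine_of_isAffineHom G.hom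
  let ρ : Γ(S, ⊤) ⟶ Γ(G.left, ⊤) := G.hom.appLE ⊤ ⊤ le_top
  have hρ : ρ = G.hom.appTop := Scheme.Hom.appLE_eq_app (f := G.hom) (U := ⊤)
  let δ : Γ(G.left, ⊤) ⟶ Γ(S, ⊤) := η[G].left.appTop
  have h3 : G.hom.appTop ≫ δ = 𝟙 _ := by
    have h1 : η[G].left ≫ G.hom = 𝟙 S := Over.w η[G]
    have h2 := congrArg Scheme.Hom.appTop h1
    rw [Scheme.Hom.comp_appTop] at h2
    exact h2
  algebraize [ρ.hom]
  have hsm : Algebra.Smooth Γ(S, ⊤) Γ(G.left, ⊤) :=
    G.hom.smooth_appLE (isAffineOpen_top S) (isAffineOpen_top G.left) le_top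
  let δ' : Γ(G.left, ⊤) →ₐ[Γ(S, ⊤)] Γ(S, ⊤) := { δ.hom with
    commutes' := fun r => by
      have h4 : algebraMap Γ(S, ⊤) Γ(G.left, ⊤) r = G.hom.appTop.hom r := by
        rw [← hρ]
        rfl
      change δ.hom (algebraMap Γ(S, ⊤) Γ(G.left, ⊤) r) = r
      rw [h4]
      exact congrArg (fun f => CommRingCat.Hom.hom f r) h3 }
  obtain ⟨κ, _, lam, e, h4, h5⟩ := Groth.Agent.Sga3C.CWCoords.exists_coords δ' k
  let r := (Fintype.equivFin κ).symm
  refine ⟨Fintype.card κ, fun j => e (r j), fun a => ⟨fun j => lam (r j) a, fun Q γ hγ => ?_⟩⟩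
  obtain ⟨D, π, h6, h7, h8⟩ := hγ
  have hI : (RingHom.ker δ').map (ev γ) ≤ RingHom.ker π.hom := by
    rw [Ideal.map_le_iff_le_comap]
    intro x hx
    change π.hom (ev γ x) = 0
    have hx' : δ.hom x = 0 := hx
    rw [← ev_comp, h8, ← Category.assoc, ← Category.assoc, ev_comp_one]
    change sv _ (δ.hom x) = 0
    rw [hx', map_zero]
  have hIk : ∀ x ∈ (RingHom.ker δ') ^ k, ev γ x = 0 := by
    intro x hx
    have h9 : ((RingHom.ker δ') ^ k).map (ev γ) ≤ ⊥ := by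
      rw [Ideal.map_pow, ← h7]
      exact Ideal.pow_right_mono hI k
    exact h9 (Ideal.mem_map_of_mem _ hx)
  have h9 := hIk _ (h5 a)
  rw [map_sub, sub_eq_zero] at h9
  rw [h9, map_sum]
  refine Fintype.sum_equiv r.symm _ _ fun i => ?_
  have h10 : r (r.symm i) = i := r.apply_symm_apply i
  simp only [h10]
  rw [Algebra.smul_def, map_mul]
  congr 1
  rw [← ev_hom, ← hρ]
  rfl

end K194.InfK
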