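import Groth.Agent.RedSub.H672.InfData
import Groth.Agent.RedSub.H647.SubPt
import Groth.Agent.Fga.Grass
import Groth.Agent.Sga3B.DSPts

/-!
# Infinitesimal points of subgroups of the base changes of `G`
-/

set_option autoImplicit false

open CategoryTheory Limits MonoidalCategory CartesianMonoidalCategory MonObj GrpObj AlgebraicGeometry TensorProduct

universe u

namespace K194.InfK

open Groth.Agent.RedSub.H672 Groth.Agent.RedSub.H672.InfNorm Groth.Agent.RedSub.H647.SubPt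
  Groth.Agent.Sga3B Groth.Agent.Sga3B.MT Groth.Agent.Sga3B.BcPts Groth.Agent.Fga.GrassBasic
  Groth.Agent.Sga3B.PinMod

variable {S : Scheme.{u}} {G : Over S} [GrpObj G]

/-- The point `γ` of `G` is the unit modulo an ideal with `k`-th power zero. -/
def InfG (k : ℕ) {Q : CommRingCat.{u}} (γ : Spec Q ⟶ G.left) : Prop :=
  ∃ (D : CommRingCat.{u}) (π : Q ⟶ D), Function.Surjective π.hom ∧ (RingHom.ker π.hom) ^ k = ⊥ ∧
    Spec.map π ≫ γ = Spec.map π ≫ γ ≫ G.hom ≫ η[G].left

section ev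

omit [GrpObj G]

/-- Evaluation of functions at a point of `G`. -/
noncomputable def ev {Q : CommRingCat.{u}} (γ : Spec Q ⟶ G.left) : Γ(G.left, ⊤) →+* Q :=
  ((γ.appTop : Γ(G.left, ⊤) ⟶ Γ(Spec Q, ⊤)) ≫ (Scheme.ΓSpecIso Q).hom).hom

lemma ev_comp {Q Q' : CommRingCat.{u}} (σ : Q ⟶ Q') (γ : Spec Q ⟶ G.left) (a : Γ(G.left, ⊤)) :
    ev (Spec.map σ ≫ γ) a = σ.hom (ev γ a) := by
  have h : (Spec.map σ ≫ γ).appTop ≫ (Scheme.ΓSpecIso Q').hom =
      (γ.appTop ≫ (Scheme.ΓSpecIso Q).hom) ≫ σ := by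
    rw [Scheme.Hom.comp_appTop, Category.assoc, Scheme.ΓSpecIso_naturality, Category.assoc]
  exact congrArg (fun z => CommRingCat.Hom.hom z a) h

lemma ext_of_ev [IsAffine G.left] {Q : CommRingCat.{u}} {γ γ' : Spec Q ⟶ G.left} (h : ∀ a, ev γ a = ev γ' a) :
    γ = γ' := by
  apply ext_of_isAffine
  rw [← cancel_mono (Scheme.ΓSpecIso Q).hom]
  ext a
  exact h a

/-- The value at a point of the base. -/
noncomputable def sv {Q : CommRingCat.{u}} (y : Spec Q ⟶ S) : Γ(S, ⊤) →+* Q :=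
  ((y.appTop : Γ(S, ⊤) ⟶ Γ(Spec Q, ⊤)) ≫ (Scheme.ΓSpecIso Q).hom).hom

lemma sv_comp {Q Q' : CommRingCat.{u}} (σ : Q ⟶ Q') (y : Spec Q ⟶ S) (a : Γ(S, ⊤)) :
    sv (Spec.map σ ≫ y) a = σ.hom (sv y a) := by
  have h : (Spec.map σ ≫ y).appTop ≫ (Scheme.ΓSpecIso Q').hom =
      (y.appTop ≫ (Scheme.ΓSpecIso Q).hom) ≫ σ := by
    rw [Scheme.Hom.comp_appTop, Category.assoc, Scheme.ΓSpecIso_naturality, Category.assoc]
  exact congrArg (fun z => CommRingCat.Hom.hom z a) h

lemma ev_hom {Q : CommRingCat.{u}} (γ : Spec Q ⟶ G.left) (r : Γ(S, ⊤)) :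
    ev γ (G.hom.appTop r) = sv (γ ≫ G.hom) r := by
  have h : G.hom.appTop ≫ γ.appTop ≫ (Scheme.ΓSpecIso Q).hom = (γ ≫ G.hom).appTop ≫ (Scheme.ΓSpecIso Q).hom := by
    rw [Scheme.Hom.comp_appTop, Category.assoc]
  exact congrArg (fun z => CommRingCat.Hom.hom z r) h

end ev

/-- The functions `e j` generate the coordinate ring modulo the `k`-th power of the augmentation ideal. -/
def Gen (G : Over S) [GrpObj G] (k : ℕ) {κ : Type} [Fintype κ] (e : κ → Γ(G.left, ⊤)) : Prop :=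
  ∀ a : Γ(G.left, ⊤), ∃ r : κ → Γ(S, ⊤), ∀ (Q : CommRingCat.{u}) (γ : Spec Q ⟶ G.left), InfG k γ →
    ev γ a = ∑ j, sv (γ ≫ G.hom) (r j) * ev γ (e j)

lemma InfG.comp {k : ℕ} {Q Q' : CommRingCat.{u}} {γ : Spec Q ⟶ G.left} (h : InfG k γ) (σ : Q ⟶ Q') :
    InfG k (Spec.map σ ≫ γ) := by
  obtain ⟨D, π, h1, h2, h3⟩ := h
  let J : Ideal Q' := (RingHom.ker π.hom).map σ.hom
  let D' : CommRingCat.{u} := CommRingCat.of (Q' ⧸ J)
  let π' : Q' ⟶ D' := CommRingCat.ofHom (Ideal.Quotient.mk J)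
  have hker : RingHom.ker π'.hom = J := Ideal.mk_ker
  obtain ⟨τ, hτ⟩ : ∃ τ : D ⟶ D', π ≫ τ = σ ≫ π' := by
    refine ⟨CommRingCat.ofHom (RingHom.liftOfSurjective π.hom h1 ⟨(σ ≫ π').hom, ?_⟩), ?_⟩
    · intro a ha
      rw [RingHom.mem_ker]
      change π'.hom (σ.hom a) = 0
      rw [← RingHom.mem_ker, hker]
      exact Ideal.mem_map_of_mem _ ha
    · apply CommRingCat.hom_ext
      exact RingHom.liftOfRightInverse_comp _ _ _ _
  refine ⟨D', π', Ideal.Quotient.mk_surjective, ?_, ?_⟩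
  · rw [hker, ← Ideal.map_pow, h2, Ideal.map_bot]
  · have e1 : Spec.map π' ≫ Spec.map σ = Spec.map τ ≫ Spec.map π := by
      rw [← Spec.map_comp, ← hτ, Spec.map_comp]
    rw [← Category.assoc, e1, Category.assoc, h3]
    simp only [Category.assoc]
    rw [← Category.assoc (Spec.map τ), ← e1, Category.assoc]

/-- The universal infinitesimal point of order `k` of `h` over `c`. -/
structure UD (k : ℕ) {T : Scheme.{u}} {f : T ⟶ S} {H : Over T} (h : H ⟶ Red.bc f G) {C : CommRingCat.{u}}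
    (c : Spec C ⟶ T) where
  /-- coordinate ring -/
  E : CommRingCat.{u}
  /-- structure map -/
  a : C ⟶ E
  /-- universal point -/
  γ : Spec E ⟶ G.left
  pt : Pt h (Spec.map a ≫ c) γ
  inf : InfG k γ
  fin : a.hom.Finite
  proj : letI := a.hom.toAlgebra; Module.Projective C E
  lift : ∀ (Q : CommRingCat.{u}) (ψ : C ⟶ Q) (δ : Spec Q ⟶ G.left), Pt h (Spec.map ψ ≫ c) δ → InfG k δ →
    ∃ σ : E ⟶ Q, a ≫ σ = ψ ∧ Spec.map σ ≫ γ = δ
  mono : ∀ (Q : CommRingCat.{u}) (σ σ' : E ⟶ Q), a ≫ σ = a ≫ σ' → Spec.map σ ≫ γ = Spec.map σ' ≫ γ → σ = σ'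

variable {T : Scheme.{u}} {f : T ⟶ S} {H : Over T} [GrpObj H] (h : H ⟶ Red.bc f G)

lemma one_bc_fst [IsMonHom h] {X : Over T} : (1 : X ⟶ H).left ≫ h.left ≫ pullback.fst G.hom f =
    X.hom ≫ f ≫ η[G].left := by
  have h1 : (1 : X ⟶ H) ≫ h = 1 := one_comp _
  have h2 : (1 : X ⟶ Red.bc f G) = bcEquiv f X G 1 := (bcEquiv_one f).symm
  have h3 := congrArg (fun z => z.left ≫ pullback.fst G.hom f) (h1.trans h2)
  simp only [Over.comp_left, Category.assoc] at h3
  have h4 : bcEquiv f X G 1 = DSPts.bcEquiv f X G 1 := by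
    rw [bcEquiv, Adjunction.homEquiv_unit, DSPts.bcEquiv_apply]
  rw [h3, h4, DSPts.bcEquiv_fst, InfData.one_left]
  simp

section

variable {h}

omit [GrpObj G] [GrpObj H] in
lemma left_ext [Mono h] {X : Scheme.{u}} {p q : X ⟶ H.left} (h1 : p ≫ H.hom = q ≫ H.hom)
    (h2 : p ≫ h.left ≫ pullback.fst G.hom f = q ≫ h.left ≫ pullback.fst G.hom f) : p = q := by
  have hm : Mono h.left := inferInstance
  rw [← cancel_mono h.left]
  apply pullback.hom_ext
  · rw [Category.assoc, Category.assoc, h2]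
  · rw [Category.assoc, Category.assoc]
    have h3 := left_snd h
    exact (congrArg (p ≫ ·) h3).trans (h1.trans (congrArg (q ≫ ·) h3).symm)

end

/-- Existence of universal infinitesimal points. -/
theorem exists_ud [IsMonHom h] [Mono h] [Smooth H.hom] (x : T) :
    ∃ (V : T.Opens) (hV : IsAffineOpen V), x ∈ V ∧ ∀ k ≠ 0, Nonempty (UD k h hV.fromSpec) := by
  obtain ⟨V, hV, hx, hd⟩ := InfData.exists_infData H x
  refine ⟨V, hV, hx, fun k hk => ?_⟩
  obtain ⟨d⟩ := hd k hk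
  have hw : d.yH.left ≫ H.hom = Spec.map (CommRingCat.ofHom (algebraMap Γ(T, V) d.E)) ≫ hV.fromSpec := Over.w d.yH
  have hpt : Pt h (Spec.map (CommRingCat.ofHom (algebraMap Γ(T, V) d.E)) ≫ hV.fromSpec)
      (d.yH.left ≫ h.left ≫ pullback.fst G.hom f) := ⟨d.yH.left, hw, rfl⟩
  refine ⟨⟨CommRingCat.of d.E, CommRingCat.ofHom (algebraMap Γ(T, V) d.E),
    d.yH.left ≫ h.left ≫ pullback.fst G.hom f, hpt, ?_, ?_, ?_, ?_, ?_⟩⟩
  · refine ⟨CommRingCat.of Γ(T, V), CommRingCat.ofHom (d.δ : d.E →+* Γ(T, V)), ?_, d.ker_pow, ?_⟩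
    · intro r
      exact ⟨algebraMap _ _ r, d.δ.commutes r⟩
    · have h1 := congrArg (fun z => z.left ≫ h.left ≫ pullback.fst G.hom f) d.δ_comp
      simp only [Over.comp_left, Category.assoc] at h1
      rw [one_bc_fst, tMap_left] at h1
      simp only [Category.assoc]
      rw [h1, pullback.condition_assoc, ← Category.assoc h.left, left_snd, ← Category.assoc d.yH.left, hw]
      simp only [Category.assoc]
      rw [← Spec.map_comp_assoc, ← CommRingCat.ofHom_comp, AlgHom.comp_algebraMap]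
      rfl
  · have h1 : Module.Finite Γ(T, V) d.E := by
      classical
      refine ⟨⟨Finset.univ.image d.x, ?_⟩⟩
      rw [eq_top_iff]
      intro z _
      rw [← d.hx z]
      exact Submodule.sum_mem _ fun i _ => Submodule.smul_mem _ _ (Submodule.subset_span (by simp))
    exact RingHom.finite_algebraMap.2 h1
  · have h1 : Module.Projective Γ(T, V) d.E := by
      let i₁ : d.E →ₗ[Γ(T, V)] (Fin d.m → Γ(T, V)) := LinearMap.pi d.lam
      let p₁ : (Fin d.m → Γ(T, V)) →ₗ[Γ(T, V)] d.E := Fintype.linearCombination Γ(T, V) d.x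
      refine Module.Projective.of_split i₁ p₁ ?_
      ext z
      simp only [LinearMap.comp_apply, LinearMap.id_apply, p₁, Fintype.linearCombination_apply, i₁, LinearMap.pi_apply]
      exact d.hx z
    have e : (RingHom.toAlgebra (algebraMap Γ(T, V) d.E)) = d.alg := Algebra.algebra_ext _ _ fun _ => rfl
    change @Module.Projective _ _ _ _ (@Algebra.toModule _ _ _ _ (RingHom.toAlgebra (algebraMap Γ(T, V) d.E)))
    rw [e]
    exact h1
  · intro Q ψ δ' hp hi
    obtain ⟨p, hp1, hp2⟩ := hp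
    let _ : Algebra Γ(T, V) Q := ψ.hom.toAlgebra
    let hq : tB hV.fromSpec Q ⟶ H := Over.homMk p hp1
    have hinf : IsInf k hq := by
      obtain ⟨D, π, h1, h2, h3⟩ := hi
      refine ⟨D, π, h1, h2, ?_⟩
      have e1 : (1 : tB hV.fromSpec Q ⟶ H).left ≫ H.hom = p ≫ H.hom := (Over.w (1 : tB hV.fromSpec Q ⟶ H)).trans hp1.symm
      apply left_ext (h := h)
      · change (Spec.map π ≫ p) ≫ H.hom = _
        refine (Category.assoc _ _ _).trans (Eq.trans ?_ (Category.assoc _ _ _).symm)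
        exact congrArg (Spec.map π ≫ ·) e1.symm
      · change (Spec.map π ≫ p) ≫ _ = (Spec.map π ≫ (1 : tB hV.fromSpec Q ⟶ H).left) ≫ _
        rw [Category.assoc, hp2, h3, Category.assoc, one_bc_fst, ← hp2]
        simp only [Category.assoc]
        rw [pullback.condition_assoc, ← Category.assoc h.left, left_snd, ← Category.assoc p, hp1]
        rfl
    obtain ⟨σ, hσ⟩ := d.lift Q hq hinf
    refine ⟨CommRingCat.ofHom (σ : d.E →+* Q), ?_, ?_⟩
    · apply CommRingCat.hom_ext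
      exact σ.comp_algebraMap
    · have h1 := congrArg (fun z => z.left) hσ
      have h2 : p = Spec.map (CommRingCat.ofHom (σ : d.E →+* Q)) ≫ d.yH.left := h1
      rw [← hp2, h2, Category.assoc]
  · intro Q σ σ' h1 h2
    apply Spec.map_injective
    have h3 := d.mono
    rw [← cancel_mono d.yH.left]
    apply left_ext (h := h)
    · rw [Category.assoc, Category.assoc, hw, ← Spec.map_comp_assoc, ← Spec.map_comp_assoc]
      exact congrArg (fun z => Spec.map z ≫ hV.fromSpec) h1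
    · rw [Category.assoc, Category.assoc]
      exact h2

section span

variable {h} {k : ℕ} {C : CommRingCat.{u}} {c : Spec C ⟶ T} (d : UD k h c) {κ : Type} [Fintype κ]
  (e : κ → Γ(G.left, ⊤))

omit [GrpObj H] in
/-- The coordinate ring is spanned by the functions `e j`. -/
theorem UD.exists_coords [IsAffine G.left] (he : Gen G k e) (z : d.E) :
    ∃ v : κ → C, z = ∑ j, d.a.hom (v j) * ev d.γ (e j) := by
  classical
  let _ := d.a.hom.toAlgebra
  have hw : d.γ ≫ G.hom = Spec.map d.a ≫ c ≫ f := by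
    rw [← d.pt.w, Category.assoc]
  have hgen : ∀ a : Γ(G.left, ⊤), ∃ v : κ → C, ev d.γ a = ∑ j, d.a.hom (v j) * ev d.γ (e j) := by
    intro a
    obtain ⟨r, hr⟩ := he a
    refine ⟨fun j => sv (c ≫ f) (r j), ?_⟩
    rw [hr _ d.γ d.inf]
    refine Finset.sum_congr rfl fun j _ => ?_
    rw [hw, sv_comp]
  let L : Submodule C d.E := Submodule.span C (Set.range fun j => ev d.γ (e j))
  have hL : ∀ z : d.E, z ∈ L ↔ ∃ v : κ → C, z = ∑ j, d.a.hom (v j) * ev d.γ (e j) := by
    intro z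
    rw [Submodule.mem_span_range_iff_exists_fun]
    constructor
    · rintro ⟨v, rfl⟩
      exact ⟨v, rfl⟩
    · rintro ⟨v, hv⟩
      exact ⟨v, hv.symm⟩
  let E₀ : Subalgebra C d.E := L.toSubalgebra (by
      rw [hL]
      obtain ⟨v, hv⟩ := hgen 1
      exact ⟨v, by rw [← hv, map_one]⟩) (by
      intro x y hx hy
      induction hx using Submodule.span_induction with
      | mem x hx =>
        obtain ⟨i, rfl⟩ := hx
        induction hy using Submodule.span_induction with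
        | mem y hy =>
          obtain ⟨j, rfl⟩ := hy
          rw [hL]
          obtain ⟨v, hv⟩ := hgen (e i * e j)
          exact ⟨v, by rw [← hv, map_mul]⟩
        | zero => rw [mul_zero]; exact L.zero_mem
        | add a b _ _ ha hb => rw [mul_add]; exact L.add_mem ha hb
        | smul r a _ ha => rw [mul_smul_comm]; exact L.smul_mem _ ha
      | zero => rw [zero_mul]; exact L.zero_mem
      | add a b _ _ ha hb => rw [add_mul]; exact L.add_mem ha hb
      | smul r a _ ha => rw [smul_mul_assoc]; exact L.smul_mem _ ha)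
  let i₀ : CommRingCat.of E₀ ⟶ d.E := CommRingCat.ofHom E₀.val.toRingHom
  have hepi : Epi i₀ := by
    constructor
    intro Q σ σ' hσ
    apply d.mono
    · ext x
      exact congrArg (fun z => CommRingCat.Hom.hom z (algebraMap C E₀ x)) hσ
    · apply ext_of_ev
      intro a
      rw [ev_comp, ev_comp]
      obtain ⟨v, hv⟩ := hgen a
      have h1 : ev d.γ a ∈ E₀ := (hL _).2 ⟨v, hv⟩
      exact congrArg (fun z => CommRingCat.Hom.hom z (⟨ev d.γ a, h1⟩ : E₀)) hσ
  have hfin : i₀.hom.Finite := by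
    refine RingHom.Finite.of_comp_finite (f := (algebraMap C E₀)) ?_
    exact d.fin
  have hs := RingHom.surjective_of_epi_of_finite i₀ hfin
  obtain ⟨w, hw⟩ := hs z
  rw [← hL, ← hw]
  exact w.2

end span

end K194.InfK
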