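import Groth.Agent.RedSub.K194.InfK

/-!
# The relations between functions on the infinitesimal points
-/

set_option autoImplicit false

open CategoryTheory Limits MonoidalCategory CartesianMonoidalCategory MonObj GrpObj AlgebraicGeometry TensorProduct

universe u

namespace K194.InfK

open Groth.Agent.RedSub.H672 Groth.Agent.RedSub.H672.InfNorm Groth.Agent.RedSub.H647.SubPt
  Groth.Agent.Sga3B Groth.Agent.Sga3B.MT Groth.Agent.Sga3B.BcPts Groth.Agent.Fga.GrassBasic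
  Groth.Agent.Sga3B.PinMod

variable {S : Scheme.{u}} {G : Over S} [GrpObj G] {κ : Type} [Fintype κ]

/-- The relations between the functions `e j` on the infinitesimal points of order `k` of `h`. -/
def K (k : ℕ) (e : κ → Γ(G.left, ⊤)) {T : Scheme.{u}} {f : T ⟶ S} {H : Over T} (h : H ⟶ Red.bc f G)
    {C : CommRingCat.{u}} (c : Spec C ⟶ T) : Submodule C (κ → C) where
  carrier := {v | ∀ (Q : CommRingCat.{u}) (ψ : C ⟶ Q) (γ : Spec Q ⟶ G.left), Pt h (Spec.map ψ ≫ c) γ →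
    InfG k γ → ∑ j, ψ.hom (v j) * ev γ (e j) = 0}
  add_mem' := by
    intro v w hv hw Q ψ γ h1 h2
    have h3 := hv Q ψ γ h1 h2
    have h4 := hw Q ψ γ h1 h2
    simp only [Pi.add_apply, map_add, add_mul, Finset.sum_add_distrib, h3, h4, add_zero]
  zero_mem' := by
    intro Q ψ γ h1 h2
    simp
  smul_mem' := by
    intro r v hv Q ψ γ h1 h2
    have h3 := hv Q ψ γ h1 h2
    simp only [Pi.smul_apply, smul_eq_mul, map_mul, _root_.mul_assoc, ← Finset.mul_sum, h3, mul_zero]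

lemma mem_K {k : ℕ} {e : κ → Γ(G.left, ⊤)} {T : Scheme.{u}} {f : T ⟶ S} {H : Over T} {h : H ⟶ Red.bc f G}
    {C : CommRingCat.{u}} {c : Spec C ⟶ T} {v : κ → C} : v ∈ K k e h c ↔
      ∀ (Q : CommRingCat.{u}) (ψ : C ⟶ Q) (γ : Spec Q ⟶ G.left), Pt h (Spec.map ψ ≫ c) γ →
        InfG k γ → ∑ j, ψ.hom (v j) * ev γ (e j) = 0 := Iff.rfl

lemma K_eq_of_pt {k : ℕ} {e : κ → Γ(G.left, ⊤)} {T T' : Scheme.{u}} {f : T ⟶ S} {f' : T' ⟶ S} {H : Over T}
    {H' : Over T'} {h : H ⟶ Red.bc f G} {h' : H' ⟶ Red.bc f' G}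
    {C : CommRingCat.{u}} {c : Spec C ⟶ T} {c' : Spec C ⟶ T'}
    (hh : ∀ (Q : CommRingCat.{u}) (ψ : C ⟶ Q) (γ : Spec Q ⟶ G.left), InfG k γ →
      (Pt h (Spec.map ψ ≫ c) γ ↔ Pt h' (Spec.map ψ ≫ c') γ)) : K k e h c = K k e h' c' := by
  ext v
  rw [mem_K, mem_K]
  constructor
  · intro hv Q ψ γ h1 h2
    exact hv Q ψ γ ((hh Q ψ γ h2).2 h1) h2
  · intro hv Q ψ γ h1 h2
    exact hv Q ψ γ ((hh Q ψ γ h2).1 h1) h2

variable {T : Scheme.{u}} {f : T ⟶ S} {H : Over T} {h : H ⟶ Red.bc f G} {k : ℕ} {e : κ → Γ(G.left, ⊤)}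
  {C : CommRingCat.{u}} {c : Spec C ⟶ T}

lemma K_bcSub {T' : Scheme.{u}} (q : T' ⟶ T) (c : Spec C ⟶ T') : K k e (bcSub q h) c = K k e h (c ≫ q) := by
  apply K_eq_of_pt
  intro Q ψ γ _
  rw [pt_bcSub, Category.assoc]

lemma map_mem_K {C' : CommRingCat.{u}} (ψ : C ⟶ C') {v : κ → C} (hv : v ∈ K k e h c) :
    (fun j => ψ.hom (v j)) ∈ K k e h (Spec.map ψ ≫ c) := by
  intro Q ψ' γ h1 h2
  exact hv Q (ψ ≫ ψ') γ (by rwa [Spec.map_comp, Category.assoc]) h2

lemma bc_K_le {C' : CommRingCat.{u}} (ψ : C ⟶ C') : bc ψ.hom (K k e h c) ≤ K k e h (Spec.map ψ ≫ c) := by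
  rw [bc_le_iff]
  intro v hv
  exact map_mem_K ψ hv

lemma mem_K_iff (d : UD k h c) {v : κ → C} : v ∈ K k e h c ↔ ∑ j, d.a.hom (v j) * ev d.γ (e j) = 0 := by
  constructor
  · intro hv
    exact hv d.E d.a d.γ d.pt d.inf
  · intro hv Q ψ γ h1 h2
    obtain ⟨σ, rfl, rfl⟩ := d.lift Q ψ γ h1 h2
    simp only [ev_comp]
    rw [CommRingCat.hom_comp]
    simp only [RingHom.comp_apply, ← map_mul, ← map_sum, hv, map_zero]

/-- The linear map with kernel `K`. -/
noncomputable def phi (d : UD k h c) (e : κ → Γ(G.left, ⊤)) :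
    letI := d.a.hom.toAlgebra; (κ → C) →ₗ[C] d.E :=
  letI := d.a.hom.toAlgebra
  Fintype.linearCombination C (fun j => ev d.γ (e j))

lemma phi_apply (d : UD k h c) (e : κ → Γ(G.left, ⊤)) (v : κ → C) :
    letI := d.a.hom.toAlgebra; phi d e v = ∑ j, d.a.hom (v j) * ev d.γ (e j) := rfl

lemma ker_phi (d : UD k h c) : letI := d.a.hom.toAlgebra; LinearMap.ker (phi d e) = K k e h c := by
  let _ := d.a.hom.toAlgebra
  ext v
  rw [LinearMap.mem_ker, phi_apply, mem_K_iff d]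

variable [IsAffine G.left] (he : Gen G k e)

include he

lemma phi_surjective (d : UD k h c) : letI := d.a.hom.toAlgebra; Function.Surjective (phi d e) := by
  intro z
  obtain ⟨v, hv⟩ := d.exists_coords e he z
  exact ⟨v, hv.symm⟩

theorem projective_K (d : UD k h c) : Module.Projective C ((κ → C) ⧸ K k e h c) := by
  let _ := d.a.hom.toAlgebra
  rw [← ker_phi d]
  have := d.proj
  exact Module.Projective.of_equiv ((phi d e).quotKerEquivOfSurjective (phi_surjective he d)).symm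

/-- The formation of `K` commutes with base change. -/
theorem K_bc (d : UD k h c) {C' : CommRingCat.{u}} (ψ : C ⟶ C') :
    K k e h (Spec.map ψ ≫ c) = bc ψ.hom (K k e h c) := by
  classical
  apply le_antisymm _ (bc_K_le ψ)
  intro v hv
  let _ := d.a.hom.toAlgebra
  let _ := ψ.hom.toAlgebra
  have := d.proj
  obtain ⟨s, hs⟩ := Module.projective_lifting_property (phi d e) LinearMap.id (phi_surjective he d)
  let iR : d.E ⟶ CommRingCat.of (C' ⊗[C] d.E) :=
    CommRingCat.ofHom (Algebra.TensorProduct.includeRight : d.E →ₐ[C] C' ⊗[C] d.E).toRingHom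
  let iL : C' ⟶ CommRingCat.of (C' ⊗[C] d.E) :=
    CommRingCat.ofHom (Algebra.TensorProduct.includeLeftRingHom : C' →+* C' ⊗[C] d.E)
  have hcomm : ψ ≫ iL = d.a ≫ iR := by
    apply CommRingCat.hom_ext
    ext x
    change (algebraMap C C' x) ⊗ₜ[C] (1 : d.E) = (1 : C') ⊗ₜ[C] (algebraMap C d.E x)
    rw [Algebra.algebraMap_eq_smul_one, Algebra.algebraMap_eq_smul_one, TensorProduct.smul_tmul]
  have h1 := hv _ iL (Spec.map iR ≫ d.γ) (by
    rw [← Spec.map_comp_assoc, hcomm, Spec.map_comp_assoc]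
    exact d.pt.comp _) (d.inf.comp iR)
  have h2 : ∑ j, v j ⊗ₜ[C] (ev d.γ (e j)) = 0 := by
    rw [← h1]
    refine Finset.sum_congr rfl fun j _ => ?_
    rw [ev_comp]
    change _ = (v j ⊗ₜ[C] (1 : d.E)) * ((1 : C') ⊗ₜ[C] (ev d.γ (e j)))
    rw [Algebra.TensorProduct.tmul_mul_tmul, _root_.mul_one, _root_.one_mul]
  let τ : C' ⊗[C] d.E →ₗ[C] (κ → C') := TensorProduct.lift (LinearMap.mk₂ C
    (fun (a : C') (z : d.E) => fun j => a * ψ.hom (s z j))
    (fun a b z => by ext j; simp [add_mul])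
    (fun r a z => by ext j; simp [_root_.mul_assoc])
    (fun a z w => by ext j; simp [mul_add])
    (fun r a z => by
      ext j
      simp only [map_smul, Pi.smul_apply, smul_eq_mul, map_mul]
      rw [Algebra.smul_def]
      change a * (ψ.hom r * _) = ψ.hom r * _
      ring))
  have hτ : ∀ (a : C') (z : d.E) (j : κ), τ (a ⊗ₜ z) j = a * ψ.hom (s z j) := fun a z j => rfl
  have h3 := congrArg τ h2
  rw [map_zero, map_sum] at h3
  have h4 : ∀ j : κ, (Pi.single j 1 : κ → C) - s (ev d.γ (e j)) ∈ K k e h c := by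
    intro j
    rw [← ker_phi d, LinearMap.mem_ker, map_sub]
    have h5 := LinearMap.congr_fun hs (ev d.γ (e j))
    rw [LinearMap.comp_apply, LinearMap.id_apply] at h5
    rw [h5, sub_eq_zero]
    have h6 : (phi d e) (Pi.single j 1) = (1 : C) • ev d.γ (e j) := Fintype.linearCombination_apply_single C _ j 1
    rw [h6, one_smul]
  have h5 : v = ∑ j, v j • fun i => ψ.hom (((Pi.single j 1 : κ → C) - s (ev d.γ (e j))) i) := by
    ext i
    have h6 := congrFun h3 i
    rw [Finset.sum_apply] at h6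
    simp only [hτ, Pi.zero_apply] at h6
    rw [Finset.sum_apply]
    simp only [Pi.smul_apply, smul_eq_mul, Pi.sub_apply, map_sub, mul_sub, Finset.sum_sub_distrib, h6, sub_zero]
    rw [Finset.sum_eq_single i]
    · simp
    · intro j _ hj
      rw [Pi.single_eq_of_ne (Ne.symm hj), map_zero, mul_zero]
    · intro hi
      exact absurd (Finset.mem_univ i) hi
  rw [h5]
  exact Submodule.sum_mem _ fun j _ => Submodule.smul_mem _ _ (mem_bc_of_mem ψ.hom (h4 j))

end K194.InfK
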