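import Groth.Agent.RedSub.H672.InfNorm
import Groth.Agent.Sga3C.GrpIrr

/-!
# Inclusion of a smooth subgroup can be tested on infinitesimal points
-/

set_option autoImplicit false

open CategoryTheory Limits MonoidalCategory CartesianMonoidalCategory MonObj GrpObj
  AlgebraicGeometry Groth.Agent.Sga3C.CWMain Groth.Agent.Sga3C.CWGroup Groth.Agent.Sga3C.CWFam

universe u

namespace K194.InfSub

open Groth.Agent.RedSub.H672 Groth.Agent.RedSub.H672.InfNorm

variable {S : Scheme.{u}} {H G N : Over S} [GrpObj G] [GrpObj H] [GrpObj N]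

/-- A homomorphism from a smooth group with geometrically irreducible fibres to `G` factors through the subgroup
`N` as soon as it does on infinitesimal points. -/
theorem exists_lift_of_inf [Smooth H.hom] [GeometricallyIrreducible H.hom] [LocallyOfFiniteType G.hom]
    [LocallyOfFinitePresentation N.hom] (f : H ⟶ G) [IsMonHom f] (i : N ⟶ G) [IsMonHom i] [Mono i]
    (hi : ∀ (k : ℕ) (Q : CommRingCat.{u}) (q : Spec Q ⟶ S) (h : Over.mk q ⟶ H), IsInf k h →
      ∃ h' : Over.mk q ⟶ N, h ≫ f = h' ≫ i) : ∃ a : H ⟶ N, a ≫ i = f := by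
  let T : Over S := 𝟙_ (Over S)
  suffices hsuff : ∃ a : T ⊗ H ⟶ N, a ≫ i = snd T H ≫ f by
    obtain ⟨a, ha⟩ := hsuff
    refine ⟨lift (toUnit H) (𝟙 H) ≫ a, ?_⟩
    rw [Category.assoc, ha, lift_snd_assoc, Category.id_comp]
  let γ : T ⊗ H ⟶ G := snd T H ≫ f
  have hγ : IsMul γ := by
    intro U t a b
    simp only [γ, lift_snd_assoc, mul_comp]
  let f₀ : (T ⊗ H).left ⟶ T.left := (fst T H).left
  have hf : Smooth f₀ := by
    change Smooth (pullback.fst _ _)
    infer_instance
  let j₀ : pullback γ i ⟶ T ⊗ H := pullback.fst γ i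
  let j := j₀.left
  have hj : Mono j := inferInstance
  have hilfp : LocallyOfFinitePresentation i.left := by
    have : LocallyOfFinitePresentation (i.left ≫ G.hom) := by
      rw [Over.w i]
      infer_instance
    exact Groth.Agent.Ega43.FPOfComp.locallyOfFinitePresentation_of_comp _ G.hom
  have hjlfp : LocallyOfFinitePresentation j := by
    have h1 : IsPullback j₀.left (pullback.snd γ i).left γ.left i.left :=
      isPullback_left (IsPullback.of_hasPullback γ i)
    exact MorphismProperty.of_isPullback (P := @LocallyOfFinitePresentation) h1.flip hilfp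
  let e₀ : T ⟶ pullback γ i := pullback.lift (lift (𝟙 T) (1 : T ⟶ H)) (1 : T ⟶ N) (by
    rw [hγ.one, one_comp])
  have he₀ : (e₀ ≫ j₀) ≫ fst T H = 𝟙 T := by
    rw [pullback.lift_fst, lift_fst]
  have he₀j : e₀ ≫ j₀ = lift (𝟙 T) (1 : T ⟶ H) := pullback.lift_fst _ _ _
  have hs : (e₀.left ≫ j) ≫ f₀ = 𝟙 T.left := by
    change ((e₀ ≫ j₀) ≫ fst T H).left = 𝟙 T.left
    rw [he₀]
    rfl
  have hgrp : ∀ (T' : Scheme.{u}) (g : T' ⟶ T.left) (W : Scheme.{u}) (w : W ⟶ pullback f₀ g),
      Flat w → LocallyOfFinitePresentation w → (∀ t : T', ∃ z, (w ≫ pullback.snd f₀ g) z = t) →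
      ∀ (c : W ⟶ (pullback γ i).left), c ≫ j = w ≫ pullback.fst f₀ g → Cond f₀ j g := by
    intro T' g W w hw1 hw2 hw3 c hc
    let T'' : Over S := Over.mk (g ≫ T.hom)
    let g' : T'' ⟶ T := Over.homMk g
    change Cond f₀ j g'.left
    rw [cond_iff]
    have hpb : IsPullback (g' ▷ H).left (fst T'' H).left f₀ g :=
      isPullback_left (isPullback_whiskerRight g' H)
    let w1 : W ⟶ (T'' ⊗ H).left := w ≫ hpb.isoPullback.inv
    let W' : Over S := Over.mk (w1 ≫ (T'' ⊗ H).hom)
    let w' : W' ⟶ T'' ⊗ H := Over.homMk w1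
    have h1 : Flat w'.left := inferInstanceAs (Flat (w ≫ hpb.isoPullback.inv))
    have h2 : LocallyOfFinitePresentation w'.left :=
      inferInstanceAs (LocallyOfFinitePresentation (w ≫ hpb.isoPullback.inv))
    have hw1g : w1 ≫ (g' ▷ H).left = c ≫ j := by
      rw [Category.assoc, hpb.isoPullback_inv_fst, hc]
    let c' : W' ⟶ pullback γ i := Over.homMk c (by
      rw [← Over.w (pullback.fst γ i)]
      change c ≫ j ≫ (T ⊗ H).hom = w1 ≫ (T'' ⊗ H).hom
      rw [← Category.assoc, ← hw1g, Category.assoc]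
      congr 1
      exact Over.w (g' ▷ H))
    have hc' : c' ≫ j₀ = w' ≫ (g' ▷ H) := by
      apply Over.OverMorphism.ext
      exact hw1g.symm
    refine exists_lift_of_flat i ((g' ▷ H) ≫ γ) ?_ w' ?_ (c' ≫ pullback.snd γ i) ?_
    · intro U t a b
      simp only [← Category.assoc, lift_whiskerRight]
      exact hγ _ _ _
    · intro t
      obtain ⟨x, hx⟩ := hw3 t
      refine ⟨x, ?_⟩
      rw [← hx]
      have : (w' ≫ fst T'' H).left = w ≫ pullback.snd f₀ g := by
        change w1 ≫ (fst T'' H).left = _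
        rw [Category.assoc, hpb.isoPullback_inv_snd]
      rw [this]
    · rw [Category.assoc, ← pullback.condition, ← Category.assoc]
      change (c' ≫ j₀) ≫ γ = _
      rw [hc', Category.assoc]
  have hinf : ∀ (Q D : CommRingCat.{u}) (π : Q ⟶ D), Function.Surjective π.hom →
      IsNilpotent (RingHom.ker π.hom) → ∀ u : Spec Q ⟶ (T ⊗ H).left,
      Spec.map π ≫ u = Spec.map π ≫ u ≫ f₀ ≫ e₀.left ≫ j → ∃ v : Spec Q ⟶ (pullback γ i).left, v ≫ j = u := by
    intro Q D π hπs hπn u hu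
    obtain ⟨k, hk⟩ := hπn
    let q : Spec Q ⟶ S := u ≫ (T ⊗ H).hom
    let u' : Over.mk q ⟶ T ⊗ H := Over.homMk u
    have hu' : (Over.homMk (Spec.map π) : Over.mk (Spec.map π ≫ q) ⟶ Over.mk q) ≫ u' =
        (Over.homMk (Spec.map π) : Over.mk (Spec.map π ≫ q) ⟶ Over.mk q) ≫ u' ≫ fst T H ≫ e₀ ≫ j₀ := by
      apply Over.OverMorphism.ext
      exact hu
    have h1 : IsInf k (u' ≫ snd T H) := by
      refine ⟨D, π, hπs, hk, left_eq_of_comp π ?_⟩
      have h0 := congrArg (fun z => z ≫ snd T H) hu'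
      simp only [Category.assoc, reassoc_of% he₀j, lift_snd, comp_one] at h0
      rw [h0, comp_one]
    obtain ⟨h', hh'⟩ := hi k Q q (u' ≫ snd T H) h1
    have h2 : h' ≫ i = u' ≫ γ := by
      rw [← hh', Category.assoc]
    refine ⟨(pullback.lift u' h' h2.symm : Over.mk q ⟶ pullback γ i).left, ?_⟩
    have h3 : (pullback.lift u' h' h2.symm : Over.mk q ⟶ pullback γ i) ≫ j₀ = u' := pullback.lift_fst _ _ _
    exact congrArg (fun z => z.left) h3
  have hcond : ∀ t : T.left, ∃ V : T.left.Opens, t ∈ V ∧ Cond f₀ j V.ι := by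
    intro t
    obtain ⟨c, hc⟩ := Groth.Agent.Sga3C.CWMono.exists_chart f₀ j e₀.left hs t
    refine ⟨c.V, hc, ?_⟩
    have h1 := InfChart.cond_of_inf c hs hgrp hinf
    have h2 : c.V.ι = c.hV.isoSpec.hom ≫ c.hV.fromSpec := by
      rw [← IsAffineOpen.isoSpec_inv_ι, Iso.hom_inv_id_assoc]
    rw [h2]
    exact cond_pre f₀ j _ _ h1
  choose V hV hVc using hcond
  have hc1 : TopologicalSpace.IsOpenCover V :=
    TopologicalSpace.IsOpenCover.mk (top_le_iff.1 fun x _ => TopologicalSpace.Opens.mem_iSup.2 ⟨x, hV x⟩)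
  have h1 : Cond f₀ j (𝟙 T.left) := by
    refine cond_loc f₀ j _ (T.left.openCoverOfIsOpenCover V hc1) fun t => ?_
    rw [Category.comp_id]
    exact hVc t
  have h2 := (cond_iff i γ (𝟙 T)).1 h1
  obtain ⟨a, ha⟩ := h2
  refine ⟨a, ?_⟩
  rw [ha]
  simp [γ]

end K194.InfSub
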