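import Groth.Agent.RedSub.K194.InfK2
import Groth.Agent.RedSub.K194.InfSub
import Groth.Agent.Sga3B.RepDescent6

/-!
# Subgroups are determined by the relations on their infinitesimal points
-/

set_option autoImplicit false

open CategoryTheory Limits MonoidalCategory CartesianMonoidalCategory MonObj GrpObj AlgebraicGeometry TensorProduct

universe u

namespace K194.InfK

open Groth.Agent.RedSub.H672 Groth.Agent.RedSub.H672.InfNorm Groth.Agent.RedSub.H647.SubPt
  Groth.Agent.Sga3B Groth.Agent.Sga3B.MT Groth.Agent.Sga3B.BcPts Groth.Agent.Fga.GrassBasic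
  Groth.Agent.Sga3B.PinMod

variable {S : Scheme.{u}} {G : Over S}

/-- Being a point of a subgroup is étale local on the source. -/
theorem pt_of_cover {T : Scheme.{u}} {f : T ⟶ S} {H : Over T} (h : H ⟶ Red.bc f G) [Mono h] {X : Scheme.{u}}
    {y : X ⟶ T} {γ : X ⟶ G.left} {J : Type u} (X' : J → Scheme.{u}) (π : ∀ i, X' i ⟶ X) (hπ : ∀ i, Etale (π i))
    (hs : ∀ x : X, ∃ (i : J) (x' : X' i), π i x' = x) (hp : ∀ i, Pt h (π i ≫ y) (π i ≫ γ)) : Pt h y γ := by
  choose p hp1 hp2 using hp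
  obtain ⟨q, hq, -⟩ := RepDescent.exists_glue X' π hπ hs p (fun i j R a b hab => by
    apply left_ext (h := h)
    · rw [Category.assoc, Category.assoc, hp1, hp1, ← Category.assoc, hab, Category.assoc]
    · rw [Category.assoc, Category.assoc, hp2, hp2, ← Category.assoc, hab, Category.assoc])
  refine ⟨q, ?_, ?_⟩
  · obtain ⟨z, -, hz⟩ := RepDescent.exists_glue X' π hπ hs (fun i => π i ≫ y) (fun i j R a b hab => by
      rw [← Category.assoc, hab, Category.assoc])
    rw [hz (q ≫ H.hom) (fun i => by rw [← Category.assoc, hq, hp1]), hz y (fun i => rfl)]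
  · obtain ⟨z, -, hz⟩ := RepDescent.exists_glue X' π hπ hs (fun i => π i ≫ γ) (fun i j R a b hab => by
      rw [← Category.assoc, hab, Category.assoc])
    rw [hz (q ≫ h.left ≫ pullback.fst G.hom f) (fun i => by rw [← Category.assoc, hq, hp2]), hz γ (fun i => rfl)]

variable [GrpObj G] {κ : Type} [Fintype κ]
  {T : Scheme.{u}} {f : T ⟶ S} {H H' : Over T} {h : H ⟶ Red.bc f G} {h' : H' ⟶ Red.bc f G} {k : ℕ}
  {e : κ → Γ(G.left, ⊤)} {C : CommRingCat.{u}} {c : Spec C ⟶ T}

theorem pt_of_K_le [IsAffine G.left] (he : Gen G k e) (d : UD k h' c) {Q : CommRingCat.{u}} (ψ : C ⟶ Q)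
    (γ : Spec Q ⟶ G.left)
    (hK : ∀ v ∈ K k e h' c, ∑ j, ψ.hom (v j) * ev γ (e j) = 0) (hp : γ ≫ G.hom = Spec.map ψ ≫ c ≫ f)
    (hi : InfG k γ) : Pt h' (Spec.map ψ ≫ c) γ := by
  classical
  let _ := d.a.hom.toAlgebra
  let _ := ψ.hom.toAlgebra
  let φ' : (κ → C) →ₗ[C] Q := Fintype.linearCombination C (fun j => ev γ (e j))
  have hφ' : ∀ v, φ' v = ∑ j, ψ.hom (v j) * ev γ (e j) := fun v => rfl
  have hker : LinearMap.ker (phi d e) ≤ LinearMap.ker φ' := by
    rw [ker_phi d]
    intro v hv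
    rw [LinearMap.mem_ker, hφ']
    exact hK v hv
  have hsurj := phi_surjective he d
  let σ : d.E →ₗ[C] Q := (LinearMap.ker (phi d e)).liftQ φ' hker ∘ₗ
    ((phi d e).quotKerEquivOfSurjective hsurj).symm.toLinearMap
  have hσ : ∀ v, σ (phi d e v) = φ' v := by
    intro v
    have h1 : ((phi d e).quotKerEquivOfSurjective hsurj).symm (phi d e v) = Submodule.Quotient.mk v := by
      rw [LinearEquiv.symm_apply_eq]
      rfl
    change (LinearMap.ker (phi d e)).liftQ φ' hker (((phi d e).quotKerEquivOfSurjective hsurj).symm (phi d e v)) = _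
    rw [h1]
    rfl
  have hw : d.γ ≫ G.hom = Spec.map d.a ≫ c ≫ f := by
    rw [← d.pt.w, Category.assoc]
  have hσA : ∀ a, σ (ev d.γ a) = ev γ a := by
    intro a
    obtain ⟨r, hr⟩ := he a
    have h1 : ev d.γ a = phi d e (fun j => sv (c ≫ f) (r j)) := by
      rw [hr _ d.γ d.inf, phi_apply]
      refine Finset.sum_congr rfl fun j _ => ?_
      rw [hw, sv_comp]
    rw [h1, hσ, hφ', hr _ γ hi]
    refine Finset.sum_congr rfl fun j _ => ?_
    rw [hp, sv_comp]
  have hσ1 : σ 1 = 1 := by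
    have h1 := hσA 1
    rwa [RingHom.map_one (ev d.γ), RingHom.map_one (ev γ)] at h1
  have hmul : ∀ z w, σ (z * w) = σ z * σ w := by
    intro z w
    obtain ⟨v, rfl⟩ := hsurj z
    obtain ⟨v', rfl⟩ := hsurj w
    have h1 : ∀ v, phi d e v = ∑ j, v j • ev d.γ (e j) := fun v => rfl
    rw [h1, h1, Finset.sum_mul_sum, map_sum, map_sum, map_sum, Finset.sum_mul_sum]
    refine Finset.sum_congr rfl fun i _ => ?_
    rw [map_sum]
    refine Finset.sum_congr rfl fun j _ => ?_
    rw [smul_mul_smul_comm, map_smul, map_smul, map_smul, smul_mul_smul_comm, ← map_mul, hσA, hσA, hσA, map_mul]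
  let σr : d.E →+* Q :=
    { toFun := σ
      map_one' := hσ1
      map_mul' := hmul
      map_zero' := map_zero σ
      map_add' := map_add σ }
  have e1 : d.a ≫ CommRingCat.ofHom σr = ψ := by
    apply CommRingCat.hom_ext
    ext r
    change σ (algebraMap C d.E r) = ψ.hom r
    rw [Algebra.algebraMap_eq_smul_one, map_smul, hσ1, Algebra.smul_def, _root_.mul_one]
    rfl
  have e2 : Spec.map (CommRingCat.ofHom σr) ≫ d.γ = γ := by
    apply ext_of_ev
    intro a
    rw [ev_comp]
    exact hσA a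
  have h3 := d.pt.comp (Spec.map (CommRingCat.ofHom σr))
  rw [← Category.assoc, ← Spec.map_comp, e1, e2] at h3
  exact h3

/-- If the relations of `h'` hold on `h`, the infinitesimal points of `h` are points of `h'`. -/
theorem pt_of_K_le' [GrpObj H'] [IsAffine G.left] (he : Gen G k e) (hk : k ≠ 0) [IsMonHom h'] [Mono h']
    [Smooth H'.hom] (hK : ∀ (C : CommRingCat.{u}) (c : Spec C ⟶ T), K k e h' c ≤ K k e h c)
    {Q : CommRingCat.{u}} (y : Spec Q ⟶ T) (γ : Spec Q ⟶ G.left) (hp : Pt h y γ) (hi : InfG k γ) : Pt h' y γ := by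
  have key : ∀ x : Spec Q, ∃ (Q' : CommRingCat.{u}) (σ : Q ⟶ Q'), IsOpenImmersion (Spec.map σ) ∧
      x ∈ Set.range (Spec.map σ) ∧ Pt h' (Spec.map σ ≫ y) (Spec.map σ ≫ γ) := by
    intro x
    obtain ⟨V, hV, hxV, hd⟩ := exists_ud h' (y x)
    obtain ⟨d⟩ := hd k hk
    obtain ⟨a, ha, hxa⟩ := (isAffineOpen_top (Spec Q)).exists_basicOpen_le (V := y ⁻¹ᵁ V) ⟨x, hxV⟩ trivial
    obtain ⟨a', rfl⟩ : ∃ a' : Q, a = (Scheme.ΓSpecIso Q).inv a' := ⟨(Scheme.ΓSpecIso Q).hom a, by simp⟩
    let σ : Q ⟶ CommRingCat.of (Localization.Away a') := CommRingCat.ofHom (algebraMap Q (Localization.Away a'))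
    have hσo : IsOpenImmersion (Spec.map σ) := IsOpenImmersion.of_isLocalization (R := Q) (S := Localization.Away a') a'
    have hrange : Set.range (Spec.map σ) = (PrimeSpectrum.basicOpen a' : Set (PrimeSpectrum Q)) :=
      PrimeSpectrum.localization_away_comap_range (Localization.Away a') a'
    have hbo : (Spec Q).basicOpen ((Scheme.ΓSpecIso Q).inv a') = PrimeSpectrum.basicOpen a' :=
      (basicOpen_eq_of_affine a')
    refine ⟨_, σ, hσo, ?_, ?_⟩
    · rw [hrange, ← hbo]
      exact hxa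
    · have hr : Set.range (Spec.map σ ≫ y) ⊆ Set.range hV.fromSpec := by
        rintro _ ⟨z, rfl⟩
        rw [hV.range_fromSpec]
        have h1 : Spec.map σ z ∈ (Spec Q).basicOpen ((Scheme.ΓSpecIso Q).inv a') := by
          rw [hbo]
          change Spec.map σ z ∈ (PrimeSpectrum.basicOpen a' : Set (PrimeSpectrum Q))
          rw [← hrange]
          exact ⟨z, rfl⟩
        exact ha h1
      let y' := IsOpenImmersion.lift hV.fromSpec (Spec.map σ ≫ y) hr
      have hy' : y' ≫ hV.fromSpec = Spec.map σ ≫ y := IsOpenImmersion.lift_fac _ _ _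
      obtain ⟨ψ, hψ⟩ := Spec.map_surjective y'
      rw [← hψ] at hy'
      rw [← hy']
      have hp' := hp.comp (Spec.map σ)
      refine pt_of_K_le he d ψ _ ?_ ?_ (hi.comp σ)
      · intro v hv
        have h1 := hK _ _ (map_mem_K ψ hv)
        rw [hy'] at h1
        have h2 := h1 _ (𝟙 _) (Spec.map σ ≫ γ) (by rwa [Spec.map_id, Category.id_comp]) (hi.comp σ)
        simpa using h2
      · rw [← hp'.w, ← hy', Category.assoc]
  choose Q' σ h1 h2 h3 using key
  exact pt_of_cover h' (J := Spec Q) (fun x => Spec (Q' x)) (fun x => Spec.map (σ x))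
    (fun x => have := h1 x; inferInstance) (fun x => ⟨x, h2 x⟩) h3

/-- If the relations of `h'` hold on `h` at all levels, then `h` factors through `h'`. -/
theorem exists_le [GrpObj H] [GrpObj H'] [IsAffine G.left] [LocallyOfFiniteType G.hom]
    [IsMonHom h] [Mono h] [Smooth H.hom] [IsMonHom h'] [Mono h'] [GeometricallyIrreducible H.hom]
    [Smooth H'.hom]
    (hK : ∀ k : ℕ, ∃ k', k ≤ k' ∧ k' ≠ 0 ∧ ∃ (n : ℕ) (e : Fin n → Γ(G.left, ⊤)), Gen G k' e ∧
      ∀ (C : CommRingCat.{u}) (c : Spec C ⟶ T), K k' e h' c ≤ K k' e h c) : ∃ v : H ⟶ H', v ≫ h' = h := by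
  have hft : LocallyOfFiniteType (Red.bc f G).hom := by
    change LocallyOfFiniteType (pullback.snd _ _)
    infer_instance
  refine InfSub.exists_lift_of_inf h h' fun k Q q x hx => ?_
  obtain ⟨k', hkk', hk', n, e, he, hKe⟩ := hK k
  have hi : InfG k (x.left ≫ h.left ≫ pullback.fst G.hom f) := by
    obtain ⟨D, π, h1, h2, h3⟩ := hx
    refine ⟨D, π, h1, h2, ?_⟩
    have e1 := congrArg (fun z => z ≫ h.left ≫ pullback.fst G.hom f) h3
    simp only [Category.assoc] at e1
    rw [one_bc_fst] at e1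
    rw [e1]
    have e2 := (Over.w x)
    simp only [Category.assoc]
    rw [pullback.condition_assoc, ← Category.assoc h.left, left_snd, ← Category.assoc x.left, e2]
  have hi' : InfG k' (x.left ≫ h.left ≫ pullback.fst G.hom f) := by
    obtain ⟨D, π, h1, h2, h3⟩ := hi
    refine ⟨D, π, h1, ?_, h3⟩
    rw [eq_bot_iff, ← h2]
    exact Ideal.pow_le_pow_right hkk'
  obtain ⟨p, hp1, hp2⟩ := pt_of_K_le' he hk' hKe q _ ⟨x.left, Over.w x, rfl⟩ hi'
  refine ⟨Over.homMk p hp1, ?_⟩
  apply Over.OverMorphism.ext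
  apply pullback.hom_ext
  · simp only [Over.comp_left, Category.assoc, Over.homMk_left]
    exact hp2.symm
  · simp only [Over.comp_left, Category.assoc, Over.homMk_left]
    have e1 := left_snd h
    have e2 := left_snd h'
    exact (congrArg (x.left ≫ ·) e1).trans ((Over.w x).trans (hp1.symm.trans (congrArg (p ≫ ·) e2.symm)))

end K194.InfK
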