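import Groth.Agent.RedSub.K194.InfMap
import Groth.Agent.RedSub.K194.AffKer
import Groth.Agent.RedSub.H647.SubF
import Groth.Agent.Ega43.FPOfComp
import Groth.Agent.Fga.Plucker489
import Groth.Agent.Dix.ProjProper

/-!
# For one level `k` the map to the Grassmannian is a monomorphism
-/

set_option autoImplicit false

open CategoryTheory Limits MonoidalCategory CartesianMonoidalCategory MonObj GrpObj AlgebraicGeometry TensorProduct

universe u

namespace K194.InfK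

open Groth.Agent.RedSub.H672 Groth.Agent.RedSub.H672.InfNorm Groth.Agent.RedSub.H647.SubPt
  Groth.Agent.Sga3B Groth.Agent.Sga3B.MT Groth.Agent.Sga3B.BcPts Groth.Agent.Fga.GrassBasic
  Groth.Agent.Sga3B.PinMod Groth.Agent.Fga.RingFunBasic Groth.Agent.Fga.RingFunRep Groth.Agent.Fga.Grass K194.Perp

variable {S : Scheme.{u}} {G : Over S} [GrpObj G]

lemma InfG.mono' {k l : ℕ} (hkl : k ≤ l) {Q : CommRingCat.{u}} {γ : Spec Q ⟶ G.left} (h : InfG k γ) : InfG l γ := by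
  obtain ⟨D, π, h1, h2, h3⟩ := h
  refine ⟨D, π, h1, ?_, h3⟩
  rw [eq_bot_iff, ← h2]
  exact Ideal.pow_le_pow_right hkl

/-- Base change of a subgroup, with a free choice of the structure morphism. -/
lemma exists_pull {T T' : Scheme.{u}} (g : T' ⟶ T) {f : T ⟶ S} {f' : T' ⟶ S} (hf : g ≫ f = f') {H : Over T}
    [GrpObj H] (h : H ⟶ Red.bc f G) [IsMonHom h] [Mono h] [Smooth H.hom] [GeometricallyIrreducible H.hom] :
    ∃ (H' : Over T') (_ : GrpObj H') (h' : H' ⟶ Red.bc f' G), IsMonHom h' ∧ Mono h' ∧ Smooth H'.hom ∧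
      GeometricallyIrreducible H'.hom ∧ ∀ (X : Scheme.{u}) (y : X ⟶ T') (γ : X ⟶ G.left),
        Pt h' y γ ↔ Pt h (y ≫ g) γ := by
  subst hf
  refine ⟨Red.bc g H, inferInstance, bcSub g h, Groth.Agent.RedSub.H647.SubF.isMonHom_bcSub g h, ?_, ?_, ?_,
    fun X y γ => pt_bcSub g h y γ⟩
  · rw [bcSub]
    have h1 : Mono ((Over.pullback g).map h) := inferInstance
    exact mono_comp _ _
  · change Smooth (pullback.snd H.hom g)
    infer_instance
  · change GeometricallyIrreducible (pullback.snd H.hom g)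
    infer_instance

omit [GrpObj G] in
lemma pt_of_hom {T : Scheme.{u}} {f : T ⟶ S} {H H' : Over T} {h : H ⟶ Red.bc f G} {h' : H' ⟶ Red.bc f G}
    (v : H ⟶ H') (hv : v ≫ h' = h) {X : Scheme.{u}} {y : X ⟶ T} {γ : X ⟶ G.left} (hp : Pt h y γ) : Pt h' y γ := by
  obtain ⟨p, h1, h2⟩ := hp
  refine ⟨p ≫ v.left, ?_, ?_⟩
  · rw [Category.assoc, Over.w v, h1]
  · rw [← h2, ← hv, Over.comp_left]
    simp only [Category.assoc]

section family

variable {n : ℕ → ℕ} {e : ∀ k, Fin (n k) → Γ(G.left, ⊤)} (he : ∀ k, Gen G (k + 1) (e k)) [IsAffine G.left]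

include he

theorem same_of_K [LocallyOfFiniteType G.hom] {T : Scheme.{u}} {f : T ⟶ S} {H H' : Over T} [GrpObj H] [GrpObj H']
    (h : H ⟶ Red.bc f G) (h' : H' ⟶ Red.bc f G) [IsMonHom h] [Mono h] [Smooth H.hom] [GeometricallyIrreducible H.hom]
    [IsMonHom h'] [Mono h'] [Smooth H'.hom] [GeometricallyIrreducible H'.hom]
    (hK : ∀ (k : ℕ) (C : CommRingCat.{u}) (c : Spec C ⟶ T), K (k + 1) (e k) h c = K (k + 1) (e k) h' c)
    (X : Scheme.{u}) (y : X ⟶ T) (γ : X ⟶ G.left) : Pt h y γ ↔ Pt h' y γ := by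
  obtain ⟨v, hv⟩ := exists_le (h := h) (h' := h') fun k => ⟨k + 1, Nat.le_succ k, Nat.succ_ne_zero k, n k, e k,
    he k, fun C c => (hK k C c).ge⟩
  obtain ⟨w, hw⟩ := exists_le (h := h') (h' := h) fun k => ⟨k + 1, Nat.le_succ k, Nat.succ_ne_zero k, n k, e k,
    he k, fun C c => (hK k C c).le⟩
  exact ⟨pt_of_hom v hv, pt_of_hom w hw⟩

theorem K_lower {T : Scheme.{u}} {f : T ⟶ S} {H H' : Over T} [GrpObj H] [GrpObj H']
    (h : H ⟶ Red.bc f G) (h' : H' ⟶ Red.bc f G) [IsMonHom h] [Mono h] [Smooth H.hom]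
    [IsMonHom h'] [Mono h'] [Smooth H'.hom] (k : ℕ)
    (hK : ∀ (C : CommRingCat.{u}) (c : Spec C ⟶ T), K (k + 1 + 1) (e (k + 1)) h c = K (k + 1 + 1) (e (k + 1)) h' c)
    (C : CommRingCat.{u}) (c : Spec C ⟶ T) : K (k + 1) (e k) h c = K (k + 1) (e k) h' c := by
  apply K_eq_of_pt
  intro Q ψ γ hγ
  constructor
  · intro hp
    exact pt_of_K_le' (he (k + 1)) (Nat.succ_ne_zero _) (fun C c => (hK C c).ge) _ _ hp
      (hγ.mono' (Nat.le_succ _))
  · intro hp
    exact pt_of_K_le' (he (k + 1)) (Nat.succ_ne_zero _) (fun C c => (hK C c).le) _ _ hp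
      (hγ.mono' (Nat.le_succ _))

end family

section level

lemma comp_eq_iff {κ : Type} [Fintype κ] [DecidableEq κ] {k : ℕ} {e : κ → Γ(G.left, ⊤)} {X : Scheme.{u}}
    {f : X ⟶ S} {H : Over X} {h : H ⟶ Red.bc f G} {P : Scheme.{u}}
    (r : Rep (grFun.{u} (κ ⊕ κ) (Fintype.card κ)) P) {t : X ⟶ P}
    (ht : ∀ (C : CommRingCat.{u}) (c : Spec C ⟶ X), (r.e C (c ≫ t)).1 = dbl (K k e h c)) {W : Scheme.{u}}
    (a b : W ⟶ X) : a ≫ t = b ≫ t ↔ ∀ (C : CommRingCat.{u}) (c : Spec C ⟶ W),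
      K k e h (c ≫ a) = K k e h (c ≫ b) := by
  constructor
  · intro hab C c
    apply dbl_injective
    rw [← ht, ← ht, Category.assoc, Category.assoc, hab]
  · intro hK
    apply r.fam_injective
    ext C c
    apply Subtype.ext
    change (r.e C (c ≫ a ≫ t)).1 = (r.e C (c ≫ b ≫ t)).1
    rw [← Category.assoc, ← Category.assoc, ht, ht, hK]

variable [IsAffine S] [IsAffineHom G.hom] [Smooth G.hom]

theorem exists_level {n : ℕ → ℕ} {e : ∀ k, Fin (n k) → Γ(G.left, ⊤)} (he : ∀ k, Gen G (k + 1) (e k))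
    {X Z : Scheme.{u}} (q : X ⟶ Z) (p : Z ⟶ S) {H : Over X} [GrpObj H]
    (h : H ⟶ Red.bc (q ≫ p) G) [IsMonHom h] [Mono h] [Smooth H.hom] [GeometricallyIrreducible H.hom]
    [LocallyOfFiniteType q] [CompactSpace ↥(pullback q q)]
    (hmono : ∀ (T : Scheme.{u}) (a b : T ⟶ X), a ≫ q = b ≫ q →
      (∀ (Y : Scheme.{u}) (y : Y ⟶ T) (γ : Y ⟶ G.left), Pt h (y ≫ a) γ ↔ Pt h (y ≫ b) γ) → a = b) :
    ∃ k, ∀ (T : Scheme.{u}) (a b : T ⟶ X), a ≫ q = b ≫ q →
      (∀ (C : CommRingCat.{u}) (c : Spec C ⟶ T), K (k + 1) (e k) h (c ≫ a) = K (k + 1) (e k) h (c ≫ b)) → a = b := by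
  classical
  have hGa : IsAffine G.left := isAffine_of_isAffineHom G.hom
  -- the two families over a scheme over `N`
  have two : ∀ {W : Scheme.{u}} (a b : W ⟶ X), a ≫ q = b ≫ q → ∃ (H₁ H₂ : Over W) (_ : GrpObj H₁) (_ : GrpObj H₂)
      (h₁ : H₁ ⟶ Red.bc (a ≫ q ≫ p) G) (h₂ : H₂ ⟶ Red.bc (a ≫ q ≫ p) G), IsMonHom h₁ ∧ Mono h₁ ∧ Smooth H₁.hom ∧
      GeometricallyIrreducible H₁.hom ∧ IsMonHom h₂ ∧ Mono h₂ ∧ Smooth H₂.hom ∧ GeometricallyIrreducible H₂.hom ∧
      (∀ (Y : Scheme.{u}) (y : Y ⟶ W) (γ : Y ⟶ G.left), Pt h₁ y γ ↔ Pt h (y ≫ a) γ) ∧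
      (∀ (Y : Scheme.{u}) (y : Y ⟶ W) (γ : Y ⟶ G.left), Pt h₂ y γ ↔ Pt h (y ≫ b) γ) := by
    intro W a b hab
    obtain ⟨H₁, g₁, h₁, a1, a2, a3, a4, a5⟩ := exists_pull a (f' := a ≫ q ≫ p) rfl h
    obtain ⟨H₂, g₂, h₂, b1, b2, b3, b4, b5⟩ := exists_pull b (f' := a ≫ q ≫ p) (by
      rw [← Category.assoc, ← Category.assoc, hab]) h
    exact ⟨H₁, H₂, g₁, g₂, h₁, h₂, a1, a2, a3, a4, b1, b2, b3, b4, a5, b5⟩
  have Kcomp : ∀ {W : Scheme.{u}} {a : W ⟶ X} {f' : W ⟶ S} {H₁ : Over W} {h₁ : H₁ ⟶ Red.bc f' G} (k : ℕ),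
      (∀ (Y : Scheme.{u}) (y : Y ⟶ W) (γ : Y ⟶ G.left), Pt h₁ y γ ↔ Pt h (y ≫ a) γ) →
      ∀ (C : CommRingCat.{u}) (c : Spec C ⟶ W), K (k + 1) (e k) h₁ c = K (k + 1) (e k) h (c ≫ a) := by
    intro W a f' H₁ h₁ k hh C c
    apply K_eq_of_pt
    intro Q ψ γ _
    rw [hh, Category.assoc]
  have lower : ∀ (k : ℕ) {W : Scheme.{u}} (a b : W ⟶ X), a ≫ q = b ≫ q →
      (∀ (C : CommRingCat.{u}) (c : Spec C ⟶ W),
        K (k + 1 + 1) (e (k + 1)) h (c ≫ a) = K (k + 1 + 1) (e (k + 1)) h (c ≫ b)) →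
      ∀ (C : CommRingCat.{u}) (c : Spec C ⟶ W), K (k + 1) (e k) h (c ≫ a) = K (k + 1) (e k) h (c ≫ b) := by
    intro k W a b hab hK C c
    obtain ⟨H₁, H₂, _, _, h₁, h₂, _, _, _, _, _, _, _, _, a5, b5⟩ := two a b hab
    rw [← Kcomp k a5, ← Kcomp k b5]
    exact K_lower he h₁ h₂ k (fun C c => by rw [Kcomp (k + 1) a5, Kcomp (k + 1) b5, hK]) C c
  have det : ∀ {W : Scheme.{u}} (a b : W ⟶ X), a ≫ q = b ≫ q →
      (∀ (k : ℕ) (C : CommRingCat.{u}) (c : Spec C ⟶ W),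
        K (k + 1) (e k) h (c ≫ a) = K (k + 1) (e k) h (c ≫ b)) → a = b := by
    intro W a b hab hK
    obtain ⟨H₁, H₂, _, _, h₁, h₂, _, _, _, _, _, _, _, _, a5, b5⟩ := two a b hab
    refine hmono W a b hab fun Y y γ => ?_
    rw [← a5, ← b5]
    exact same_of_K he h₁ h₂ (fun k C c => by rw [Kcomp k a5, Kcomp k b5, hK]) Y y γ
  -- the Grassmannians
  have hgr := fun k => exists_grass.{u} (Fin (n k) ⊕ Fin (n k)) (Fintype.card (Fin (n k)))
  choose P r _ _ using hgr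
  have hsep : ∀ k, (P k).IsSeparated := by
    intro k
    obtain ⟨N, c, hc⟩ := Groth.Agent.Fga.Plucker489.exists_plucker (r k)
    have h1 : IsProper (CohB1.ProjSpace.toSpec N (ULift.{u} ℤ)) := inferInstance
    constructor
    rw [← terminal.comp_from (c ≫ CohB1.ProjSpace.toSpec N (ULift.{u} ℤ))]
    infer_instance
  have hmap := fun k => (exists_map (h := h) (goodPt (he k) (Nat.succ_ne_zero k)) (r k)).exists
  choose t ht using hmap
  -- the local statement
  have hloc : ∀ (U : Scheme.{u}) [IsAffine U] (u : U ⟶ pullback q q), ∃ (k₀ : ℕ), ∀ k, k₀ ≤ k →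
      ∀ {Z : Scheme.{u}} (w : Z ⟶ U), (w ≫ u ≫ pullback.fst q q) ≫ t k = (w ≫ u ≫ pullback.snd q q) ≫ t k →
        w ≫ u ≫ pullback.fst q q = w ≫ u ≫ pullback.snd q q := by
    intro U _ u
    have hJ := fun k => AffKer.exists_eq_ideal ((u ≫ pullback.fst q q) ≫ t k) ((u ≫ pullback.snd q q) ≫ t k)
    choose J hJ using hJ
    have hJ' : ∀ (k : ℕ) {Z : Scheme.{u}} (w : Z ⟶ U), J k ≤ RingHom.ker w.appTop.hom ↔
        ∀ (C : CommRingCat.{u}) (c : Spec C ⟶ Z),
          K (k + 1) (e k) h (c ≫ w ≫ u ≫ pullback.fst q q) = K (k + 1) (e k) h (c ≫ w ≫ u ≫ pullback.snd q q) := by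
      intro k Z w
      have e1 : w ≫ (u ≫ pullback.fst q q) ≫ t k = (w ≫ u ≫ pullback.fst q q) ≫ t k := by
        simp only [Category.assoc]
      have e2 : w ≫ (u ≫ pullback.snd q q) ≫ t k = (w ≫ u ≫ pullback.snd q q) ≫ t k := by
        simp only [Category.assoc]
      rw [← hJ k w, e1, e2, comp_eq_iff (r k) (ht k)]
    have hwq : ∀ {Z : Scheme.{u}} (w : Z ⟶ U), (w ≫ u ≫ pullback.fst q q) ≫ q = (w ≫ u ≫ pullback.snd q q) ≫ q := by
      intro Z w
      simp only [Category.assoc]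
      rw [pullback.condition]
    have hmonoJ : Monotone J := by
      apply monotone_nat_of_le_succ
      intro k
      have h1 : J k ≤ RingHom.ker (AffKer.zι U (J (k + 1))).appTop.hom := by
        rw [hJ' k]
        apply lower k _ _ (hwq _)
        rw [← hJ' (k + 1), AffKer.ker_zι]
      rwa [AffKer.ker_zι] at h1
    let Ji : Ideal Γ(U, ⊤) := ⨆ k, J k
    have hle : ∀ k, J k ≤ Ji := fun k => le_iSup J k
    have hJinf : ∀ {Z : Scheme.{u}} (w : Z ⟶ U), Ji ≤ RingHom.ker w.appTop.hom ↔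
        w ≫ u ≫ pullback.fst q q = w ≫ u ≫ pullback.snd q q := by
      intro Z w
      constructor
      · intro hw
        apply det _ _ (hwq w)
        intro k
        rw [← hJ' k]
        exact (hle k).trans hw
      · intro hw
        refine iSup_le fun k => ?_
        rw [hJ' k]
        intro C c
        rw [hw]
    have hlfp : LocallyOfFinitePresentation (AffKer.zι U Ji) := by
      have hdiag : LocallyOfFinitePresentation (pullback.diagonal q) := by
        have : LocallyOfFinitePresentation (pullback.diagonal q ≫ pullback.fst q q) := by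
          rw [pullback.diagonal_fst]
          infer_instance
        exact Groth.Agent.Ega43.FPOfComp.locallyOfFinitePresentation_of_comp _ (pullback.fst q q)
      let pD := pullback.fst u (pullback.diagonal q)
      have hpD : LocallyOfFinitePresentation pD := inferInstance
      have hm : Mono pD := inferInstance
      obtain ⟨l₂, hl₂⟩ : ∃ l, l ≫ AffKer.zι U Ji = pD := by
        rw [AffKer.factor_iff, hJinf, ← Category.assoc, ← Category.assoc]
        have h1 : pD ≫ u = pullback.snd _ _ ≫ pullback.diagonal q := pullback.condition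
        rw [h1, Category.assoc, Category.assoc, pullback.diagonal_fst, pullback.diagonal_snd]
      have h2 := (hJinf (AffKer.zι U Ji)).1 (by rw [AffKer.ker_zι])
      let l₁ : Spec (CommRingCat.of (Γ(U, ⊤) ⧸ Ji)) ⟶ pullback u (pullback.diagonal q) :=
        pullback.lift (AffKer.zι U Ji) (AffKer.zι U Ji ≫ u ≫ pullback.fst q q) (by
          apply pullback.hom_ext
          · simp
          · simp [h2])
      have hl₁ : l₁ ≫ pD = AffKer.zι U Ji := pullback.lift_fst _ _ _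
      have h3 : IsIso l₁ := by
        refine ⟨l₂, ?_, ?_⟩
        · rw [← cancel_mono (AffKer.zι U Ji), Category.assoc, hl₂, hl₁, Category.id_comp]
        · rw [← cancel_mono pD, Category.assoc, hl₁, hl₂, Category.id_comp]
      rw [← hl₁]
      infer_instance
    have hfg := AffKer.fg_of_lfp U Ji hlfp
    obtain ⟨k₀, hk₀⟩ : ∃ k₀, Ji ≤ J k₀ := by
      obtain ⟨s, hs⟩ := hfg
      have hdir : Directed (· ≤ ·) J := hmonoJ.directed_le
      have h1 : ∀ x ∈ s, ∃ k, x ∈ J k := by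
        intro x hx
        have h2 : x ∈ Ji := by
          rw [← hs]
          exact Ideal.subset_span hx
        exact (Submodule.mem_iSup_of_directed J hdir).1 h2
      choose! k hk using h1
      refine ⟨s.sup k, ?_⟩
      rw [← hs, Ideal.span_le]
      intro x hx
      exact hmonoJ (Finset.le_sup hx) (hk x hx)
    refine ⟨k₀, fun k hk Z w hw => ?_⟩
    rw [← hJinf]
    refine hk₀.trans ((hmonoJ hk).trans ?_)
    rw [← hJ k w]
    simpa only [Category.assoc] using hw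
  let 𝒰 := (pullback q q).affineCover.finiteSubcover
  have hUa : ∀ i, IsAffine (𝒰.X i) := fun i => inferInstance
  choose k₀ hk₀ using fun i => hloc (𝒰.X i) (𝒰.f i)
  let k := Finset.univ.sup k₀
  refine ⟨k, fun T a b hab hK => ?_⟩
  let w : T ⟶ pullback q q := pullback.lift a b hab
  have hw1 : w ≫ pullback.fst q q = a := pullback.lift_fst _ _ _
  have hw2 : w ≫ pullback.snd q q = b := pullback.lift_snd _ _ _
  have hab' : a ≫ t k = b ≫ t k := (comp_eq_iff (r k) (ht k) a b).2 hK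
  refine Scheme.Cover.hom_ext (𝒰.pullback₁ w) _ _ fun (i : 𝒰.I₀) => ?_
  have e1 : (𝒰.pullback₁ w).f i ≫ w = pullback.snd w (𝒰.f i) ≫ 𝒰.f i := pullback.condition
  have f1 : pullback.snd w (𝒰.f i) ≫ 𝒰.f i ≫ pullback.fst q q = (𝒰.pullback₁ w).f i ≫ a := by
    rw [← Category.assoc, ← e1]
    exact (Category.assoc _ _ _).trans (congrArg _ hw1)
  have f2 : pullback.snd w (𝒰.f i) ≫ 𝒰.f i ≫ pullback.snd q q = (𝒰.pullback₁ w).f i ≫ b := by
    rw [← Category.assoc, ← e1]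
    exact (Category.assoc _ _ _).trans (congrArg _ hw2)
  have h1 := hk₀ i k (Finset.le_sup (f := k₀) (Finset.mem_univ (α := 𝒰.I₀) i)) (pullback.snd w (𝒰.f i)) (by
    rw [f1, f2]
    exact (Category.assoc _ _ _).trans ((congrArg _ hab').trans (Category.assoc _ _ _).symm))
  rwa [f1, f2] at h1

end level

end K194.InfK
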