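import Groth.Agent.Fga.Grass
import Mathlib.Algebra.Module.FinitePresentation
import Mathlib.LinearAlgebra.FreeModule.Finite.Matrix
import Mathlib.LinearAlgebra.Dual.Lemmas
import Mathlib.RingTheory.Flat.LocallyFree

/-!
# Submodules with projective quotient of any rank as points of one Grassmannian

`dbl L = L ⊕ Lᗮ` in `B^κ ⊕ B^κ`: its quotient is projective of constant rank `card κ` as soon as the quotient
by `L` is projective.
-/

set_option autoImplicit false

universe u

namespace K194.Perp

open Groth.Agent.Fga.GrassBasic Module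

section rank

variable {B : Type*} [CommRing B] {M : Type*} [AddCommGroup M] [Module B M] [Module.Finite B M]
  [Module.Projective B M]

theorem rank_dual (p : PrimeSpectrum B) : rankAtStalk (R := B) (M →ₗ[B] B) p = rankAtStalk (R := B) M p := by
  have hfp : Module.FinitePresentation B M := Module.finitePresentation_of_projective B M
  let S := p.asIdeal.primeCompl
  let e : LocalizedModule S (M →ₗ[B] B) ≃ₗ[Localization.AtPrime p.asIdeal]
      (LocalizedModule S M →ₗ[Localization.AtPrime p.asIdeal] LocalizedModule S B) :=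
    (Module.FinitePresentation.linearEquivMapExtendScalars S (M := M) (N := B)).extendScalarsOfIsLocalization S _
  have h1 : Module.Free (Localization.AtPrime p.asIdeal) (LocalizedModule S M) := free_of_flat_of_isLocalRing
  have h2 : Module.Free (Localization.AtPrime p.asIdeal) (LocalizedModule S B) := free_of_flat_of_isLocalRing
  have h3 : finrank (Localization.AtPrime p.asIdeal) (LocalizedModule S B) = 1 := by
    have hn : Nontrivial B := p.nontrivial
    exact congrFun (rankAtStalk_self (R := B)) p
  rw [rankAtStalk, e.finrank_eq, Module.finrank_linearMap, h3, mul_one]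
  rfl

end rank

variable {B C : Type u} [CommRing B] [CommRing C] {κ : Type} [Fintype κ]

/-- orthogonal -/
def perp (L : Submodule B (κ → B)) : Submodule B (κ → B) where
  carrier := {f | ∀ v ∈ L, ∑ j, f j * v j = 0}
  add_mem' := by
    intro f g hf hg v hv
    simp only [Pi.add_apply, add_mul, Finset.sum_add_distrib, hf v hv, hg v hv, add_zero]
  zero_mem' := by
    intro v hv
    simp
  smul_mem' := by
    intro r f hf v hv
    simp only [Pi.smul_apply, smul_eq_mul, mul_assoc, ← Finset.mul_sum, hf v hv, mul_zero]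

lemma mem_perp {L : Submodule B (κ → B)} {f : κ → B} : f ∈ perp L ↔ ∀ v ∈ L, ∑ j, f j * v j = 0 := Iff.rfl

/-- `L ⊕ Lᗮ` -/
def dbl (L : Submodule B (κ → B)) : Submodule B (κ ⊕ κ → B) where
  carrier := {w | (fun j => w (Sum.inl j)) ∈ L ∧ (fun j => w (Sum.inr j)) ∈ perp L}
  add_mem' := fun h1 h2 => ⟨L.add_mem h1.1 h2.1, (perp L).add_mem h1.2 h2.2⟩
  zero_mem' := ⟨L.zero_mem, (perp L).zero_mem⟩
  smul_mem' := fun r _ h1 => ⟨L.smul_mem r h1.1, (perp L).smul_mem r h1.2⟩

lemma mem_dbl {L : Submodule B (κ → B)} {w : κ ⊕ κ → B} :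
    w ∈ dbl L ↔ (fun j => w (Sum.inl j)) ∈ L ∧ (fun j => w (Sum.inr j)) ∈ perp L := Iff.rfl

lemma dbl_le_iff {L L' : Submodule B (κ → B)} (h : dbl L ≤ dbl L') : L ≤ L' := by
  intro v hv
  have h1 : (Sum.elim v 0 : κ ⊕ κ → B) ∈ dbl L := ⟨hv, (perp L).zero_mem⟩
  exact (h h1).1

lemma dbl_injective {L L' : Submodule B (κ → B)} (h : dbl L = dbl L') : L = L' :=
  le_antisymm (dbl_le_iff h.le) (dbl_le_iff h.ge)

/-- the pairing with `L` -/
def pair (L : Submodule B (κ → B)) : (κ → B) →ₗ[B] (L →ₗ[B] B) where
  toFun f := { toFun := fun v => ∑ j, f j * v.1 j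
               map_add' := fun v w => by simp [mul_add, Finset.sum_add_distrib]
               map_smul' := fun r v => by
                simp only [SetLike.val_smul, Pi.smul_apply, smul_eq_mul, RingHom.id_apply, Finset.mul_sum]
                exact Finset.sum_congr rfl fun j _ => by ring }
  map_add' f g := by
    ext v
    simp [add_mul, Finset.sum_add_distrib]
  map_smul' r f := by
    ext v
    simp only [Pi.smul_apply, smul_eq_mul, RingHom.id_apply, LinearMap.coe_mk, AddHom.coe_mk,
      LinearMap.smul_apply, Finset.mul_sum]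
    exact Finset.sum_congr rfl fun j _ => by ring

lemma pair_apply (L : Submodule B (κ → B)) (f : κ → B) (v : L) : pair L f v = ∑ j, f j * v.1 j := rfl

lemma ker_pair (L : Submodule B (κ → B)) : LinearMap.ker (pair L) = perp L := by
  ext f
  rw [LinearMap.mem_ker, mem_perp]
  constructor
  · intro h v hv
    exact LinearMap.congr_fun h ⟨v, hv⟩
  · intro h
    ext v
    exact h v.1 v.2

section proj

variable (L : Submodule B (κ → B)) [Module.Projective B ((κ → B) ⧸ L)]

omit [Fintype κ] in
/-- a projection onto `L` -/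
lemma exists_proj : ∃ p : (κ → B) →ₗ[B] L, ∀ v : L, p v.1 = v := by
  obtain ⟨s, hs⟩ := Module.projective_lifting_property L.mkQ LinearMap.id L.mkQ_surjective
  let p₀ : (κ → B) →ₗ[B] (κ → B) := LinearMap.id - s ∘ₗ L.mkQ
  have h1 : ∀ v, p₀ v ∈ L := by
    intro v
    rw [← Submodule.Quotient.mk_eq_zero]
    change L.mkQ (p₀ v) = 0
    have h2 := LinearMap.congr_fun hs (L.mkQ v)
    rw [LinearMap.comp_apply, LinearMap.id_apply] at h2
    simp only [p₀, LinearMap.sub_apply, LinearMap.id_apply, LinearMap.comp_apply, map_sub, h2, sub_self]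
  refine ⟨p₀.codRestrict L h1, fun v => Subtype.ext ?_⟩
  have h2 : L.mkQ v.1 = 0 := (Submodule.Quotient.mk_eq_zero L).2 v.2
  simp only [LinearMap.codRestrict_apply, p₀, LinearMap.sub_apply, LinearMap.id_apply, LinearMap.comp_apply, h2,
    map_zero, sub_zero]

lemma finite_L : Module.Finite B L := by
  obtain ⟨p, hp⟩ := exists_proj L
  exact Module.Finite.of_surjective p fun v => ⟨v.1, hp v⟩

lemma projective_L : Module.Projective B L := by
  obtain ⟨p, hp⟩ := exists_proj L
  exact Module.Projective.of_split L.subtype p (LinearMap.ext fun v => hp v)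

lemma pair_surjective : Function.Surjective (pair L) := by
  classical
  intro l
  obtain ⟨p, hp⟩ := exists_proj L
  refine ⟨fun j => l (p (Pi.single j 1)), ?_⟩
  ext v
  rw [pair_apply]
  have h1 : v = ∑ j, v.1 j • p (Pi.single j 1) := by
    have h2 : v.1 = ∑ j, v.1 j • (Pi.single j 1 : κ → B) := by
      ext i
      rw [Finset.sum_apply]
      simp [Pi.single_apply]
    have h3 := hp v
    conv_rhs at h3 => rw [← h3]
    rw [h2] at h3
    simp only [map_sum, map_smul] at h3
    rw [← hp v]
    conv_lhs => rw [h2]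
    simp only [map_sum, map_smul]
    refine Finset.sum_congr rfl fun j _ => ?_
    rw [hp v]
  conv_rhs => rw [h1]
  rw [map_sum]
  refine Finset.sum_congr rfl fun j _ => ?_
  rw [map_smul, smul_eq_mul, mul_comm]

/-- the quotient by `dbl L` -/
noncomputable def quotDbl : ((κ ⊕ κ → B) ⧸ dbl L) ≃ₗ[B] (((κ → B) ⧸ L) × (L →ₗ[B] B)) := by
  let φ : (κ ⊕ κ → B) →ₗ[B] (((κ → B) ⧸ L) × (L →ₗ[B] B)) :=
    (L.mkQ ∘ₗ (LinearMap.funLeft B B Sum.inl)).prod (pair L ∘ₗ (LinearMap.funLeft B B Sum.inr))
  have hk : LinearMap.ker φ = dbl L := by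
    ext w
    rw [LinearMap.mem_ker, mem_dbl, ← ker_pair, LinearMap.mem_ker]
    change (L.mkQ (fun j => w (Sum.inl j)), pair L (fun j => w (Sum.inr j))) = (0, 0) ↔ _
    rw [Prod.mk.injEq, Submodule.mkQ_apply, Submodule.Quotient.mk_eq_zero]
  have hs : Function.Surjective φ := by
    rintro ⟨a, b⟩
    obtain ⟨v, rfl⟩ := L.mkQ_surjective a
    obtain ⟨f, rfl⟩ := pair_surjective L b
    exact ⟨Sum.elim v f, rfl⟩
  exact (Submodule.quotEquivOfEq _ _ hk.symm).trans (φ.quotKerEquivOfSurjective hs)

theorem isQuotRank_dbl : IsQuotRank (Fintype.card κ) (dbl L) := by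
  have h1 := finite_L L
  have h2 := projective_L L
  constructor
  · have h3 : Module.Projective B (L →ₗ[B] B) := inferInstanceAs (Module.Projective B (Module.Dual B L))
    exact Module.Projective.of_equiv (quotDbl L).symm
  · intro p
    have h3 : Module.Projective B (L →ₗ[B] B) := inferInstanceAs (Module.Projective B (Module.Dual B L))
    have h3' : Module.Finite B (L →ₗ[B] B) := inferInstanceAs (Module.Finite B (Module.Dual B L))
    rw [rankAtStalk_eq_of_equiv (quotDbl L), rankAtStalk_prod, Pi.add_apply, rank_dual]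
    have h4 : rankAtStalk (R := B) (κ → B) p = Fintype.card κ := by
      have hn : Nontrivial B := p.nontrivial
      rw [rankAtStalk_eq_finrank_of_free]
      simp
    obtain ⟨q, hq⟩ := exists_proj L
    have e : (κ → B) ≃ₗ[B] (((κ → B) ⧸ L) × L) := by
      refine LinearEquiv.ofBijective (L.mkQ.prod q) ⟨?_, ?_⟩
      · rw [injective_iff_map_eq_zero]
        intro v hv
        have h5 : L.mkQ v = 0 := congrArg Prod.fst hv
        have h6 : q v = 0 := congrArg Prod.snd hv
        have h7 : v ∈ L := (Submodule.Quotient.mk_eq_zero L).1 h5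
        have h8 := hq ⟨v, h7⟩
        rw [h6] at h8
        exact (congrArg Subtype.val h8).symm
      · rintro ⟨a, b⟩
        obtain ⟨v, rfl⟩ := L.mkQ_surjective a
        refine ⟨v - (q v).1 + b.1, ?_⟩
        change (L.mkQ _, q _) = _
        have h9 : ∀ w : L, L.mkQ w.1 = 0 := fun w => (Submodule.Quotient.mk_eq_zero L).2 w.2
        rw [map_add, map_sub, map_add, map_sub, hq, hq, h9, h9, sub_zero, add_zero, sub_self, zero_add]
    rw [← h4, rankAtStalk_eq_of_equiv e, rankAtStalk_prod, Pi.add_apply]

end proj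

theorem bc_dbl (L : Submodule B (κ → B)) [Module.Projective B ((κ → B) ⧸ L)] (φ : B →+* C)
    [Module.Projective C ((κ → C) ⧸ bc φ L)] : bc φ (dbl L) = dbl (bc φ L) := by
  have hle : bc φ (dbl L) ≤ dbl (bc φ L) := by
    rw [bc_le_iff]
    rintro w ⟨h1, h2⟩
    refine ⟨mem_bc_of_mem φ h1, ?_⟩
    intro v hv
    induction hv using Submodule.span_induction with
    | mem v h =>
      obtain ⟨v, hv, rfl⟩ := h
      have h3 := congrArg φ (h2 v hv)
      simpa using h3
    | zero => simp
    | add a b _ _ ha hb => simp only [Pi.add_apply, mul_add, Finset.sum_add_distrib, ha, hb, add_zero]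
    | smul r a _ ha =>
      have : ∀ j, φ (w (Sum.inr j)) * (r • a) j = r * (φ (w (Sum.inr j)) * a j) := fun j => by
        simp only [Pi.smul_apply, smul_eq_mul]; ring
      simp only [this, ← Finset.mul_sum, ha, mul_zero]
  have h1 := (isQuotRank_dbl L).bc φ
  have h2 := isQuotRank_dbl (bc φ L)
  apply le_antisymm hle
  have := h1.proj
  have := h2.proj
  let q : ((κ ⊕ κ → C) ⧸ bc φ (dbl L)) →ₗ[C] ((κ ⊕ κ → C) ⧸ dbl (bc φ L)) := Submodule.factor hle
  have hq : Function.Surjective q := Submodule.factor_surjective hle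
  have hb := Module.bijective_of_surjective_of_rankAtStalk_eq hq (fun m _ => by
    rw [h1.rank, h2.rank])
  intro w hw
  rw [← Submodule.Quotient.mk_eq_zero]
  apply hb.1
  rw [map_zero]
  change Submodule.Quotient.mk w = 0
  rwa [Submodule.Quotient.mk_eq_zero]

end K194.Perp
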