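import Groth.Agent.RedSub.K194.InfGen
import Groth.Agent.RedSub.K194.Perp

/-!
# The map to the Grassmannian given by the infinitesimal neighbourhoods of order `k` of subgroups
-/

set_option autoImplicit false

open CategoryTheory Limits MonoidalCategory CartesianMonoidalCategory MonObj GrpObj AlgebraicGeometry TensorProduct

universe u

namespace K194.InfK

open Groth.Agent.RedSub.H672 Groth.Agent.RedSub.H672.InfNorm Groth.Agent.RedSub.H647.SubPt
  Groth.Agent.Sga3B Groth.Agent.Sga3B.MT Groth.Agent.Sga3B.BcPts Groth.Agent.Fga.GrassBasic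
  Groth.Agent.Sga3B.PinMod Groth.Agent.Fga.RingFunBasic Groth.Agent.Fga.RingFunRep Groth.Agent.Fga.Grass K194.Perp

section alg

variable {B : Type u} [CommRing B] {ξ : Type*} [Finite ξ] {n : ℕ} (f : Fin n → B)
  (hf : Ideal.span (Set.range f) = ⊤)

include hf in
/-- projectivity of the quotient is local -/
theorem projective_of_forall_away (L : Submodule B (ξ → B))
    (h : ∀ i, Module.Projective (Localization.Away (f i)) ((ξ → Localization.Away (f i)) ⧸ bcAway (f i) L)) :
    Module.Projective B ((ξ → B) ⧸ L) := by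
  have h1 : ∀ g ∈ Set.range f, Module.Projective (Localization.Away g) ((ξ → Localization.Away g) ⧸ bcAway g L) := by
    rintro _ ⟨i, rfl⟩
    exact h i
  have hflat : Module.Flat B ((ξ → B) ⧸ L) := by
    apply Module.flat_of_isLocalized_span (S := B) (M := (ξ → B) ⧸ L) (Set.range f) hf
      (Mₛ := fun g => (ξ → Localization.Away g.1) ⧸ bcAway g.1 L) (fun g => qmap g.1 L)
    intro g
    have := h1 g.1 g.2
    have : Module.Flat (Localization.Away g.1) ((ξ → Localization.Away g.1) ⧸ bcAway g.1 L) := inferInstance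
    exact Module.Flat.trans B (Localization.Away g.1) _
  have hfp : Module.FinitePresentation B ((ξ → B) ⧸ L) := by
    apply Module.FinitePresentation.of_localizationSpan' (Set.range f) hf
      (Rₚ := fun g => Localization.Away g.1)
      (Mₚ := fun g => (ξ → Localization.Away g.1) ⧸ bcAway g.1 L) (fun g => qmap g.1 L)
    intro g
    have := h1 g.1 g.2
    exact Module.finitePresentation_of_projective _ _
  exact Module.Flat.projective_of_finitePresentation

/-- base change of a projective quotient -/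
theorem projective_bc {C : Type u} [CommRing C] (φ : B →+* C) (L : Submodule B (ξ → B))
    [Module.Projective B ((ξ → B) ⧸ L)] : Module.Projective C ((ξ → C) ⧸ bc φ L) := by
  let _ := φ.toAlgebra
  have h := isBaseChange_quotMap (C := C) _ (isBaseChange_piMap B C ξ) L
  exact Module.Projective.of_equiv h.equiv

omit [Finite ξ] in
include hf in
lemma zero_of_away (x : B) (h : ∀ i, algebraMap B (Localization.Away (f i)) x = 0) : x = 0 := by
  have h1 : x ∈ (⊥ : Submodule B B) := by
    apply Submodule.mem_of_span_eq_top_of_smul_pow_mem ⊥ (Set.range f) hf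
    rintro ⟨_, i, rfl⟩
    obtain ⟨⟨_, m, rfl⟩, hm⟩ := (IsLocalization.map_eq_zero_iff (Submonoid.powers (f i)) _ x).1 (h i)
    exact ⟨m, hm⟩
  exact h1

end alg

variable {S : Scheme.{u}} {G : Over S} [GrpObj G] {κ : Type} [Fintype κ]
  {T : Scheme.{u}} {f : T ⟶ S} {H : Over T} {h : H ⟶ Red.bc f G} {k : ℕ} {e : κ → Γ(G.left, ⊤)}

/-- The module `K` has a projective quotient and its formation commutes with base change. -/
def GoodPt (k : ℕ) (e : κ → Γ(G.left, ⊤)) (h : H ⟶ Red.bc f G) {C : CommRingCat.{u}} (c : Spec C ⟶ T) : Prop :=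
  Module.Projective C ((κ → C) ⧸ K k e h c) ∧
    ∀ (C' : CommRingCat.{u}) (ψ : C ⟶ C'), K k e h (Spec.map ψ ≫ c) = bc ψ.hom (K k e h c)

lemma GoodPt.comp {C : CommRingCat.{u}} {c : Spec C ⟶ T} (hc : GoodPt k e h c) {C' : CommRingCat.{u}} (ψ : C ⟶ C') :
    GoodPt k e h (Spec.map ψ ≫ c) := by
  constructor
  · rw [hc.2]
    have := hc.1
    exact projective_bc ψ.hom _
  · intro D φ
    rw [hc.2 C' ψ, ← Category.assoc, ← Spec.map_comp, hc.2, CommRingCat.hom_comp, bc_comp]

/-- Membership in `K` is local. -/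
lemma mem_K_of_away {C : CommRingCat.{u}} (c : Spec C ⟶ T) {n : ℕ} (g : Fin n → C)
    (hg : Ideal.span (Set.range g) = ⊤) (v : κ → C)
    (hv : ∀ i, (fun j => (toAway C (g i)).hom (v j)) ∈ K k e h (Spec.map (toAway C (g i)) ≫ c)) : v ∈ K k e h c := by
  intro Q ψ γ hp hi
  have hspan : Ideal.span (Set.range fun i => ψ.hom (g i)) = ⊤ := by
    have h1 := congrArg (Ideal.map ψ.hom) hg
    rw [Ideal.map_span, Ideal.map_top, ← Set.range_comp] at h1
    exact h1
  refine zero_of_away _ hspan _ fun i => ?_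
  have e1 : toAway C (g i) ≫ awayMap ψ (g i) = ψ ≫ toAway Q (ψ.hom (g i)) := toAway_awayMap ψ (g i)
  have h1 := hv i _ (awayMap ψ (g i)) (Spec.map (toAway Q (ψ.hom (g i))) ≫ γ) (by
    rw [← Category.assoc, ← Spec.map_comp, e1, Spec.map_comp, Category.assoc]
    exact hp.comp _) (hi.comp _)
  have h2 : ∀ x : C, (awayMap ψ (g i)).hom ((toAway C (g i)).hom x) = (toAway Q (ψ.hom (g i))).hom (ψ.hom x) := by
    intro x
    exact congrArg (fun z => CommRingCat.Hom.hom z x) e1
  have h3 : algebraMap Q (Localization.Away (ψ.hom (g i))) (∑ j, ψ.hom (v j) * ev γ (e j)) =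
      ∑ j, (awayMap ψ (g i)).hom ((toAway C (g i)).hom (v j)) *
        ev (Spec.map (toAway Q (ψ.hom (g i))) ≫ γ) (e j) := by
    rw [map_sum]
    refine Finset.sum_congr rfl fun j _ => ?_
    rw [map_mul, h2, ev_comp]
    rfl
  rw [h3]
  exact h1

lemma K_eq_glue {C : CommRingCat.{u}} (c : Spec C ⟶ T) {n : ℕ} (g : Fin n → C)
    (hg : Ideal.span (Set.range g) = ⊤) :
    K k e h c = glueSub g (fun i => K k e h (Spec.map (toAway C (g i)) ≫ c)) := by
  ext v
  rw [mem_glueSub]
  constructor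
  · intro hv i
    exact map_mem_K (toAway C (g i)) hv
  · intro hv
    exact mem_K_of_away c g hg v hv

lemma bcAway_K {C : CommRingCat.{u}} (c : Spec C ⟶ T) {n : ℕ} (g : Fin n → C)
    (hg : Ideal.span (Set.range g) = ⊤) (hc : ∀ i, GoodPt k e h (Spec.map (toAway C (g i)) ≫ c)) (i : Fin n) :
    bcAway (g i) (K k e h c) = K k e h (Spec.map (toAway C (g i)) ≫ c) := by
  rw [K_eq_glue c g hg]
  refine bcAway_glueSub g _ ?_ i
  intro i j D _ a b hab
  have h1 := (hc i).2 (CommRingCat.of D) (CommRingCat.ofHom a)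
  have h2 := (hc j).2 (CommRingCat.of D) (CommRingCat.ofHom b)
  have e1 : toAway C (g i) ≫ CommRingCat.ofHom a = toAway C (g j) ≫ CommRingCat.ofHom b :=
    CommRingCat.hom_ext hab
  rw [← Category.assoc, ← Spec.map_comp] at h1 h2
  rw [e1, h2] at h1
  exact h1.symm

/-- Being good is local. -/
theorem GoodPt.of_away {C : CommRingCat.{u}} (c : Spec C ⟶ T) {n : ℕ} (g : Fin n → C)
    (hg : Ideal.span (Set.range g) = ⊤) (hc : ∀ i, GoodPt k e h (Spec.map (toAway C (g i)) ≫ c)) :
    GoodPt k e h c := by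
  constructor
  · apply projective_of_forall_away g hg
    intro i
    rw [bcAway_K c g hg hc i]
    exact (hc i).1
  · intro D ψ
    have hspan : Ideal.span (Set.range fun i => ψ.hom (g i)) = ⊤ := by
      have h1 := congrArg (Ideal.map ψ.hom) hg
      rw [Ideal.map_span, Ideal.map_top, ← Set.range_comp] at h1
      exact h1
    have e1 : ∀ i, toAway C (g i) ≫ awayMap ψ (g i) = ψ ≫ toAway D (ψ.hom (g i)) := fun i => toAway_awayMap ψ (g i)
    have e2 : ∀ i, Spec.map (toAway D (ψ.hom (g i))) ≫ Spec.map ψ ≫ c =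
        Spec.map (awayMap ψ (g i)) ≫ Spec.map (toAway C (g i)) ≫ c := by
      intro i
      rw [← Category.assoc, ← Spec.map_comp, ← e1, Spec.map_comp, Category.assoc]
    have hD : ∀ i, GoodPt k e h (Spec.map (toAway D (ψ.hom (g i))) ≫ Spec.map ψ ≫ c) := by
      intro i
      rw [e2]
      exact (hc i).comp _
    apply eq_of_forall_away _ hspan
    intro i
    rw [bcAway_K (Spec.map ψ ≫ c) _ hspan hD i, e2, (hc i).2, ← bcAway_K c g hg hc i]
    change bc _ (bc _ _) = bc _ (bc _ _)
    rw [← bc_comp, ← bc_comp]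
    congr 1
    exact congrArg CommRingCat.Hom.hom (e1 i)

theorem goodPt [IsAffine G.left] (he : Gen G k e) (hk : k ≠ 0) [GrpObj H] [IsMonHom h] [Mono h] [Smooth H.hom] {C : CommRingCat.{u}} (c : Spec C ⟶ T) :
    GoodPt k e h c := by
  have hd := fun x => exists_ud h x
  choose V hV hx hd using hd
  have hcov : TopologicalSpace.IsOpenCover V :=
    TopologicalSpace.IsOpenCover.mk (top_le_iff.1 fun x _ => TopologicalSpace.Opens.mem_iSup.2 ⟨x, hx x⟩)
  obtain ⟨n, g, hg, hg'⟩ := exists_refine c (T.openCoverOfIsOpenCover V hcov)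
  apply GoodPt.of_away c g hg
  intro i
  obtain ⟨x, y, hy⟩ := hg' i
  obtain ⟨d⟩ := hd x k hk
  have e1 : (hV x).isoSpec.hom ≫ (hV x).fromSpec = (V x).ι := by
    rw [← IsAffineOpen.isoSpec_inv_ι, Iso.hom_inv_id_assoc]
  obtain ⟨ψ, hψ⟩ := Spec.map_surjective (y ≫ (hV x).isoSpec.hom)
  have e2 : Spec.map ψ ≫ (hV x).fromSpec = Spec.map (toAway C (g i)) ≫ c := by
    rw [hψ, Category.assoc]
    exact (congrArg (y ≫ ·) e1).trans hy
  rw [← e2]
  exact GoodPt.comp ⟨projective_K he d, fun C' ψ => K_bc he d ψ⟩ ψ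

/-- The family of points of the Grassmannian. -/
noncomputable def fam (hgood : ∀ {C : CommRingCat.{u}} (c : Spec C ⟶ T), GoodPt k e h c) [DecidableEq κ] :
    Fam (grFun.{u} (κ ⊕ κ) (Fintype.card κ)) T where
  q c := ⟨dbl (K k e h c), have := (hgood c).1; isQuotRank_dbl _⟩
  nat φ c := by
    apply Subtype.ext
    change dbl (K k e h (Spec.map φ ≫ c)) = bc φ.hom (dbl (K k e h c))
    have h1 := (hgood c).1
    have h2 := projective_bc φ.hom (K k e h c)
    rw [(hgood c).2, bc_dbl]

/-- **The morphism to the Grassmannian** given by a subgroup. -/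
theorem exists_map (hgood : ∀ {C : CommRingCat.{u}} (c : Spec C ⟶ T), GoodPt k e h c) [DecidableEq κ]
    {P : Scheme.{u}} (r : Rep (grFun.{u} (κ ⊕ κ) (Fintype.card κ)) P) :
    ∃! t : T ⟶ P, ∀ (C : CommRingCat.{u}) (c : Spec C ⟶ T), (r.e C (c ≫ t)).1 = dbl (K k e h c) := by
  obtain ⟨t, ht⟩ := r.fam_surjective (fam hgood)
  refine ⟨t, fun C c => ?_, fun t' ht' => ?_⟩
  · have h1 := congrArg (fun z : Fam (grFun.{u} (κ ⊕ κ) (Fintype.card κ)) T => (Fam.q z c).1) ht
    exact h1
  · apply r.fam_injective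
    rw [ht]
    ext C c
    exact Subtype.ext (ht' C c)

end K194.InfK
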