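import Groth.Agent.RedSub.K194.MdPt
import Groth.Agent.RedSub.H641.TypeRBc
import Groth.Agent.S0351

/-!
# fpqc descent of subgroups of type (R) containing the torus of a splitting
-/

set_option autoImplicit false
universe u

open CategoryTheory MonoidalCategory CartesianMonoidalCategory MonObj GrpObj AlgebraicGeometry Limits Opposite

namespace K194.MdDesc

open Groth.Agent Groth.Agent.Sga3B Groth.Agent.Sga3B.SplitBc264 Groth.Agent.RedSub.H635.Uniq
  Groth.Agent.RedSub.H647.SubPt Groth.Agent.RedSub.H647.SubF Groth.Agent.RedSub.H647.QCov Groth.Agent.Sga3B.MT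
  K194.MdPt

/-- the class of all closed subgroups -/
def clC {S : Scheme.{u}} (G : Over S) [GrpObj G] : SubClass G where
  Q _ _ _ h := IsMonHom h ∧ IsClosedImmersion h.left
  isMonHom h := h.1
  isClosedImmersion h := h.2
  of_iso {S' f H H' _ _ h h'} e he hh := by
    have h1 := hh.1
    have h2 := hh.2
    have e1 : h' = e.inv.hom.hom ≫ h := by
      rw [← he, ← Category.assoc]
      have : e.inv.hom.hom ≫ e.hom.hom.hom = 𝟙 _ := congrArg (fun z => z.hom.hom) e.inv_hom_id
      rw [this, Category.id_comp]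
    have h3 : IsIso e.inv.hom.hom.left :=
      (Over.forget _).map_isIso ((Grp.forget _).map e.inv)
    rw [e1]
    refine ⟨inferInstance, ?_⟩
    rw [Over.comp_left]
    infer_instance
  bc q _ _ _ _ hh := by
    have h1 := hh.1
    have h2 := hh.2
    exact ⟨isMonHom_bcSub q _, isClosedImmersion_bcSub q _⟩

lemma clC_isLocal {S : Scheme.{u}} (G : Over S) [GrpObj G]
    (C : ∀ {J : Type u} {Y : Scheme.{u}} {Y' : J → Scheme.{u}}, (∀ i, Y' i ⟶ Y) → Prop) : (clC G).IsLocal C :=
  fun _ _ _ _ _ _ _ h h1 h2 _ => ⟨h1, h2⟩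

section desc

variable {S S' S'' : Scheme.{u}} {G : Over S} [GrpObj G]

lemma isQCov_single (q : S'' ⟶ S') [Flat q] [Surjective q] [QuasiCompact q] :
    IsQCov (fun _ : PUnit.{u + 1} => q) := by
  intro y
  exact ⟨PUnit.unit, S', S'', 𝟙 _, 𝟙 _, q, inferInstance, ⟨y, rfl⟩, inferInstance, inferInstance, inferInstance,
    by rw [Category.id_comp, Category.comp_id]⟩

/-- fpqc descent of closed subgroups -/
theorem exists_closed_desc (q : S'' ⟶ S') [Flat q] [Surjective q] [QuasiCompact q] (f : S' ⟶ S) {H : Over S''}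
    [GrpObj H] (h : H ⟶ Red.bc (q ≫ f) G) [IsMonHom h] [IsClosedImmersion h.left]
    (hd : ∀ (R : Scheme.{u}) (a b : R ⟶ S''), a ≫ q = b ≫ q → ∀ (X : Scheme.{u}) (y : X ⟶ R) (c : X ⟶ G.left),
      Pt h (y ≫ a) c ↔ Pt h (y ≫ b) c) :
    ∃ (H' : Over S') (_ : GrpObj H') (h' : H' ⟶ Red.bc f G), IsMonHom h' ∧ IsClosedImmersion h'.left ∧
      ∀ (X : Scheme.{u}) (y : X ⟶ S'') (c : X ⟶ G.left), Pt h y c ↔ Pt h' (y ≫ q) c := by
  have hQ : (clC G).Q (Over.mk (q ≫ f)).hom h := ⟨inferInstance, inferInstance⟩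
  obtain ⟨y, hy, -⟩ := (clC G).existsUnique_subsF (clC_isLocal G (fun {_ _ _} _ => True)) (T := Over.mk f)
    (J := PUnit.{u + 1}) (fun _ => Over.mk (q ≫ f)) (fun _ => Over.homMk q) trivial (isQCov_single q)
    (fun _ => (clC G).ofSub hQ) (by
      intro _ _ R a b hab
      obtain ⟨K, _, k, hk, e⟩ := (clC G).exists_ofSub ((clC G).subsF.map a.op ((clC G).ofSub hQ))
      rw [← e]
      symm
      rw [SubClass.map_ofSub_eq_iff]
      have e' := ((clC G).map_ofSub_eq_iff _ _ _).1 e.symm
      intro X y c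
      rw [e']
      exact hd R.left a.left b.left (congrArg CommaMorphism.left hab) X y c)
  obtain ⟨H', _, h', hQ', e⟩ := (clC G).exists_ofSub y
  have h1 := hy PUnit.unit
  dsimp only at h1
  rw [← e, SubClass.map_ofSub_eq_iff] at h1
  exact ⟨H', inferInstance, h', hQ'.1, hQ'.2, h1⟩

variable {D : Red.SplitRed G} {R' : Set D.idx}

/-- uniqueness over equal base points -/
lemma same_of_eq {f₁ f₂ : S' ⟶ S} (hf : f₁ = f₂) {H₁ H₂ : Over S'} [GrpObj H₁] [GrpObj H₂]
    {h₁ : H₁ ⟶ Red.bc f₁ G} {h₂ : H₂ ⟶ Red.bc f₂ G} (hM₁ : Md D R' h₁) (hM₂ : Md D R' h₂) (X : Scheme.{u})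
    (y : X ⟶ S') (c : X ⟶ G.left) : Pt h₁ y c ↔ Pt h₂ y c := by
  subst hf
  exact hM₁.same hM₂ X y c

/-- **fpqc descent of subgroups of type (R) with given roots.** -/
theorem exists_desc (q : S'' ⟶ S') [Flat q] [Surjective q] [QuasiCompact q] (f : S' ⟶ S) {H : Over S''}
    [GrpObj H] {h : H ⟶ Red.bc (q ≫ f) G} (hM : Md D R' h) (hcl : IsClosedImmersion h.left) :
    ∃ (H' : Over S') (_ : GrpObj H') (h' : H' ⟶ Red.bc f G), Md D R' h' ∧ IsClosedImmersion h'.left := by
  have m1 := hM.typeR.1.1
  obtain ⟨H', _, h', m2, hcl', e⟩ := exists_closed_desc q f h (by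
    intro R a b hab X y c
    have h1 : a ≫ q ≫ f = b ≫ q ≫ f := by rw [← Category.assoc, hab, Category.assoc]
    have h2 := same_of_eq h1 (hM.bcSub a) (hM.bcSub b) X y c
    rw [pt_bcSub, pt_bcSub] at h2
    exact h2)
  have hmono : Mono h' := Over.mono_of_mono_left h'
  have hmono2 : Mono h := by
    have := hM.typeR.1.2
    exact Over.mono_of_mono_left h
  -- the base change of `h'` is `h`
  have hbm : IsMonHom (bcSub q h') := isMonHom_bcSub q h'
  have hbc : IsClosedImmersion (bcSub q h').left := isClosedImmersion_bcSub q h'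
  have hbmo : Mono (bcSub q h') := Over.mono_of_mono_left _
  obtain ⟨i, hi⟩ := exists_grpIso_of_pt (bcSub q h') h (fun X y c => by rw [pt_bcSub, e])
  have hw : i.hom.hom.hom.left ≫ H.hom = (Red.bc q H').hom := Over.w i.hom.hom.hom
  have hii : IsIso i.hom.hom.hom.left := (Over.forget _).map_isIso ((Grp.forget _).map i.hom)
  have hs : Smooth H'.hom := by
    have h1 : Smooth (pullback.snd H'.hom q) := by
      have h2 := hM.typeR.2.1
      have h3 : Smooth (Red.bc q H').hom := by
        rw [← hw]
        infer_instance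
      exact h3
    exact MorphismProperty.of_pullback_snd_of_descendsAlong (P := @Smooth)
      (Q := @Surjective ⊓ @Flat ⊓ @QuasiCompact) (f := H'.hom) (g := q) ⟨⟨inferInstance, inferInstance⟩, inferInstance⟩ h1
  have hGr := D.reductive
  have hGf : Red.IsReductive (Red.bc f G) := RedBcAny636.isReductive_bc f hGr
  have hGa : IsAffineHom (Red.bc f G).hom := hGf.1
  have hqc : QuasiCompact H'.hom := by
    rw [← Over.w h']
    infer_instance
  have hconn : RedSub.HasConnectedFibres H' := by
    intro s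
    obtain ⟨s', rfl⟩ := q.surjective s
    have h1 := hM.typeR.2.2.2.1 s'
    have h2 : H'.hom.base ⁻¹' {q s'} =
        (i.inv.hom.hom.left ≫ pullback.fst H'.hom q).base '' (H.hom.base ⁻¹' {s'}) := by
      ext y
      constructor
      · intro hy
        obtain ⟨z, hz1, hz2⟩ := Scheme.Pullback.exists_preimage_pullback (f := H'.hom) (g := q) y s' hy
        refine ⟨i.hom.hom.hom.left z, ?_, ?_⟩
        · change H.hom (i.hom.hom.hom.left z) = s'
          rw [← Scheme.Hom.comp_apply, hw]
          exact hz2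
        · have h4 : i.hom.hom.hom.left ≫ i.inv.hom.hom.left = 𝟙 _ := by
            rw [← Over.comp_left]
            have := congrArg (fun z => z.hom.hom.left) i.hom_inv_id
            exact this
          have h5 : (i.inv.hom.hom.left ≫ pullback.fst H'.hom q) (i.hom.hom.hom.left z) = y := by
            rw [← Scheme.Hom.comp_apply, ← Category.assoc, h4, Category.id_comp]
            exact hz1
          exact h5
      · rintro ⟨z, hz, rfl⟩
        have h3 : H.hom z = s' := hz
        have h4 : (i.inv.hom.hom.left ≫ pullback.fst H'.hom q) ≫ H'.hom = H.hom ≫ q := by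
          rw [Category.assoc, pullback.condition, ← Category.assoc]
          congr 1
          exact Over.w i.inv.hom.hom
        change H'.hom ((i.inv.hom.hom.left ≫ pullback.fst H'.hom q) z) = q s'
        rw [← h3, ← Scheme.Hom.comp_apply, h4]
        rfl
    rw [h2]
    exact h1.image _ (i.inv.hom.hom.left ≫ pullback.fst H'.hom q).continuous.continuousOn
  have htor : Tor D h' := by
    rw [← tor_iff]
    have htor1 : Pt h' (pullback.snd D.T.hom (q ≫ f) ≫ q) (pullback.fst D.T.hom (q ≫ f) ≫ D.i.left) :=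
      (e _ _ _).1 hM.tor
    let π : pullback D.T.hom (q ≫ f) ⟶ pullback D.T.hom f :=
      pullback.lift (pullback.fst D.T.hom (q ≫ f)) (pullback.snd D.T.hom (q ≫ f) ≫ q) (by
        rw [pullback.condition, Category.assoc])
    have hsq : IsPullback π (pullback.snd D.T.hom (q ≫ f)) (pullback.snd D.T.hom f) q := by
      refine IsPullback.of_right (h₁₂ := pullback.fst D.T.hom f) (v₁₃ := D.T.hom) (h₂₂ := f) ?_ ?_
        (IsPullback.of_hasPullback _ _)
      · have h1 : π ≫ pullback.fst D.T.hom f = pullback.fst D.T.hom (q ≫ f) := pullback.lift_fst _ _ _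
        rw [h1]
        exact IsPullback.of_hasPullback _ _
      · exact pullback.lift_snd _ _ _
    have f1 : Flat π := MorphismProperty.of_isPullback (P := @Flat) hsq.flip inferInstance
    have f2 : Surjective π := MorphismProperty.of_isPullback (P := @Surjective) hsq.flip inferInstance
    have f3 : QuasiCompact π := MorphismProperty.of_isPullback (P := @QuasiCompact) hsq.flip inferInstance
    obtain ⟨z, hz⟩ := K195.Le.exists_fac_of_fpqc π (splitBc f D).i.left h'.left (by
      obtain ⟨p, hp1, hp2⟩ := htor1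
      refine ⟨p, ?_⟩
      apply pullback.hom_ext
      · rw [Category.assoc, hp2, Category.assoc]
        have h2 : (splitBc f D).i.left ≫ pullback.fst G.hom f = pullback.fst D.T.hom f ≫ D.i.left :=
          pullback.lift_fst _ _ _
        refine Eq.trans ?_ (congrArg (π ≫ ·) h2).symm
        rw [← Category.assoc]
        congr 1
        exact (pullback.lift_fst _ _ _).symm
      · rw [Category.assoc, Category.assoc]
        have h2 : (splitBc f D).i.left ≫ pullback.snd G.hom f = pullback.snd D.T.hom f := pullback.lift_snd _ _ _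
        refine Eq.trans ?_ (congrArg (π ≫ ·) h2).symm
        rw [left_snd, hp1]
        exact (pullback.lift_snd _ _ _).symm)
    refine ⟨Over.homMk z ?_, Over.OverMorphism.ext hz⟩
    rw [← left_snd h', ← Category.assoc]
    exact (congrArg (· ≫ pullback.snd G.hom f) hz).trans (pullback.lift_snd _ _ _)
  obtain ⟨t, ht⟩ := (tor_iff D h').2 htor
  have hR : RedSub.IsTypeR h' :=
    RedSub.H641.TypeRBc.isTypeR_of_torus hGf ⟨m2, inferInstance⟩ hs hqc hconn t
      (by rw [ht]; exact (splitBc f D).maximalTorus)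
  refine ⟨H', inferInstance, h', ⟨hR, htor, fun a ha => ?_, fun a ha => ?_⟩, hcl'⟩
  · rw [Set.eq_univ_iff_forall]
    intro σ
    obtain ⟨σ', rfl⟩ := q.surjective σ
    rw [← mem_E_pull D q rfl h' h e, hM.mem a ha]
    trivial
  · rw [Set.eq_empty_iff_forall_notMem]
    intro σ
    obtain ⟨σ', rfl⟩ := q.surjective σ
    rw [← mem_E_pull D q rfl h' h e, hM.nmem a ha]
    exact fun hh => hh

end desc

end K194.MdDesc
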