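import Groth.Agent.RedSub.K195.Le
import Groth.Agent.RedSub.K199.TypeRPull
import Groth.Agent.RedSub.H647.SubF

/-!
# Subgroups of type (R) of the base changes of a split group, containing the torus, with a given set of roots
-/

set_option autoImplicit false
universe u

open CategoryTheory MonoidalCategory CartesianMonoidalCategory MonObj GrpObj AlgebraicGeometry Limits

namespace K194.MdPt

open Groth.Agent Groth.Agent.Sga3B Groth.Agent.Sga3B.Cell Groth.Agent.Sga3B.PinMod Groth.Agent.Sga3B.DSPts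
  Groth.Agent.Sga3B.GaPts Groth.Agent.Sga3B.BcPts Groth.Agent.Sga3B.SplitBc264 Groth.Agent.RedSub.H635.Uniq
  Groth.Agent.RedSub.H647.SubPt Groth.Agent.Sga3B.MT K195.Tang

variable {S S' S'' : Scheme.{u}} {G : Over S}

/-- factorisation of a point of `G_{S'}` through a subgroup -/
lemma exists_fac_iff {f : S' ⟶ S} {H : Over S'} (h : H ⟶ Red.bc f G) {T : Over S'} (w : T ⟶ Red.bc f G) :
    (∃ v : T ⟶ H, v ≫ h = w) ↔ Pt h T.hom (w.left ≫ pullback.fst G.hom f) := by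
  constructor
  · rintro ⟨v, rfl⟩
    exact ⟨v.left, Over.w v, by rw [Over.comp_left, Category.assoc]⟩
  · rintro ⟨p, hp1, hp2⟩
    refine ⟨Over.homMk p hp1, ?_⟩
    apply Over.OverMorphism.ext
    apply pullback.hom_ext
    · rw [Over.comp_left, Category.assoc]
      exact hp2
    · exact (Over.w (Over.homMk p hp1 ≫ h)).trans (Over.w w).symm

lemma symm_left (f : S' ⟶ S) {T : Over S'} (w : T ⟶ Red.bc f G) :
    ((BcPts.bcEquiv f T G).symm w).left = w.left ≫ pullback.fst G.hom f := by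
  change (((Over.mapPullbackAdj f).homEquiv T G).symm w).left = _
  rw [Adjunction.homEquiv_counit]
  rfl

variable [GrpObj G] (D : Red.SplitRed G)

/-- the tangent vector of `u_a` at a point -/
noncomputable def tv (a : D.idx) {K : Type u} [Field K] (z : Spec (CommRingCat.of K) ⟶ S) :
    Spec (CommRingCat.of (TrivSqZeroExt K K)) ⟶ G.left :=
  (gaPt (tB z (TrivSqZeroExt K K)) (fnOf z (TrivSqZeroExt.inr 1)) ≫ D.u a).left

/-- the structure morphism of the dual numbers -/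
noncomputable abbrev dn (K : Type u) [Field K] :
    Spec (CommRingCat.of (TrivSqZeroExt K K)) ⟶ Spec (CommRingCat.of K) :=
  Spec.map (CommRingCat.ofHom (algebraMap K (TrivSqZeroExt K K)))

lemma tg_iff_pt (f : S' ⟶ S) {H : Over S'} [GrpObj H] (h : H ⟶ Red.bc f G) (a : D.idx)
    {K : Type u} [Field K] (x : Spec (CommRingCat.of K) ⟶ S') :
    Tg (splitBc f D) h a K x ↔ Pt h (dn K ≫ x) (tv D a (x ≫ f)) := by
  unfold Tg
  rw [exists_fac_iff, ← symm_left]
  have h1 := symm_gaPt_u f D a (T := tB x (TrivSqZeroExt K K)) (fnOf x (TrivSqZeroExt.inr 1))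
  rw [h1]
  let ε := tIso f (B := TrivSqZeroExt K K) x
  have h2 : ε.hom ≫ gaPt (tB (x ≫ f) (TrivSqZeroExt K K)) (fnOf (x ≫ f) (TrivSqZeroExt.inr 1)) =
      gaPt ((Over.map f).obj (tB x (TrivSqZeroExt K K))) (fnOf x (TrivSqZeroExt.inr 1)) := by
    rw [comp_gaPt]
    rfl
  rw [← h2, Category.assoc, Over.comp_left]
  have h3 : ε.hom.left = 𝟙 _ := rfl
  rw [h3, Category.id_comp]
  exact Iff.rfl

/-- the tangency locus in terms of points -/
lemma mem_E_iff_pt (f : S' ⟶ S) {H : Over S'} [GrpObj H] (h : H ⟶ Red.bc f G) (a : D.idx) (σ : S') :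
    σ ∈ E (splitBc f D) h a ↔ ∃ (K : Type u) (_ : Field K) (x : Spec (CommRingCat.of K) ⟶ S'),
      (∃ p, x p = σ) ∧ Pt h (dn K ≫ x) (tv D a (x ≫ f)) := by
  constructor
  · rintro ⟨K, _, x, hp, hx⟩
    exact ⟨K, inferInstance, x, hp, (tg_iff_pt D f h a x).1 hx⟩
  · rintro ⟨K, _, x, hp, hx⟩
    exact ⟨K, inferInstance, x, hp, (tg_iff_pt D f h a x).2 hx⟩

/-- The tangency locus only depends on the points. -/
lemma E_congr {f : S' ⟶ S} {H H' : Over S'} [GrpObj H] [GrpObj H'] {h : H ⟶ Red.bc f G} {h' : H' ⟶ Red.bc f G}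
    (e : ∀ (X : Scheme.{u}) (y : X ⟶ S') (c : X ⟶ G.left), Pt h y c ↔ Pt h' y c) (a : D.idx) :
    E (splitBc f D) h a = E (splitBc f D) h' a := by
  ext σ
  rw [mem_E_iff_pt, mem_E_iff_pt]
  simp only [e]

/-- The tangency locus of a pull back. -/
lemma mem_E_pull (q : S'' ⟶ S') {f : S' ⟶ S} {f' : S'' ⟶ S} (hf : q ≫ f = f') {H : Over S'} [GrpObj H]
    {H' : Over S''} [GrpObj H'] (h : H ⟶ Red.bc f G) (h' : H' ⟶ Red.bc f' G)
    (e : ∀ (X : Scheme.{u}) (y : X ⟶ S'') (c : X ⟶ G.left), Pt h' y c ↔ Pt h (y ≫ q) c) (a : D.idx) (σ : S'') :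
    σ ∈ E (splitBc f' D) h' a ↔ q σ ∈ E (splitBc f D) h a := by
  subst hf
  rw [← mem_E_bc_iff q (splitBc f D) h a σ]
  have key : ∀ (K : Type u) [Field K] (x : Spec (CommRingCat.of K) ⟶ S''),
      Tg (splitBc (q ≫ f) D) h' a K x ↔ Tg (splitBc q (splitBc f D)) ((Over.pullback q).map h) a K x := by
    intro K _ x
    rw [tg_iff_pt, tg_bc_iff, tg_iff_pt, e, Category.assoc, Category.assoc]
  constructor
  · rintro ⟨K, _, x, hp, hx⟩
    exact ⟨K, inferInstance, x, hp, (key K x).1 hx⟩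
  · rintro ⟨K, _, x, hp, hx⟩
    exact ⟨K, inferInstance, x, hp, (key K x).2 hx⟩

/-- the torus is contained in the subgroup -/
def Tor {f : S' ⟶ S} {H : Over S'} (h : H ⟶ Red.bc f G) : Prop :=
  Pt h (pullback.snd D.T.hom f) (pullback.fst D.T.hom f ≫ D.i.left)

lemma tor_iff {f : S' ⟶ S} {H : Over S'} (h : H ⟶ Red.bc f G) :
    (∃ t : (splitBc f D).T ⟶ H, t ≫ h = (splitBc f D).i) ↔ Tor D h := by
  rw [exists_fac_iff]
  have h1 : (splitBc f D).i.left ≫ pullback.fst G.hom f = pullback.fst D.T.hom f ≫ D.i.left :=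
    pullback.lift_fst _ _ _
  rw [h1]
  exact Iff.rfl

lemma Tor.congr {f : S' ⟶ S} {H H' : Over S'} {h : H ⟶ Red.bc f G} {h' : H' ⟶ Red.bc f G}
    (e : ∀ (X : Scheme.{u}) (y : X ⟶ S') (c : X ⟶ G.left), Pt h y c ↔ Pt h' y c) (ht : Tor D h) : Tor D h' :=
  (e _ _ _).1 ht

lemma Tor.pull (q : S'' ⟶ S') {f : S' ⟶ S} {f' : S'' ⟶ S} (hf : q ≫ f = f') {H : Over S'}
    {H' : Over S''} {h : H ⟶ Red.bc f G} {h' : H' ⟶ Red.bc f' G}
    (e : ∀ (X : Scheme.{u}) (y : X ⟶ S'') (c : X ⟶ G.left), Pt h' y c ↔ Pt h (y ≫ q) c) (ht : Tor D h) :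
    Tor D h' := by
  subst hf
  have h1 := Pt.comp ht (pullback.lift (pullback.fst D.T.hom (q ≫ f)) (pullback.snd D.T.hom (q ≫ f) ≫ q) (by
    rw [pullback.condition, Category.assoc]) : pullback D.T.hom (q ≫ f) ⟶ pullback D.T.hom f)
  rw [pullback.lift_snd, ← Category.assoc, pullback.lift_fst] at h1
  exact (e _ _ _).2 h1

/-- **The class**: type (R), contains the torus, with set of roots `R'`. -/
structure Md (R' : Set D.idx) {f : S' ⟶ S} {H : Over S'} [GrpObj H] (h : H ⟶ Red.bc f G) : Prop where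
  typeR : RedSub.IsTypeR h
  tor : Tor D h
  mem : ∀ a ∈ R', E (splitBc f D) h a = Set.univ
  nmem : ∀ a ∉ R', E (splitBc f D) h a = ∅

variable {D} {R' : Set D.idx}

theorem Md.of_pull (q : S'' ⟶ S') {f : S' ⟶ S} {f' : S'' ⟶ S} (hf : q ≫ f = f') {H : Over S'} [GrpObj H]
    {H' : Over S''} [GrpObj H'] {h : H ⟶ Red.bc f G} {h' : H' ⟶ Red.bc f' G} (hM : Md D R' h)
    (hR : RedSub.IsTypeR h')
    (e : ∀ (X : Scheme.{u}) (y : X ⟶ S'') (c : X ⟶ G.left), Pt h' y c ↔ Pt h (y ≫ q) c) : Md D R' h' where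
  typeR := hR
  tor := hM.tor.pull D q hf e
  mem a ha := by
    rw [Set.eq_univ_iff_forall]
    intro σ
    rw [mem_E_pull D q hf h h' e, hM.mem a ha]
    trivial
  nmem a ha := by
    rw [Set.eq_empty_iff_forall_notMem]
    intro σ
    rw [mem_E_pull D q hf h h' e, hM.nmem a ha]
    exact fun hh => hh

theorem Md.bcSub (q : S'' ⟶ S') {f : S' ⟶ S} {H : Over S'} [GrpObj H] {h : H ⟶ Red.bc f G} (hM : Md D R' h) :
    Md D R' (bcSub q h) :=
  hM.of_pull q rfl (K199.TypeRPull.isTypeR_bcSub q D.reductive hM.typeR) fun X y c => pt_bcSub q h y c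

/-- **Uniqueness.** -/
theorem Md.same {f : S' ⟶ S} {H H' : Over S'} [GrpObj H] [GrpObj H'] {h : H ⟶ Red.bc f G} {h' : H' ⟶ Red.bc f G}
    (hM : Md D R' h) (hM' : Md D R' h') (X : Scheme.{u}) (y : X ⟶ S') (c : X ⟶ G.left) : Pt h y c ↔ Pt h' y c := by
  have key : ∀ {H H' : Over S'} [GrpObj H] [GrpObj H'] {h : H ⟶ Red.bc f G} {h' : H' ⟶ Red.bc f G}
      (hM : Md D R' h) (hM' : Md D R' h') (X : Scheme.{u}) (y : X ⟶ S') (c : X ⟶ G.left), Pt h y c → Pt h' y c := by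
    intro H H' _ _ h h' hM hM' X y c hc
    have m1 := hM.typeR.1.1
    have m2 := hM'.typeR.1.1
    have i1 := hM.typeR.1.2
    have i2 := hM'.typeR.1.2
    have s1 := hM.typeR.2.1
    have s2 := hM'.typeR.2.1
    obtain ⟨t, ht⟩ := (tor_iff D h).2 hM.tor
    obtain ⟨t', ht'⟩ := (tor_iff D h').2 hM'.tor
    obtain ⟨v, hv⟩ := K195.Le.exists_le_of_E (splitBc f D) h h' hM.typeR.2.2.2.1 t ht t' ht' (fun a => by
      by_cases ha : a ∈ R'
      · rw [hM'.mem a ha]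
        exact Set.subset_univ _
      · rw [hM.nmem a ha]
        exact Set.empty_subset _)
    obtain ⟨p, hp1, hp2⟩ := hc
    refine ⟨p ≫ v.left, ?_, ?_⟩
    · rw [Category.assoc, Over.w v, hp1]
    · rw [Category.assoc, ← Category.assoc v.left, ← Over.comp_left, hv, hp2]
  exact ⟨key hM hM' X y c, key hM' hM X y c⟩

end K194.MdPt
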