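import Groth.Agent.RedSub.K194.InfLevel
import Groth.Agent.RedSub.K194.RelDesc
import Groth.Agent.RedSub.H647.SubF

/-!
# The natural map from the functor of subgroups to a projective space
-/

set_option autoImplicit false

open CategoryTheory Limits MonoidalCategory CartesianMonoidalCategory MonObj GrpObj AlgebraicGeometry Opposite

universe u

namespace K194.PhiMap

open Groth.Agent.RedSub.H647.SubPt Groth.Agent.RedSub.H647.SubF K194.InfK K194.Perp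
  Groth.Agent.Sga3B Groth.Agent.Sga3B.MT Groth.Agent.Fga.GrassBasic
  Groth.Agent.Fga.RingFunBasic Groth.Agent.Fga.RingFunRep Groth.Agent.Fga.Grass

variable {S : Scheme.{u}} {G : Over S} [GrpObj G] (𝒬 : SubClass G)
  {κ : Type} [Fintype κ] [DecidableEq κ] {k : ℕ} {e : κ → Γ(G.left, ⊤)} {P : Scheme.{u}}
  (r : Rep (grFun.{u} (κ ⊕ κ) (Fintype.card κ)) P)

/-- `t` is the map to the Grassmannian given by `x`. -/
def IsPhi (k : ℕ) (e : κ → Γ(G.left, ⊤)) {T : Over S} (x : 𝒬.subsF.obj (op T)) (t : T.left ⟶ P) : Prop :=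
  ∃ (H : Over T.left) (_ : GrpObj H) (h : H ⟶ Red.bc T.hom G) (hQ : 𝒬.Q T.hom h), 𝒬.ofSub hQ = x ∧
    ∀ (C : CommRingCat.{u}) (c : Spec C ⟶ T.left), (r.e C (c ≫ t)).1 = dbl (K k e h c)

omit [DecidableEq κ] in
lemma IsPhi.unique {T : Over S} {x : 𝒬.subsF.obj (op T)} {t t' : T.left ⟶ P} (h : IsPhi 𝒬 r k e x t)
    (h' : IsPhi 𝒬 r k e x t') : t = t' := by
  obtain ⟨H, _, h, hQ, e1, e2⟩ := h
  obtain ⟨H', _, h', hQ', e1', e2'⟩ := h'
  have e3 := (𝒬.ofSub_eq_iff hQ hQ').1 (e1.trans e1'.symm)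
  apply r.fam_injective
  ext C c
  apply Subtype.ext
  change (r.e C (c ≫ t)).1 = (r.e C (c ≫ t')).1
  rw [e2, e2']
  congr 1
  exact K_eq_of_pt fun Q ψ γ _ => e3 _ _ _

omit [DecidableEq κ] in
lemma IsPhi.map {T T' : Over S} (g : T' ⟶ T) {x : 𝒬.subsF.obj (op T)} {t : T.left ⟶ P} (h : IsPhi 𝒬 r k e x t) :
    IsPhi 𝒬 r k e (𝒬.subsF.map g.op x) (g.left ≫ t) := by
  obtain ⟨H, _, h, hQ, rfl, e2⟩ := h
  obtain ⟨H', _, h', hQ', e1'⟩ := 𝒬.exists_ofSub (𝒬.subsF.map g.op (𝒬.ofSub hQ))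
  have e3 := (𝒬.map_ofSub_eq_iff g hQ hQ').1 e1'.symm
  refine ⟨H', _, h', hQ', e1', fun C c => ?_⟩
  rw [← Category.assoc, e2]
  congr 1
  refine K_eq_of_pt fun Q ψ γ _ => ?_
  rw [e3, Category.assoc]

variable [IsAffine G.left] (he : Gen G k e) (hk : k ≠ 0)
  (hsm : ∀ {S' : Scheme.{u}} {f : S' ⟶ S} {H : Over S'} [GrpObj H] {h : H ⟶ Red.bc f G}, 𝒬.Q f h → Smooth H.hom)

include he hk hsm in
lemma exists_isPhi {T : Over S} (x : 𝒬.subsF.obj (op T)) : ∃ t, IsPhi 𝒬 r k e x t := by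
  obtain ⟨H, _, h, hQ, e1⟩ := 𝒬.exists_ofSub x
  have := 𝒬.isMonHom hQ
  have := 𝒬.mono hQ
  have := hsm hQ
  obtain ⟨t, ht, -⟩ := exists_map (h := h) (goodPt he hk) r
  exact ⟨t, H, _, h, hQ, e1, ht⟩

variable {N : ℕ} (c : P ⟶ CohB1.ProjSpace N (ULift.{u} ℤ))

/-- The map to the Grassmannian. -/
noncomputable def tφ {T : Over S} (x : 𝒬.subsF.obj (op T)) : T.left ⟶ P :=
  (exists_isPhi 𝒬 r he hk hsm x).choose

lemma isPhi_tφ {T : Over S} (x : 𝒬.subsF.obj (op T)) : IsPhi 𝒬 r k e x (tφ 𝒬 r he hk hsm x) :=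
  (exists_isPhi 𝒬 r he hk hsm x).choose_spec

lemma tφ_map {T T' : Over S} (g : T' ⟶ T) (x : 𝒬.subsF.obj (op T)) :
    tφ 𝒬 r he hk hsm (𝒬.subsF.map g.op x) = g.left ≫ tφ 𝒬 r he hk hsm x :=
  IsPhi.unique 𝒬 r (isPhi_tφ 𝒬 r he hk hsm _) ((isPhi_tφ 𝒬 r he hk hsm x).map 𝒬 r g)

/-- The map from the relative projective space to the absolute one. -/
noncomputable def ft (N : ℕ) (S : Scheme.{u}) :
    (Over.mk (CohB1.ProjSpaceOver.toBase N S)).left ⟶ CohB1.ProjSpace N (ULift.{u} ℤ) := pullback.fst _ _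

omit [GrpObj G] in
lemma ext_ft {T : Scheme.{u}} (a b : T ⟶ (Over.mk (CohB1.ProjSpaceOver.toBase N S)).left)
    (h1 : a ≫ ft N S = b ≫ ft N S)
    (h2 : a ≫ (Over.mk (CohB1.ProjSpaceOver.toBase N S)).hom = b ≫ (Over.mk (CohB1.ProjSpaceOver.toBase N S)).hom) :
    a = b := pullback.hom_ext h1 h2

/-- The map to the projective space. -/
noncomputable def φ (T : Over S) (x : 𝒬.subsF.obj (op T)) : T ⟶ Over.mk (CohB1.ProjSpaceOver.toBase N S) :=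
  Over.homMk (pullback.lift (tφ 𝒬 r he hk hsm x ≫ c) T.hom (specULiftZIsTerminal.hom_ext _ _))
    (pullback.lift_snd _ _ _)

lemma φ_fst (T : Over S) (x : 𝒬.subsF.obj (op T)) :
    (φ 𝒬 r he hk hsm c T x).left ≫ ft N S = tφ 𝒬 r he hk hsm x ≫ c := pullback.lift_fst _ _ _

lemma φ_map (T T' : Over S) (g : T' ⟶ T) (x : 𝒬.subsF.obj (op T)) :
    φ 𝒬 r he hk hsm c T' (𝒬.subsF.map g.op x) = g ≫ φ 𝒬 r he hk hsm c T x := by
  apply Over.OverMorphism.ext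
  apply ext_ft
  · rw [Over.comp_left, Category.assoc, φ_fst, φ_fst, tφ_map, Category.assoc]
  · exact (Over.w (φ 𝒬 r he hk hsm c T' (𝒬.subsF.map g.op x))).trans (Over.w (g ≫ φ 𝒬 r he hk hsm c T x)).symm

end K194.PhiMap
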