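import Groth.Agent.RedSub.K194.Refl
import Groth.Agent.Sga3B.RootScheme876

/-!
# Root homomorphisms over an affine base: the universal point; uniqueness
-/

set_option autoImplicit false
universe u

open CategoryTheory MonoidalCategory CartesianMonoidalCategory MonObj GrpObj AlgebraicGeometry Limits
open Polynomial

namespace K194.RootUniv

open Groth.Agent.Sga3B Groth.Agent.Sga3B.Cell Groth.Agent.Sga3B.PinMod
open Groth.Agent.Sga3B.PinFinal Groth.Agent.Sga3B.DSPts Groth.Agent.Sga3B.GaPts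

variable {R : Type u} [CommRing R]

/-- the universal point of `𝔾_a` over `Spec R` -/
noncomputable abbrev univ (R : Type u) [CommRing R] : tB (𝟙 (Spec (CommRingCat.of R))) R[X] ⟶ Red.Ga (Spec (CommRingCat.of R)) :=
  gaPt (tB (𝟙 (Spec (CommRingCat.of R))) R[X]) (fnOf (𝟙 _) (X : R[X]))

instance isIso_univ : IsIso (univ R) := by
  have h1 := isPullback_ga (𝟙 (Spec (CommRingCat.of R)))
  have : IsIso ((Over.forget _).map (univ R)) := h1.isIso_fst_of_isIso
  exact isIso_of_reflects_iso (univ R) (Over.forget _)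

variable {G H : Over (Spec (CommRingCat.of R))}

lemma lift_iff_univ (h : H ⟶ G) (v : Red.Ga (Spec (CommRingCat.of R)) ⟶ G) :
    (∃ w : Red.Ga (Spec (CommRingCat.of R)) ⟶ H, w ≫ h = v) ↔
      ∃ y : tB (𝟙 (Spec (CommRingCat.of R))) R[X] ⟶ H, y ≫ h = univ R ≫ v := by
  constructor
  · rintro ⟨w, rfl⟩
    exact ⟨univ R ≫ w, Category.assoc _ _ _⟩
  · rintro ⟨y, hy⟩
    exact ⟨inv (univ R) ≫ y, by rw [Category.assoc, hy, IsIso.inv_hom_id_assoc]⟩

variable [GrpObj G]

/-- **Uniqueness of root homomorphisms.** -/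
theorem exists_scale [Nontrivial R] (D : Red.SplitRed G) {m : D.M} (hm : m ≠ 0)
    {v : Red.Ga (Spec (CommRingCat.of R)) ⟶ G}
    (hv : Red.IsRootHom D.i (D.split.hom.hom.hom ≫ Red.chi (Spec (CommRingCat.of R)) m) v) :
    ∃ a, D.P.root a = m ∧ ∃ σ : Red.Ga (Spec (CommRingCat.of R)) ⟶ Red.Ga (Spec (CommRingCat.of R)), σ ≫ v = D.u a := by
  have hne : Nonempty (Spec (CommRingCat.of R)) := inferInstanceAs (Nonempty (PrimeSpectrum R))
  have hred : D.P.IsReduced := SplitReduced415.isReduced D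
  obtain ⟨b₀⟩ := BaseZ.nonempty_base (P := D.P)
  obtain ⟨a, rfl⟩ := RootScheme876.exists_root (D := { D with base := b₀ })
    (fun R _ s => PinModelOf.nonempty_pinModel _ R s) hm hv
  refine ⟨a, rfl, ?_⟩
  obtain ⟨b, hb⟩ := Refl.exists_base_mem D.P a
  let D' : Red.Pinning G := { D with base := b }
  obtain ⟨m₀⟩ := PinModelOf.nonempty_pinModel D' R (𝟙 _)
  obtain ⟨r, hr⟩ := RootScheme876.exists_unit D' hv m₀
  rw [lift_iff_univ]
  have h1 := hr R[X] (algebraMap R R[X] (r⁻¹ : Rˣ) * X)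
  rw [← _root_.mul_assoc, ← map_mul, Units.mul_inv, map_one, _root_.one_mul] at h1
  have h2 := m₀.pts_uu a hb R[X] X
  exact ⟨_, h1.symm.trans h2⟩

end K194.RootUniv
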