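import Groth.Agent.RedSub.K194.Main1
import Groth.Agent.Sga3B.Par.LeviProj
import Groth.Agent.Sga3B.MaxTorNear900
import Groth.Agent.Sga3B.TorClosed636
import Groth.Agent.RedSub.H634.TorusCent

/-!
# The projection of a Borel subgroup onto the torus; the normalizer of the torus in a solvable subgroup
-/

set_option autoImplicit false
universe u

open CategoryTheory MonoidalCategory CartesianMonoidalCategory MonObj GrpObj AlgebraicGeometry Limits

namespace K194.Semi

open Groth.Agent.Sga3B Groth.Agent.Sga3B.Parab Groth.Agent.Sga3B.Par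

variable {S : Scheme.{u}} {G P : Over S} [GrpObj G] [GrpObj P]

/-- `P_G(x) = T ⋉ U_G(x)` for a regular cocharacter `x`. -/
theorem exists_semi_torus (D : Red.SplitRed G) (x : Module.Dual ℤ D.M) (hx : ∀ a, x (D.P.root a) ≠ 0) (p : P ⟶ G)
    (hP : IsDynP (Par.coch D x) p) :
    ∃ (U : Over S) (_ : GrpObj U) (tp : D.T ⟶ P) (u : U ⟶ P), tp ≫ p = D.i ∧ LeviProj.IsSemi tp u ∧
      IsDynU (Par.coch D x) (u ≫ p) := by
  have : IsAffineHom G.hom := D.reductive.1
  have : LocallyOfFiniteType G.hom := by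
    have : Smooth G.hom := D.reductive.2.1
    infer_instance
  obtain ⟨U, _, u, hU, -⟩ := DynExist998.exists_isDynU (G := G) (lam := Par.coch D x)
  have hZ := Groth.Agent.RedSub.H634.TorusCent.isDynZ_of_regular D x hx
  obtain ⟨u', rfl⟩ := DynLevi998.exists_uP hP hU
  obtain ⟨tp, htp⟩ := DynLevi998.exists_zP hP hZ
  have hZ' : IsDynZ (Par.coch D x) (tp ≫ p) := by rw [htp]; exact hZ
  have := hP.mono
  have := hU.mono
  refine ⟨U, inferInstance, tp, u', htp, ⟨DynLevi998.isMonHom_zP hP hZ', DynLevi998.isMonHom_uP hP hU, ?_,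
    DynLevi998.isNormalHom_uP hP hU, DynLevi998.isIso_levi hP hZ' hU⟩, hU⟩
  exact mono_of_mono u' p

section norm

variable {H : Over S} [GrpObj H]

/-- A point of a solvable subgroup normalizing the torus is in the torus. -/
theorem exists_torus_of_normalizes [ConnectedSpace S] (D : Red.SplitRed G) (h : H ⟶ G) (hH : RedSub.IsTypeR h)
    (t : D.T ⟶ H) (ht : t ≫ h = D.i)
    (hs : ∀ s : S, Red.IsSolvableGrp (Red.geomFibre s H)) (X : Over S) (x : X ⟶ H)
    (hx : ∀ (X' : Over S) (y : X' ⟶ X) (s : X' ⟶ D.T),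
      ∃ s' : X' ⟶ D.T, (y ≫ x ≫ h) * (s ≫ D.i) * (y ≫ x ≫ h)⁻¹ = s' ≫ D.i) :
    ∃ s : X ⟶ D.T, s ≫ t = x := by
  obtain ⟨s₀⟩ : Nonempty S := inferInstance
  obtain ⟨b, hb⟩ := Main1.exists_base D h hH t ht (Red.geomPt s₀) (hs s₀)
  obtain ⟨lam, P, _, p, hreg, -, hP, -, v, hv⟩ := Main1.exists_le_borel D h hH t ht b hb
  obtain ⟨U, _, tp, u, htp, hsemi, -⟩ := exists_semi_torus D lam hreg p hP
  have := hH.1.1
  have := hP.isMonHom
  have := hP.mono
  have := hsemi.monHom_l
  have hm : Mono h := by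
    have := hH.1.2
    have : Mono h.left := inferInstance
    exact Over.mono_of_mono_left h
  have hcent := TorClosed636.isCentralizerOf_self D.reductive D.maximalTorus
  obtain ⟨s, hs'⟩ := (hcent.2.2 X (x ≫ h)).2 (by
    intro X' y τ
    obtain ⟨τ', hτ'⟩ := hx X' y τ
    -- the relation in `P`
    have h1 : (y ≫ x ≫ v) * (τ ≫ tp) = (τ' ≫ tp) * (y ≫ x ≫ v) := by
      rw [← cancel_mono p, MonObj.mul_comp, MonObj.mul_comp]
      simp only [Category.assoc, hv, htp]
      rw [← mul_inv_eq_iff_eq_mul]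
      exact hτ'
    have h2 := congrArg (fun g => g ≫ LeviProj.prL hsemi) h1
    simp only [LeviProj.mul_prL, LeviProj.fac_l_prL] at h2
    rw [MaxTorNear900.mul_comm_of_isTorus D.maximalTorus.2.2.1] at h2
    have h3 : τ = τ' := mul_right_cancel h2
    subst h3
    rw [← mul_inv_eq_iff_eq_mul]
    exact hτ')
  refine ⟨s, ?_⟩
  rw [← cancel_mono h, Category.assoc, ht, hs']

end norm

end K194.Semi
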