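import Groth.Agent.RedSub.K194.Fib
import Groth.Agent.RedSub.K194.GeomRoots
import Groth.Agent.RedSub.H634.BorelStd
import Groth.Agent.RedSub.H641.TypeRBc
import Groth.Agent.RedSub.H653.SolvRed
import Groth.Agent.Sga3B.BaseZ
import Groth.Agent.Sga3B.BorRP478
import Groth.Agent.S0351

/-!
# Subgroups of type (R) without opposite roots over an algebraically closed field are solvable
-/

set_option autoImplicit false
universe u

open CategoryTheory MonoidalCategory CartesianMonoidalCategory MonObj GrpObj AlgebraicGeometry Limits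

namespace K194.Solv

open Groth.Agent.Books.AffBridge Groth.Agent.Books.AffBridge2 Groth.Agent.Sga3B.DSPts Groth.Agent.Sga3B.GaPts
open Groth.Agent.Sga3B.AffPts Groth.Agent.Sga3B.DSAff Groth.Agent.Sga3B.SplitAlg144
open Groth.Agent.Sga3B Groth.Agent.Sga3B.RG Groth.Agent.Sga3B.RG.BrPts
open Groth.Agent.Sga3B.Parab Groth.Agent.Sga3B.Parab.PbGen Groth.Agent.Sga3B.Parab.PbLine
open Groth.Agent.Sga3B.Parab.BorelPts172
open Groth.Agent.Books.AlgPts Groth.Agent.Books.AlgPtsGrp Groth.Agent.Books.AlgPtsSmooth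
  Groth.Agent.Books.AlgPtsGen Groth.Agent.Books.AlgPtsIrred
open K194.Fib

variable {K : Type u} [Field K] [IsAlgClosed K]

section scheme

variable {A : Type u} [CommRing A] [HopfAlgebra K A] [Algebra.FiniteType K A]

/-- A closed connected subgroup of the group of points comes from a smooth connected closed subgroup scheme. -/
theorem exists_scheme {H : Subgroup (Pt K A)} (hcl : IsCl (H : Set (Pt K A))) (hc : IsConn (H : Set (Pt K A))) :
    ∃ (B : Over (Spec (CommRingCat.of K))) (_ : GrpObj B) (b : B ⟶ SpecOver K A) (_ : IsMonHom b),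
      IsClosedImmersion b.left ∧ Smooth B.hom ∧ ConnectedSpace B.left ∧ ptsSub b = H := by
  have hp : (vanIdeal (H : Set (Pt K A))).IsPrime := hc
  have hdom : IsDomain (A ⧸ vanIdeal (H : Set (Pt K A))) := (Ideal.Quotient.isDomain_iff_prime _).2 hp
  have hft : Algebra.FiniteType K (A ⧸ vanIdeal (H : Set (Pt K A))) := inferInstance
  obtain ⟨h1, h2⟩ := (isDomain_iff (K := K) (A ⧸ vanIdeal (H : Set (Pt K A)))).2 hdom
  have h3 : ptsSub (incl K (vanIdeal (H : Set (Pt K A)))) = H := by
    apply SetLike.coe_injective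
    rw [ptsSub_incl, hcl.eq]
  exact ⟨SpecOver K (A ⧸ vanIdeal (H : Set (Pt K A))), inferInstance,
    incl K (vanIdeal (H : Set (Pt K A))), inferInstance, inferInstance, h1, h2, h3⟩

end scheme

lemma connectedSpace_of_fibres {X : Over (Spec (CommRingCat.of K))} (h : RedSub.HasConnectedFibres X) :
    ConnectedSpace X.left := by
  let s : Spec (CommRingCat.of K) := (⊥ : PrimeSpectrum K)
  have h1 := h s
  have h2 : X.hom.base ⁻¹' {s} = Set.univ := by
    ext x
    simp only [Set.mem_preimage, Set.mem_singleton_iff, Set.mem_univ, iff_true]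
    exact Subsingleton.elim (α := PrimeSpectrum K) _ _
  rw [h2] at h1
  exact (connectedSpace_iff_univ).2 h1

lemma fibres_of_connectedSpace {X : Over (Spec (CommRingCat.of K))} [ConnectedSpace X.left] :
    RedSub.HasConnectedFibres X := by
  intro s
  have h2 : X.hom.base ⁻¹' {s} = Set.univ := by
    ext x
    simp only [Set.mem_preimage, Set.mem_singleton_iff, Set.mem_univ, iff_true]
    exact Subsingleton.elim (α := PrimeSpectrum K) _ _
  rw [h2]
  exact isConnected_univ

variable {G H : Over (Spec (CommRingCat.of K))} [GrpObj G] [GrpObj H]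

/-- the points of a root group contained in a subgroup -/
lemma rtPt_mem (D : Red.SplitRed G) {A : Type u} [CommRing A] [HopfAlgebra K A] (e : G ≅ SpecOver K A)
    [IsMonHom e.hom] (h : H ⟶ G) [IsMonHom h] (a : D.idx)
    (hv : ∃ v : Red.Ga (Spec (CommRingCat.of K)) ⟶ H, v ≫ h = D.u a) (s : K) :
    rtPt D e a s ∈ ptsSub (h ≫ e.hom) := by
  obtain ⟨v, hv⟩ := hv
  let x : SpecOver K K ⟶ Red.Ga (Spec (CommRingCat.of K)) := gaPt (SpecOver K K) ((fnSpec (R := K) K).symm s)
  refine ⟨(unitIso K).hom ≫ x ≫ v, ?_⟩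
  have h1 : x ≫ D.u a ≫ e.hom = specMap K ((Polynomial.aeval (R := K) s).comp (phiOf (D.u a) e)) := by
    rw [comp_phiOf, gaFn_gaPt, affPt_spec, ← AlgHom.comp_assoc]
    congr 2
    ext
    simp
  rw [ptEquiv_apply, Category.assoc, Category.assoc, ← Category.assoc v, hv, h1]
  rfl

/-- a root centralized by the subtorus given by `q` is killed by `q` -/
lemma eq_one_of_mem_Z (D : Red.SplitRed G) (d : Dat D) {r : ℕ}
    (q : Multiplicative (Fin d.n → ℤ) →* Multiplicative (Fin r → ℤ)) (a : D.idx)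
    (h : rtPt D d.e a 1 ∈ Z d.π q) : q (Multiplicative.ofAdd (d.ε (D.P.root a))) = 1 := by
  apply torChar_injective (K := K) r
  ext t
  rw [torChar_apply, torChar_apply, map_one, Units.val_one]
  have h1 := (Subgroup.mem_centralizer_iff.1 h) (Pt.map (piq d.π q) (torPt _ t)) ⟨_, rfl⟩
  have h2 : Pt.map (piq d.π q) (torPt _ t) = Pt.map d.π (torPt _ (t.comp q)) := by
    have := BrImg.map_torPt (K := K) q t
    rw [← this]
    rfl
  rw [h2] at h1
  have h3 := d.conj a 1 (t.comp q)
  rw [h1, mul_inv_cancel_right, _root_.mul_one] at h3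
  exact (rtPt_injective D d.e a h3).symm

/-- The relation between the roots killed by a corank one quotient of the character group. -/
lemma root_eq_or_eq_neg (D : Red.SplitRed G) {n : ℕ} (ε : D.M ≃+ (Fin n → ℤ)) {b : Multiplicative (Fin n → ℤ)}
    {r : ℕ} {q : Multiplicative (Fin n → ℤ) →* Multiplicative (Fin r → ℤ)} (hL : Line b q) {a c : D.idx}
    (ha : q (Multiplicative.ofAdd (ε (D.P.root a))) = 1) (hc : q (Multiplicative.ofAdd (ε (D.P.root c))) = 1) :
    c = a ∨ c = D.P.reflectionPerm a a := by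
  have hred : D.P.IsReduced := SplitReduced415.isReduced D
  have : Module.IsReflexive ℤ D.M := .of_isPerfPair D.P.toLinearMap
  have : IsAddTorsionFree D.M := .of_isTorsionFree ℤ D.M
  obtain ⟨k, hk⟩ := (hL.ker _).1 ha
  obtain ⟨l, hl⟩ := (hL.ker _).1 hc
  have h1 : ¬ LinearIndependent ℤ ![D.P.root a, D.P.root c] := by
    intro hli
    rw [LinearIndependent.pair_iff] at hli
    have h2 : l • D.P.root a + (-k) • D.P.root c = 0 := by
      apply ε.injective
      rw [map_add, map_zsmul, map_zsmul, map_zero]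
      have hk' : ε (D.P.root a) = k • b.toAdd := hk
      have hl' : ε (D.P.root c) = l • b.toAdd := hl
      rw [hk', hl', smul_smul, smul_smul, ← add_smul]
      have : l * k + -k * l = 0 := by ring
      rw [this, zero_smul]
    obtain ⟨h3, h4⟩ := hli _ _ h2
    have hk0 : k = 0 := by simpa using h4
    rw [hk0, zpow_zero] at hk
    have h5 : ε (D.P.root a) = 0 := hk
    exact D.P.ne_zero a ((map_eq_zero_iff ε ε.injective).1 h5)
  rcases hred.eq_or_eq_neg a c h1 with h2 | h2
  · exact Or.inl (D.P.root.injective h2.symm)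
  · right
    apply D.P.root.injective
    rw [D.P.root_reflectionPerm, D.P.reflection_apply_self, h2, neg_neg]

/-- A functional on the characters which is positive on a given root and vanishes on no root. -/
lemma exists_regular_pos {idx M : Type} [Fintype idx] [AddCommGroup M] [Module.Free ℤ M] [Module.Finite ℤ M]
    (P : RootPairing idx ℤ M (Module.Dual ℤ M)) [P.IsReduced] (R' : Set idx) (hR' : R'.Subsingleton) :
    ∃ x : Module.Dual ℤ M, (∀ a, x (P.root a) ≠ 0) ∧ ∀ a ∈ R', 0 < x (P.root a) := by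
  obtain ⟨f, hf⟩ := BaseZ.exists_functional P
  by_cases h : ∃ a ∈ R', f (P.root a) < 0
  · obtain ⟨a, ha, hfa⟩ := h
    refine ⟨(-f).toIntLinearMap, fun c => ?_, fun c hc => ?_⟩
    · change -(f (P.root c)) ≠ 0
      exact neg_ne_zero.2 (hf c)
    · change 0 < -(f (P.root c))
      rw [hR' hc ha]
      omega
  · push Not at h
    refine ⟨f.toIntLinearMap, hf, fun c hc => ?_⟩
    exact lt_of_le_of_ne (h c hc) (Ne.symm (hf c))

/-- The standard Borel subgroup of a regular functional. -/
theorem exists_borel {S : Scheme.{u}} {G : Over S} [GrpObj G] (D : Red.SplitRed G) (x : Module.Dual ℤ D.M)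
    (hx : ∀ a, x (D.P.root a) ≠ 0) : ∃ (P : Over S) (_ : GrpObj P) (p : P ⟶ G),
      IsDynP (Par.coch D x) p ∧ Red.IsBorel p ∧ (∃ t : D.T ⟶ P, t ≫ p = D.i) ∧
      ∀ a, 0 < x (D.P.root a) → ∃ v : Red.Ga S ⟶ P, v ≫ p = D.u a := by
  have hGa : IsAffineHom G.hom := D.reductive.1
  obtain ⟨P, _, p, hP, hcl⟩ := DynExist998.exists_isDynP (lam := Par.coch D x)
  have hB := Groth.Agent.RedSub.H634.BorelStd.isBorel_of_isDynP D x hx hP
  have heq : BorRP478.coch D x.toAddMonoidHom = Par.coch D x := by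
    rw [BorRP478.coch_eq]
    exact (Category.assoc _ _ _).symm
  refine ⟨P, inferInstance, p, hP, hB, ?_, fun a ha => ?_⟩
  · have hZ := Groth.Agent.RedSub.H634.TorusCent.isDynZ_of_regular D x hx
    exact DynLevi998.exists_zP hP hZ
  · exact BorRP478.exists_lift_P D (mu := x.toAddMonoidHom) (by rw [heq]; exact hP) a ha.le

/-- **The centralizer part.** Let `q` be a homomorphism of the character group to a free group such that the roots of
`H` killed by `q` form a subsingleton.  Then `H ∩ C(T_q)` is solvable. -/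
theorem isSolvable_inf_Z (D : Red.SplitRed G) (d : Dat D) (h : H ⟶ G) [IsMonHom h] [IsClosedImmersion h.left]
    [Smooth H.hom] [ConnectedSpace H.left] (t : D.T ⟶ H) (ht : t ≫ h = D.i) {r : ℕ}
    (q : Multiplicative (Fin d.n → ℤ) →* Multiplicative (Fin r → ℤ))
    (hq : IsTorusSub (Pt.map (piq d.π q)).range)
    (hsub : {a : D.idx | (∃ v : Red.Ga (Spec (CommRingCat.of K)) ⟶ H, v ≫ h = D.u a) ∧
      q (Multiplicative.ofAdd (d.ε (D.P.root a))) = 1}.Subsingleton) :
    Group.IsSolvable (ptsSub (h ≫ d.e.hom) ⊓ Z d.π q : Subgroup (Pt K d.A)) := by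
  have he : IsIso d.e.hom.left := inferInstanceAs (IsIso ((Over.forget _).map d.e.hom))
  have hcl : IsClosedImmersion (h ≫ d.e.hom).left := by
    rw [Over.comp_left]
    infer_instance
  have hT : IsTorusSub (Pt.map d.π).range := ⟨d.n, d.π, d.surj, rfl⟩
  have hTH : (Pt.map d.π).range ≤ ptsSub (h ≫ d.e.hom) := by
    rw [← d.range_eq]
    exact ptsSub_le_of_comp (D.i ≫ d.e.hom) (h ≫ d.e.hom) t (by rw [← Category.assoc, ht])
  have hHcl : IsCl (ptsSub (h ≫ d.e.hom) : Set (Pt K d.A)) := (exists_iso_vanIdeal (h ≫ d.e.hom)).1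
  have hHc : IsConn (ptsSub (h ≫ d.e.hom) : Set (Pt K d.A)) := isConn_ptsSub (h ≫ d.e.hom)
  have hle : (Pt.map (piq d.π q)).range ≤ ptsSub (h ≫ d.e.hom) := range_piq_le.trans hTH
  have hXcl := isCl_centralizer_inf hHcl hq
  have hXc := isConn_centralizer_inf hHcl hHc hq hle
  obtain ⟨B, _, b, hbm, hb1, hb2, hb3, hb4⟩ := exists_scheme hXcl hXc
  have hTZ : (Pt.map d.π).range ≤ Z d.π q := range_le_Z d.surj
  let h₁ : B ⟶ G := b ≫ d.e.inv
  have heinv : IsMonHom d.e.inv := inferInstance
  have heinvl : IsIso d.e.inv.left := inferInstanceAs (IsIso ((Over.forget _).map d.e.inv))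
  have hh₁ : IsMonHom h₁ := inferInstance
  have hh₁cl : IsClosedImmersion h₁.left := by
    change IsClosedImmersion (b ≫ d.e.inv).left
    rw [Over.comp_left]
    infer_instance
  have hbe : h₁ ≫ d.e.hom = b := by
    change (b ≫ d.e.inv) ≫ d.e.hom = b
    rw [Category.assoc, Iso.inv_hom_id, Category.comp_id]
  have hsmT : Smooth D.T.hom := TorusAlgClosed.smooth_of_isTorus D.maximalTorus.2.2.1
  have heinj : Mono d.e.hom := inferInstance
  -- the torus
  obtain ⟨t₁, ht₁⟩ : ∃ t₁ : D.T ⟶ B, t₁ ≫ h₁ = D.i := by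
    obtain ⟨t₁, ht₁⟩ := exists_factor_of_le (D.i ≫ d.e.hom) b (by
      rw [hb4, d.range_eq]
      exact le_inf hTZ hTH)
    refine ⟨t₁, ?_⟩
    rw [← cancel_mono d.e.hom, Category.assoc, hbe, ht₁]
  -- the inclusion in `H`
  obtain ⟨f, hf⟩ : ∃ f : B ⟶ H, f ≫ h = h₁ := by
    obtain ⟨f, hf⟩ := exists_factor_of_le b (h ≫ d.e.hom) (by
      rw [hb4]
      exact inf_le_right)
    refine ⟨f, ?_⟩
    rw [← cancel_mono d.e.hom, Category.assoc, hf, hbe]
  -- the roots
  let R₁ : Set D.idx := {a | ∃ v : Red.Ga (Spec (CommRingCat.of K)) ⟶ B, v ≫ h₁ = D.u a}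
  have hR₁ : R₁.Subsingleton := by
    refine hsub.anti ?_
    rintro a ⟨v, hv⟩
    refine ⟨⟨v ≫ f, by rw [Category.assoc, hf, hv]⟩, ?_⟩
    apply eq_one_of_mem_Z D d q a
    have h2 := rtPt_mem D d.e h₁ a ⟨v, hv⟩ 1
    have h3 : rtPt D d.e a 1 ∈ ptsSub b := by
      obtain ⟨n, hn⟩ := h2
      exact ⟨n, by rw [← hn, hbe]⟩
    rw [hb4] at h3
    exact h3.1
  have hred : D.P.IsReduced := SplitReduced415.isReduced D
  obtain ⟨x, hx, hxR⟩ := exists_regular_pos D.P R₁ hR₁
  obtain ⟨P, _, p, -, hP, ⟨tp, htp⟩, hPu⟩ := exists_borel D x hx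
  have hpm : IsMonHom p := hP.1
  have hpcl : IsClosedImmersion p.left := hP.2.1
  have hpmono : Mono p := Over.mono_of_mono_left p
  have hconn : ConnectedSpace (Spec (CommRingCat.of K)) := inferInstanceAs (ConnectedSpace (PrimeSpectrum K))
  obtain ⟨v, hv⟩ := Groth.Agent.RedSub.H635.Uniq.exists_le D h₁
    (fibres_of_connectedSpace (X := B)) t₁ ht₁ p tp htp (fun a ha => hPu a (hxR a ha))
  -- the Borel subgroup is solvable
  have hsol : Red.IsSolvableGrp P := by
    exact (AlgBc.isBorel_iff.1 hP).2.2.2.2.1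
  have hBsol : Red.IsSolvableGrp B := by
    have hvm : IsMonHom v := by
      have : IsMonHom (v ≫ p) := by rw [hv]; infer_instance
      exact DynLevi998.isMonHom_of_comp_mono (u := v) (p := p)
    have hvmono : Mono v := by
      have : Mono (v ≫ p) := by rw [hv]; exact Over.mono_of_mono_left h₁
      exact mono_of_mono v p
    exact Groth.Agent.RedSub.H653.SolvRed.isSolvableGrp_of_mono v hsol
  have h5 := (isSolvableGrp_iff b).1 hBsol
  rw [hb4] at h5
  rw [inf_comm]
  exact h5

/-- **Theorem.** Over an algebraically closed field, a subgroup of type (R) containing the torus of a splitting which has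
no pair of opposite roots is solvable. -/
theorem isSolvableGrp_of_asymm (D : Red.SplitRed G) (h : H ⟶ G) (hH : RedSub.IsTypeR h) (t : D.T ⟶ H)
    (ht : t ≫ h = D.i)
    (hR : ∀ a, (∃ v : Red.Ga (Spec (CommRingCat.of K)) ⟶ H, v ≫ h = D.u a) →
      ¬ ∃ v : Red.Ga (Spec (CommRingCat.of K)) ⟶ H, v ≫ h = D.u (D.P.reflectionPerm a a)) :
    Red.IsSolvableGrp H := by
  obtain ⟨d⟩ := exists_dat D
  obtain ⟨⟨hm, himm⟩, hsm, -, hconn, -⟩ := hH
  have hcl0 : IsClosedImmersion h.left := Groth.Agent.S0351.result K H G h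
  have hc : ConnectedSpace H.left := connectedSpace_of_fibres hconn
  have he : IsIso d.e.hom.left := inferInstanceAs (IsIso ((Over.forget _).map d.e.hom))
  have hcl : IsClosedImmersion (h ≫ d.e.hom).left := by
    rw [Over.comp_left]
    infer_instance
  rw [isSolvableGrp_iff (h ≫ d.e.hom)]
  have hTH : (Pt.map d.π).range ≤ ptsSub (h ≫ d.e.hom) := by
    rw [← d.range_eq]
    exact ptsSub_le_of_comp (D.i ≫ d.e.hom) (h ≫ d.e.hom) t (by rw [← Category.assoc, ht])
  refine K194.SolvPts.isSolvable_of_lines d.π d.surj (exists_iso_vanIdeal (h ≫ d.e.hom)).1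
    (isConn_ptsSub (h ≫ d.e.hom)) hTH ?_ ?_
  · have hid : piq d.π (MonoidHom.id (Multiplicative (Fin d.n → ℤ))) = d.π := by
      refine DFunLike.ext _ _ fun a => ?_
      change MonoidAlgebra.mapDomainBialgHom K (MonoidHom.id _) (d.π a) = d.π a
      generalize d.π a = y
      induction y using MonoidAlgebra.induction_linear with
      | zero => rw [map_zero]
      | add y z hy hz => rw [map_add, hy, hz]
      | single m c => rw [MonoidAlgebra.mapDomainBialgHom_single]; rfl
    have h1 := isSolvable_inf_Z D d h t ht (MonoidHom.id (Multiplicative (Fin d.n → ℤ)))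
      (by rw [hid]; exact ⟨d.n, d.π, d.surj, rfl⟩) (by
        rintro a ⟨-, ha⟩ c -
        exfalso
        have h5 : d.ε (D.P.root a) = 0 := ha
        have : Module.IsReflexive ℤ D.M := .of_isPerfPair D.P.toLinearMap
        exact D.P.ne_zero a ((map_eq_zero_iff d.ε d.ε.injective).1 h5))
    have h2 : Z d.π (MonoidHom.id (Multiplicative (Fin d.n → ℤ))) =
        Subgroup.centralizer ((Pt.map d.π).range : Set (Pt K d.A)) := by
      rw [Z, hid]
    rw [← h2]
    exact h1
  · intro b r q hL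
    refine isSolvable_inf_Z D d h t ht q (isTorusSub_range d.surj hL) ?_
    rintro a ⟨ha, ha'⟩ c ⟨hc, hc'⟩
    rcases root_eq_or_eq_neg D d.ε hL ha' hc' with h1 | h1
    · exact h1.symm
    · exfalso
      rw [h1] at hc
      exact hR a ha hc

end K194.Solv
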