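import Groth.Agent.RedSub.K194.MdDesc
import Groth.Agent.RedSub.K199.RCBc
import Groth.Agent.RedSub.H636.TypeRExist
import Groth.Agent.S0351

/-!
# The locus where the subgroup of type (R) with a given set of roots exists

`exists_stratum`: for a split group over `Spec ℤ` and a set `R'` of roots such that over some non-empty scheme there is a
subgroup of type (R) containing the torus with set of roots `R'`, there is a closed subscheme `S₀` of `Spec ℤ` with a
universal such subgroup.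
-/

set_option autoImplicit false
universe u

open CategoryTheory MonoidalCategory CartesianMonoidalCategory MonObj GrpObj AlgebraicGeometry Limits Opposite

namespace K194.Stratum

open Groth.Agent Groth.Agent.Sga3B Groth.Agent.Sga3B.SplitBc264 Groth.Agent.RedSub.H635.Uniq
  Groth.Agent.RedSub.H647.SubPt Groth.Agent.RedSub.H647.SubF Groth.Agent.RedSub.H647.QCov Groth.Agent.Sga3B.MT
  K194.MdPt K194.MdDesc K199.RC

/-- the statement that a non closed set of roots forces the characteristic -/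
def CharStmt {S : Scheme.{u}} {G : Over S} [GrpObj G] (D : Red.SplitRed G) : Prop :=
  ∀ {a b c : D.idx} (_ : D.P.root c = D.P.root a + D.P.root b), ∃ p : ℕ, (p = 1 ∨ p = 2 ∨ p = 3) ∧
    ∀ (S' : Scheme.{u}) (f : S' ⟶ S) (H : Over S') [GrpObj H] (h : H ⟶ Red.bc f G), RedSub.IsTypeR h →
      ∀ t : (splitBc f D).T ⟶ H, t ≫ h = (splitBc f D).i → E (splitBc f D) h a = Set.univ →
        E (splitBc f D) h b = Set.univ → E (splitBc f D) h c = ∅ → (p : Γ(S', ⊤)) = 0

/-- the statement that subgroups of type (RC) are closed -/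
def ClosedStmt : Prop :=
  ∀ {S : Scheme.{u}} {G H : Over S} [GrpObj G] [GrpObj H] (_ : Red.IsReductive G) (h : H ⟶ G), RedSub.IsTypeR h →
    IsRC h → IsClosedImmersion h.left

variable {S : Scheme.{u}} {G : Over S} [GrpObj G] (D : Red.SplitRed G)

/-- a universal subgroup of type (R) containing the torus with set of roots `R'` -/
structure Str (R' : Set D.idx) where
  S₀ : Scheme.{u}
  i : S₀ ⟶ S
  Q : Over S₀
  [grp : GrpObj Q]
  q : Q ⟶ Red.bc i G
  closed_i : IsClosedImmersion i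
  lfp_i : LocallyOfFinitePresentation i
  md : Md D R' q
  closed_q : IsClosedImmersion q.left
  univ : ∀ (S' : Scheme.{u}) (f : S' ⟶ S) (H : Over S') [GrpObj H] (h : H ⟶ Red.bc f G), Md D R' h →
    ∃ w : S' ⟶ S₀, w ≫ i = f

attribute [instance] Str.grp

/-- there is such a subgroup over some non empty scheme -/
def Occurs (R' : Set D.idx) : Prop :=
  ∃ (S' : Scheme.{u}) (_ : Nonempty S') (f : S' ⟶ S) (H : Over S') (_ : GrpObj H) (h : H ⟶ Red.bc f G), Md D R' h

variable {D} {R' : Set D.idx}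

/-- The closed case. -/
theorem exists_str_of_closed [ConnectedSpace S] (hC : ClosedStmt.{u})
    (hcl : ∀ a b c : D.idx, a ∈ R' → b ∈ R' → D.P.root a + D.P.root b = D.P.root c → c ∈ R') :
    Nonempty (Str D R') := by
  obtain ⟨H, _, h, t, hR, ht, hR'⟩ := RedSub.H636.TypeRExist.exists_typeR D R' hcl
  have m1 := hR.1.1
  have m2 := hR.1.2
  have s1 := hR.2.1
  have hrc : IsRC h := by
    rw [isRC_iff_of_connected D h hR t ht]
    intro a b c ha hb habc
    rw [hR'] at ha hb ⊢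
    exact hcl a b c ha hb habc
  have hclh := hC D.reductive h hR hrc
  have hE1 : ∀ a ∈ R', E D h a = Set.univ := fun a ha => by
    rw [Set.eq_univ_iff_forall]
    intro σ
    exact mem_E_of_lift D h a ((hR' a).2 ha) σ
  have hE2 : ∀ a ∉ R', E D h a = ∅ := fun a ha => by
    rcases isClopen_iff.1 (isClopen_E D h t ht a) with h1 | h1
    · exact h1
    · exact absurd ((hR' a).1 (exists_lift_u D h t ht a h1)) ha
  refine ⟨{ S₀ := S, i := 𝟙 S, Q := Red.bc (𝟙 S) H, q := (Over.pullback (𝟙 S)).map h, closed_i := inferInstance,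
            lfp_i := inferInstance, md := ⟨RedSub.H648.TypeR.isTypeR_bc _ D.reductive hR, ?_, ?_, ?_⟩, closed_q := ?_,
            univ := fun S' f H _ h _ => ⟨f, Category.comp_id f⟩ }⟩
  · rw [← tor_iff]
    exact ⟨_, K195.Le.bc_torus D (𝟙 S) ht⟩
  · intro a ha
    rw [K195.Tang.E_bc, hE1 a ha]
    rfl
  · intro a ha
    rw [K195.Tang.E_bc, hE2 a ha]
    rfl
  · exact MorphismProperty.of_isPullback (P := @IsClosedImmersion) (SplitBc264.isPullback_map_left (𝟙 S) h) hclh

/-- transport along an equality of base points -/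
lemma md_cast {S' : Scheme.{u}} {f f' : S' ⟶ S} (hf : f = f') {H : Over S'} [GrpObj H] {h : H ⟶ Red.bc f G}
    (hM : Md D R' h) : ∃ (H' : Over S') (_ : GrpObj H') (h' : H' ⟶ Red.bc f' G), Md D R' h' := by
  subst hf
  exact ⟨H, inferInstance, h, hM⟩


lemma md_cast' {S' : Scheme.{u}} {f f' : S' ⟶ S} (hf : f = f') {H : Over S'} [GrpObj H] {h : H ⟶ Red.bc f G}
    (hM : Md D R' h) (hcl : IsClosedImmersion h.left) :
    ∃ (H' : Over S') (_ : GrpObj H') (h' : H' ⟶ Red.bc f' G), Md D R' h' ∧ IsClosedImmersion h'.left := by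
  subst hf
  exact ⟨H, inferInstance, h, hM, hcl⟩

/-- over a field every subgroup of type (R) is closed -/
lemma isClosed_field {k : Type u} [Field k] (f : Spec (CommRingCat.of k) ⟶ S) {H : Over (Spec (CommRingCat.of k))}
    [GrpObj H] {h : H ⟶ Red.bc f G} (hM : Md D R' h) : IsClosedImmersion h.left := by
  have m1 := hM.typeR.1.1
  have m2 := hM.typeR.1.2
  exact Groth.Agent.S0351.result k H (Red.bc f G) h

section Z

instance : ConnectedSpace (Spec (CommRingCat.of (ULift.{u} ℤ))) := by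
  have h1 : IsDomain (ULift.{u} ℤ) := ULift.ringEquiv.injective.isDomain _
  have h2 : IrreducibleSpace (PrimeSpectrum (ULift.{u} ℤ)) := inferInstance
  exact inferInstanceAs (ConnectedSpace (PrimeSpectrum (ULift.{u} ℤ)))

/-- the ideal -/
abbrev Ip (p : ℕ) : Ideal (ULift.{u} ℤ) := Ideal.span {(p : ULift.{u} ℤ)}

lemma isMaximal_Ip (p : ℕ) (hp : p.Prime) : (Ip.{u} p).IsMaximal := by
  have h1 : (Ideal.span {(p : ℤ)}).IsMaximal := by
    have h2 : Prime (p : ℤ) := Nat.prime_iff_prime_int.1 hp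
    exact PrincipalIdealRing.isMaximal_of_irreducible h2.irreducible
  have h2 : Ip.{u} p = (Ideal.span {(p : ℤ)}).map (ULift.ringEquiv.symm : ℤ ≃+* ULift.{u} ℤ) := by
    rw [Ideal.map_span, Set.image_singleton]
    simp
  rw [h2]
  exact Ideal.map_isMaximal_of_equiv _

/-- maps to `Spec 𝔽_p` -/
lemma exists_fac_p (p : ℕ) (S' : Scheme.{u}) (f : S' ⟶ Spec (CommRingCat.of (ULift.{u} ℤ)))
    (h : (p : Γ(S', ⊤)) = 0) :
    ∃ w : S' ⟶ Spec (CommRingCat.of (ULift.{u} ℤ ⧸ Ip.{u} p)),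
      w ≫ Spec.map (CommRingCat.ofHom (Ideal.Quotient.mk (Ip.{u} p))) = f := by
  let φ : ULift.{u} ℤ →+* Γ(S', ⊤) := (Int.castRingHom Γ(S', ⊤)).comp (ULift.ringEquiv : ULift.{u} ℤ ≃+* ℤ).toRingHom
  have hφ : ∀ a ∈ Ip.{u} p, φ a = 0 := by
    intro a ha
    obtain ⟨b, rfl⟩ := Ideal.mem_span_singleton'.1 ha
    rw [map_mul, map_natCast, h, mul_zero]
  refine ⟨S'.toSpecΓ ≫ Spec.map (CommRingCat.ofHom (Ideal.Quotient.lift _ φ hφ)), specULiftZIsTerminal.hom_ext _ _⟩

/-- **The universal subgroup exists on a closed subscheme of `Spec ℤ`.** -/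
theorem exists_str {G : Over (Spec (CommRingCat.of (ULift.{u} ℤ)))} [GrpObj G] {D : Red.SplitRed G}
    (hChar : CharStmt D) (hC : ClosedStmt.{u}) {R' : Set D.idx} (hocc : Occurs D R') : Nonempty (Str D R') := by
  by_cases hcl : ∀ a b c : D.idx, a ∈ R' → b ∈ R' → D.P.root a + D.P.root b = D.P.root c → c ∈ R'
  · exact exists_str_of_closed hC hcl
  push Not at hcl
  obtain ⟨a, b, c, ha, hb, habc, hc⟩ := hcl
  obtain ⟨p, hp, hchar⟩ := hChar habc.symm
  have key : ∀ (S' : Scheme.{u}) (f : S' ⟶ Spec (CommRingCat.of (ULift.{u} ℤ))) (H : Over S') [GrpObj H]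
      (h : H ⟶ Red.bc f G), Md D R' h → (p : Γ(S', ⊤)) = 0 := by
    intro S' f H _ h hM
    obtain ⟨t, ht⟩ := (tor_iff D h).2 hM.tor
    exact hchar S' f H h hM.typeR t ht (hM.mem a ha) (hM.mem b hb) (hM.nmem c hc)
  obtain ⟨S'₀, ⟨s⟩, f₀, H₀, _, h₀, hM₀⟩ := hocc
  have hp1 : p.Prime := by
    rcases hp with rfl | rfl | rfl
    · exfalso
      have h1 := key S'₀ f₀ H₀ h₀ hM₀
      have h2 : Subsingleton Γ(S'₀, ⊤) := subsingleton_of_zero_eq_one (by rw [← h1]; simp)
      have h3 : (S'₀.evaluation ⊤ s trivial).hom 1 = (S'₀.evaluation ⊤ s trivial).hom 0 :=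
        congrArg _ (Subsingleton.elim _ _)
      rw [map_one, map_zero] at h3
      exact one_ne_zero h3
    · exact Nat.prime_two
    · exact Nat.prime_three
  have hmax := isMaximal_Ip.{u} p hp1
  let _ : Field (ULift.{u} ℤ ⧸ Ip.{u} p) := Ideal.Quotient.field _
  let i := Spec.map (CommRingCat.ofHom (Ideal.Quotient.mk (Ip.{u} p)))
  obtain ⟨w₀, hw₀⟩ := exists_fac_p p S'₀ f₀ (key S'₀ f₀ H₀ h₀ hM₀)
  let K := S'₀.residueField s
  let x : Spec (CommRingCat.of K) ⟶ S'₀ := S'₀.fromSpecResidueField s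
  have hMx := hM₀.bcSub x
  obtain ⟨H₁, _, h₁, hM₁, hc₁⟩ := md_cast' (f' := (x ≫ w₀) ≫ i) (by rw [Category.assoc, hw₀]) hMx
    (isClosed_field _ hMx)
  have hfl : Flat (x ≫ w₀) := by
    obtain ⟨φ, hφ⟩ := Spec.map_surjective (x ≫ w₀)
    rw [← hφ, Flat.SpecMap_iff]
    algebraize [φ.hom]
    exact inferInstanceAs (Module.Flat (ULift.{u} ℤ ⧸ Ip.{u} p) K)
  have hsu : Surjective (x ≫ w₀) := by
    refine ⟨fun y => ⟨(⊥ : PrimeSpectrum K), ?_⟩⟩
    have : Subsingleton (Spec (CommRingCat.of (ULift.{u} ℤ ⧸ Ip.{u} p))) :=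
      inferInstanceAs (Subsingleton (PrimeSpectrum (ULift.{u} ℤ ⧸ Ip.{u} p)))
    exact Subsingleton.elim _ _
  obtain ⟨Q, _, q, hMq, hcq⟩ := exists_desc (x ≫ w₀) i hM₁ hc₁
  have hci : IsClosedImmersion i := IsClosedImmersion.spec_of_surjective _ Ideal.Quotient.mk_surjective
  have hlf : LocallyOfFinitePresentation i := by
    rw [HasRingHomProperty.Spec_iff (P := @LocallyOfFinitePresentation)]
    refine RingHom.FinitePresentation.of_surjective _ Ideal.Quotient.mk_surjective ?_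
    rw [CommRingCat.hom_ofHom, Ideal.mk_ker]
    exact ⟨{(p : ULift.{u} ℤ)}, by rw [Finset.coe_singleton]⟩
  exact ⟨{ S₀ := Spec (CommRingCat.of (ULift.{u} ℤ ⧸ Ip.{u} p)), i := i, Q := Q, q := q, closed_i := hci,
           lfp_i := hlf, md := hMq, closed_q := hcq,
           univ := fun S' f H _ h hM => exists_fac_p p S' f (key S' f H h hM) }⟩

end Z

end K194.Stratum
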